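import Cfsg.Agent.Lib.SylowSplit.Stable
import Cfsg.Prelude.Def_TwoFusion

/-!
A Sylow 2-subgroup which is the product of two commuting strongly closed subgroups: the projection and
its behaviour under conjugation.
-/

set_option autoImplicit false
set_option linter.unusedSectionVars false
set_option linter.style.haveILetI false

namespace Cfsg.Agent.ProdFusion

open Cfsg Cfsg.Agent.SylowSplit

universe u

variable {G : Type u} [Group G] [Finite G]

/-- A product decomposition of a Sylow 2-subgroup into strongly closed factors. -/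
structure Prod2 (P : Sylow 2 G) (S₁ S₂ : Subgroup G) : Prop where
  prod : IsInternalDirectProduct S₁ S₂ (P : Subgroup G)
  cl₁ : IsStronglyClosed S₁ (P : Subgroup G)
  cl₂ : IsStronglyClosed S₂ (P : Subgroup G)

namespace Prod2

variable {P : Sylow 2 G} {S₁ S₂ : Subgroup G}

theorem symm (D : Prod2 P S₁ S₂) : Prod2 P S₂ S₁ :=
  ⟨⟨D.prod.2.1, D.prod.1, fun a ha b hb => (D.prod.2.2.1 b hb a ha).symm,
    by rw [inf_comm]; exact D.prod.2.2.2.1, by rw [sup_comm]; exact D.prod.2.2.2.2⟩, D.cl₂, D.cl₁⟩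

theorem le₁ (D : Prod2 P S₁ S₂) : S₁ ≤ (P : Subgroup G) := D.prod.1

theorem le₂ (D : Prod2 P S₁ S₂) : S₂ ≤ (P : Subgroup G) := D.prod.2.1

theorem comm (D : Prod2 P S₁ S₂) {a b : G} (ha : a ∈ S₁) (hb : b ∈ S₂) : Commute a b :=
  D.prod.2.2.1 a ha b hb

theorem exists_split (D : Prod2 P S₁ S₂) {x : G} (hx : x ∈ (P : Subgroup G)) :
    ∃ a : S₁, (a : G)⁻¹ * x ∈ S₂ := by
  have h : S₁ ≤ Subgroup.normalizer (S₂ : Set G) := fun a ha =>
    Subgroup.centralizer_le_normalizer _ (Subgroup.mem_centralizer_iff.2 fun b hb => (D.comm ha hb).eq.symm)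
  rw [← D.prod.2.2.2.2, ← SetLike.mem_coe, Subgroup.coe_mul_of_left_le_normalizer_right S₁ S₂ h] at hx
  obtain ⟨a, ha, b, hb, rfl⟩ := hx
  exact ⟨⟨a, ha⟩, by simpa using hb⟩

theorem split_unique (D : Prod2 P S₁ S₂) {x : G} {a a' : S₁} (h : (a : G)⁻¹ * x ∈ S₂)
    (h' : (a' : G)⁻¹ * x ∈ S₂) : a = a' := by
  have h1 : (a : G)⁻¹ * a' ∈ S₁ ⊓ S₂ := by
    refine Subgroup.mem_inf.2 ⟨mul_mem (inv_mem a.2) a'.2, ?_⟩
    have := mul_mem h (inv_mem h')
    rwa [show (a : G)⁻¹ * x * ((a' : G)⁻¹ * x)⁻¹ = (a : G)⁻¹ * a' by group] at this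
  rw [D.prod.2.2.2.1, Subgroup.mem_bot] at h1
  exact Subtype.ext (inv_mul_eq_one.1 h1)

/-- The projection to the first factor. -/
noncomputable def π (D : Prod2 P S₁ S₂) : (P : Subgroup G) →* S₁ :=
  MonoidHom.mk' (fun x => Classical.choose (D.exists_split x.2)) fun x y => by
    refine D.split_unique (Classical.choose_spec (D.exists_split (x * y).2)) ?_
    have hx := Classical.choose_spec (D.exists_split x.2)
    have hy := Classical.choose_spec (D.exists_split y.2)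
    generalize Classical.choose (D.exists_split x.2) = a at hx ⊢
    generalize Classical.choose (D.exists_split y.2) = b at hy ⊢
    have h := mul_mem hx hy
    have hc : Commute ((a : G)⁻¹ * (x : G)) (b : G)⁻¹ := (D.comm (inv_mem b.2) hx).symm
    rw [show ((a : G)⁻¹ * (x : G)) * ((b : G)⁻¹ * (y : G)) =
      ((a : G)⁻¹ * (x : G)) * (b : G)⁻¹ * (y : G) by group, hc.eq] at h
    simpa [mul_assoc] using h

theorem π_spec (D : Prod2 P S₁ S₂) (x : (P : Subgroup G)) : (D.π x : G)⁻¹ * (x : G) ∈ S₂ :=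
  Classical.choose_spec (D.exists_split x.2)

theorem π_eq (D : Prod2 P S₁ S₂) {x : (P : Subgroup G)} {a : S₁} (h : (a : G)⁻¹ * (x : G) ∈ S₂) :
    D.π x = a :=
  D.split_unique (D.π_spec x) h

theorem π_eq_one_iff (D : Prod2 P S₁ S₂) (x : (P : Subgroup G)) : D.π x = 1 ↔ (x : G) ∈ S₂ :=
  ⟨fun h => by simpa [h] using D.π_spec x, fun h => D.π_eq (a := 1) (by simpa using h)⟩

theorem π_of_mem₁ (D : Prod2 P S₁ S₂) {x : (P : Subgroup G)} (h : (x : G) ∈ S₁) :
    (D.π x : G) = x := by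
  rw [D.π_eq (a := ⟨x, h⟩) (by simp)]

theorem π_mem (D : Prod2 P S₁ S₂) (x : (P : Subgroup G)) : (D.π x : G) ∈ (P : Subgroup G) :=
  D.le₁ (D.π x).2

/-- An element fused into a factor and lying in `P` lies in that factor. -/
theorem mem₁ (D : Prod2 P S₁ S₂) {y : G} (hy : y ∈ (P : Subgroup G)) (h : InR S₁ y) : y ∈ S₁ := by
  obtain ⟨g, hg⟩ := h
  have h1 := D.cl₁.2 _ hg g⁻¹ (by rwa [show g⁻¹ * (g * y * g⁻¹) * g⁻¹⁻¹ = y by group])
  rwa [show g⁻¹ * (g * y * g⁻¹) * g⁻¹⁻¹ = y by group] at h1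

theorem mem₂ (D : Prod2 P S₁ S₂) {y : G} (hy : y ∈ (P : Subgroup G)) (h : InR S₂ y) : y ∈ S₂ :=
  D.symm.mem₁ hy h

/-- Conjugation moving an element and its component into `P` maps the component to the component. -/
theorem π_conj (D : Prod2 P S₁ S₂) {x x' : (P : Subgroup G)} {g : G} (hg : g * (x : G) * g⁻¹ = x')
    (hπ : g * (D.π x : G) * g⁻¹ ∈ (P : Subgroup G)) : (D.π x' : G) = g * (D.π x : G) * g⁻¹ := by
  have h1 := D.cl₁.2 _ (D.π x).2 g hπ
  have e : g * ((D.π x : G)⁻¹ * (x : G)) * g⁻¹ = (g * (D.π x : G) * g⁻¹)⁻¹ * (x' : G) := by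
    rw [← hg]; group
  have h2 := D.cl₂.2 _ (D.π_spec x) g (by rw [e]; exact mul_mem (inv_mem hπ) x'.2)
  rw [e] at h2
  rw [D.π_eq (a := ⟨_, h1⟩) h2]

/-- Product fusion of single elements. -/
theorem exists_move (D : Prod2 P S₁ S₂) {x x' : (P : Subgroup G)} (h : IsConj (x : G) (x' : G)) :
    ∃ k : G, k * (x : G) * k⁻¹ = x' ∧ k * (D.π x : G) * k⁻¹ = D.π x' := by
  haveI : Fact (Nat.Prime 2) := ⟨Nat.prime_two⟩
  obtain ⟨g, hg⟩ := isConj_iff.1 h
  have hcx : ∀ z : (P : Subgroup G), Commute (D.π z : G) (z : G) := fun z => by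
    have h1 := (Commute.refl (D.π z : G)).mul_right (D.comm (D.π z).2 (D.π_spec z))
    rwa [mul_inv_cancel_left] at h1
  set C := Subgroup.centralizer ({(x' : G)} : Set G) with hC
  have haC : g * (D.π x : G) * g⁻¹ ∈ C := by
    refine Subgroup.mem_centralizer_singleton_iff.2 ?_
    have h1 := (hcx x).map (MulAut.conj g).toMonoidHom
    simp only [MulEquiv.coe_toMonoidHom, MulAut.conj_apply, hg] at h1
    exact h1.eq
  have hbC : (D.π x' : G) ∈ C := Subgroup.mem_centralizer_singleton_iff.2 (hcx x').eq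
  have hxC : (x' : G) ∈ C := Subgroup.mem_centralizer_singleton_iff.2 rfl
  have hpair : IsPGroup 2 (Subgroup.zpowers (⟨_, hbC⟩ : C) ⊔ Subgroup.zpowers (⟨_, hxC⟩ : C) : Subgroup C) :=
    pGroup_pair (by simpa only [← Subgroup.orderOf_coe] using two_elt_of_mem P.2 (D.π_mem x'))
      (by simpa only [← Subgroup.orderOf_coe] using two_elt_of_mem P.2 x'.2)
      (by
        have e : (⟨_, hbC⟩ : C) * ⟨_, hxC⟩ * (⟨_, hbC⟩ : C)⁻¹ = ⟨_, hxC⟩ :=
          Subtype.ext (mul_inv_eq_iff_eq_mul.2 (hcx x').eq)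
        rw [e]; exact Subgroup.mem_zpowers _)
  obtain ⟨T, hT⟩ := hpair.exists_le_sylow
  obtain ⟨c, hc⟩ := exists_conj_mem T (x := (⟨_, haC⟩ : C)) (by
    rw [← Subgroup.orderOf_coe]
    show ∃ k, orderOf (g * (D.π x : G) * g⁻¹) = 2 ^ k
    simpa only [BrauerSuzuki.orderOf_conj_eq] using two_elt_of_mem P.2 (D.π_mem x))
  obtain ⟨q, hq⟩ := exists_conj_le P (T.2.map C.subtype)
  have h1 := hq _ ⟨_, hc, rfl⟩
  have h2 := hq _ ⟨_, hT (Subgroup.mem_sup_left (Subgroup.mem_zpowers _)), rfl⟩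
  have h3 := hq _ ⟨_, hT (Subgroup.mem_sup_right (Subgroup.mem_zpowers _)), rfl⟩
  simp only [Subgroup.coe_subtype, Subgroup.coe_mul, Subgroup.coe_inv] at h1 h2 h3
  have hcx' : (c : G) * (x' : G) * (c : G)⁻¹ = x' :=
    mul_inv_eq_iff_eq_mul.2 (Subgroup.mem_centralizer_singleton_iff.1 c.2)
  have hx : (c : G) * g * (x : G) * ((c : G) * g)⁻¹ = x' := by
    rw [show (c : G) * g * (x : G) * ((c : G) * g)⁻¹ = (c : G) * (g * (x : G) * g⁻¹) * (c : G)⁻¹ by group,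
      hg, hcx']
  have e2 := D.π_conj (x := x') (x' := ⟨_, h3⟩) rfl h2
  have e1 := D.π_conj (x := x) (x' := ⟨_, h3⟩) (g := q * (c : G) * g) (by
      show q * (c : G) * g * (x : G) * (q * (c : G) * g)⁻¹ = q * (x' : G) * q⁻¹
      rw [show q * (c : G) * g * (x : G) * (q * (c : G) * g)⁻¹ =
        q * ((c : G) * g * (x : G) * ((c : G) * g)⁻¹) * q⁻¹ by group, hx])
    (by rwa [show q * (c : G) * g * (D.π x : G) * (q * (c : G) * g)⁻¹ =
      q * ((c : G) * (g * (D.π x : G) * g⁻¹) * (c : G)⁻¹) * q⁻¹ by group])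
  refine ⟨(c : G) * g, hx, (MulAut.conj q).injective ?_⟩
  show q * ((c : G) * g * (D.π x : G) * ((c : G) * g)⁻¹) * q⁻¹ = q * (D.π x' : G) * q⁻¹
  rw [← e2, e1]
  group

/-- Components have the same order at fused elements. -/
theorem orderOf_π (D : Prod2 P S₁ S₂) {x x' : (P : Subgroup G)} (h : IsConj (x : G) (x' : G)) :
    orderOf (D.π x) = orderOf (D.π x') := by
  obtain ⟨k, -, hk⟩ := D.exists_move h
  rw [← Subgroup.orderOf_coe, ← Subgroup.orderOf_coe, ← hk, BrauerSuzuki.orderOf_conj_eq]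

/-- Elements fused into different factors commute inside a 2-group. -/
theorem commute_of_pGroup (D : Prod2 P S₁ S₂) {T : Subgroup G} (hT : IsPGroup 2 T) {a b : G}
    (ha : a ∈ T) (hb : b ∈ T) (ha1 : InR S₁ a) (hb2 : InR S₂ b) : Commute a b := by
  obtain ⟨q, hq⟩ := exists_conj_le P hT
  have h := (D.comm (D.mem₁ (hq a ha) (ha1.conj q)) (D.mem₂ (hq b hb) (hb2.conj q))).map
    (MulAut.conj q⁻¹).toMonoidHom
  simpa [mul_assoc] using h

theorem inR_two_elt (D : Prod2 P S₁ S₂) {y : G} (h : InR S₂ y) : ∃ k, orderOf y = 2 ^ k := by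
  obtain ⟨g, hg⟩ := h
  obtain ⟨k, hk⟩ := two_elt_of_mem P.2 (D.le₂ hg)
  exact ⟨k, by rwa [BrauerSuzuki.orderOf_conj_eq] at hk⟩

end Prod2

/-- The 2-part of a product of two involutions. -/
theorem involution_product {g x : G} (hg : orderOf g = 2) (hx : orderOf x = 2) :
    ∃ y w b : G, g * x = y * w ∧ IsPPart 2 (g * x) y ∧ y = g * b ∧ IsConj x b ∧
      Commute w y ∧ g * w * g⁻¹ = w⁻¹ ∧ Odd (orderOf w) ∧
      IsPGroup 2 (Subgroup.zpowers g ⊔ Subgroup.zpowers y : Subgroup G) := by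
  have hg2 := mul_self_of_two hg
  have hx2 := mul_self_of_two hx
  have hgi : g⁻¹ = g := inv_eq_of_mul_eq_one_right hg2
  have hxi : x⁻¹ = x := inv_eq_of_mul_eq_one_right hx2
  obtain ⟨X, hX⟩ : ∃ X, X = g * x := ⟨_, rfl⟩
  rw [← hX]
  have hxX : x = g * X := by rw [hX, ← mul_assoc, hg2, one_mul]
  have hinv : g * X * g⁻¹ = X⁻¹ := by
    rw [hX, mul_inv_rev, hgi, hxi, ← mul_assoc g g, hg2, one_mul]
  obtain ⟨k, m, hm, hord⟩ := Nat.exists_eq_two_pow_mul_odd (orderOf_pos X).ne'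
  have hm0 : 0 < m := hm.pos
  obtain ⟨b', hb'⟩ := Nat.chineseRemainder (n := 2 ^ k) (m := m)
    ((Nat.coprime_two_left.2 hm).pow_left k) 1 0
  have hdvd : m ∣ b' := (Nat.modEq_zero_iff_dvd).1 hb'.2
  obtain ⟨d, rfl⟩ := hdvd
  have hy : ∃ i, orderOf (X ^ (m * d)) = 2 ^ i := by
    have : orderOf (X ^ (m * d)) ∣ 2 ^ k := orderOf_dvd_of_pow_eq_one (by
      rw [← pow_mul, show m * d * 2 ^ k = orderOf X * d by rw [hord]; ring, pow_mul, pow_orderOf_eq_one, one_pow])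
    obtain ⟨i, -, hi⟩ := (Nat.dvd_prime_pow Nat.prime_two).1 this
    exact ⟨i, hi⟩
  -- the complementary part is an even power
  obtain ⟨w, hw⟩ : ∃ w, w = (X ^ (m * d))⁻¹ * X := ⟨_, rfl⟩
  have hmw : X ^ (m * d) * w = X := by rw [hw, mul_inv_cancel_left]
  have hcw : Commute w (X ^ (m * d)) := by
    rw [hw]; exact ((Commute.refl (X ^ (m * d))).inv_left.mul_left (Commute.self_pow X _))
  have hwodd : Odd (orderOf w) := by
    have h1 : orderOf w ∣ m := orderOf_dvd_of_pow_eq_one (by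
      rw [hw, ((Commute.self_pow X _).inv_right.symm).mul_pow, inv_pow, inv_mul_eq_one, ← pow_mul,
        pow_eq_pow_iff_modEq, hord]
      refine (Nat.modEq_and_modEq_iff_modEq_mul ((Nat.coprime_two_left.2 hm).pow_left k)).1 ⟨?_, ?_⟩
      · simpa using hb'.1.mul_right m
      · exact (Nat.modEq_zero_iff_dvd.2 (dvd_mul_left m _)).trans (Nat.modEq_zero_iff_dvd.2 dvd_rfl).symm)
    exact Odd.of_dvd_nat hm h1
  obtain ⟨j, hj⟩ := hwodd
  have hawa : g * w * g⁻¹ = w⁻¹ := by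
    rw [hw, ← conj_mul, ← conj_inv, ← conj_pow, hinv, inv_pow, mul_inv_rev, inv_inv]
    exact ((Commute.self_pow X _).inv_left.symm).eq
  have hawj : g * w ^ (j + 1) * g⁻¹ = (w ^ (j + 1))⁻¹ := by rw [← conj_pow, hawa, inv_pow]
  refine ⟨X ^ (m * d), w, g * X ^ (m * d), hmw.symm,
    ⟨w, hmw, hcw.symm, hy, fun h => ?_⟩, by rw [← mul_assoc, hg2, one_mul], ?_, hcw, hawa, ⟨j, hj⟩, ?_⟩
  · rw [hj] at h; omega
  · refine isConj_iff.2 ⟨w ^ (j + 1), ?_⟩
    have e2 : w ^ (j + 1) * g = g * (w ^ (j + 1))⁻¹ := by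
      conv_rhs => rw [← hawj]
      rw [hgi, show g * (g * w ^ (j + 1) * g) = g * g * (w ^ (j + 1) * g) by group, hg2, one_mul]
    calc w ^ (j + 1) * x * (w ^ (j + 1))⁻¹
        = w ^ (j + 1) * g * (X ^ (m * d) * w) * (w ^ (j + 1))⁻¹ := by rw [hxX, hmw]; group
      _ = g * ((w ^ (j + 1))⁻¹ * (X ^ (m * d) * (w * (w ^ (j + 1))⁻¹))) := by rw [e2]; group
      _ = g * (X ^ (m * d) * ((w ^ (j + 1))⁻¹ * (w * (w ^ (j + 1))⁻¹))) := by
          rw [← mul_assoc (w ^ (j + 1))⁻¹, ((hcw.pow_left (j + 1)).inv_left).eq, mul_assoc]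
      _ = g * X ^ (m * d) := by
          have : (w ^ (j + 1))⁻¹ * (w * (w ^ (j + 1))⁻¹) = (w ^ (2 * j + 1))⁻¹ := by
            rw [show 2 * j + 1 = (j + 1) + j by ring, pow_add, pow_succ]
            group
          rw [this, show 2 * j + 1 = orderOf w by omega, pow_orderOf_eq_one, inv_one, mul_one]
  · refine pGroup_pair ⟨1, hg.trans (pow_one 2).symm⟩ hy ?_
    rw [← conj_pow, hinv, inv_pow]
    exact inv_mem (Subgroup.mem_zpowers _)

end Cfsg.Agent.ProdFusion
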