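import Cfsg.Agent.Lib.ProdFusion.Small

/-!
Product fusion for a four-group and a dihedral group of order at least eight.
-/

set_option autoImplicit false
set_option linter.unusedSectionVars false
set_option linter.style.haveILetI false

namespace Cfsg.Agent.ProdFusion

open Cfsg Cfsg.Agent.SylowSplit

universe u

variable {G : Type u} [Group G] [Finite G] {P : Sylow 2 G} {S₁ S₂ C₁ C₂ : Subgroup G} {v₁ v₂ : G}

/-- The first factor is permuted without fixed points by an element of the normaliser. -/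
structure Rot (P : Sylow 2 G) (S₁ S₂ C₁ C₂ : Subgroup G) (v₁ v₂ n : G) : Prop where
  small : Small P S₁ S₂ C₁ C₂ v₁ v₂
  mem : n ∈ Subgroup.normalizer ((P : Subgroup G) : Set G)
  maps : ∀ a ∈ S₁, n * a * n⁻¹ ∈ S₁
  fpf : ∀ a ∈ S₁, a ≠ 1 → n * a * n⁻¹ ≠ a

theorem conj_two (n a : G) : n * n * a * (n * n)⁻¹ = n * (n * a * n⁻¹) * n⁻¹ := by group

namespace Rot

variable {n : G}

theorem conj_ne_one (_E : Rot P S₁ S₂ C₁ C₂ v₁ v₂ n) {a : G} (ha : a ≠ 1) : n * a * n⁻¹ ≠ 1 :=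
  fun h => ha (conj_eq_one_iff.1 h)

theorem fpf₂ (E : Rot P S₁ S₂ C₁ C₂ v₁ v₂ n) {a : G} (ha : a ∈ S₁) (ha1 : a ≠ 1) :
    n * (n * a * n⁻¹) * n⁻¹ ≠ a := fun h =>
  E.fpf a ha ha1 (no_swap E.mem (E.small.comm₁ ha) rfl h).symm

theorem third (E : Rot P S₁ S₂ C₁ C₂ v₁ v₂ n) {a : G} (ha : a ∈ S₁) (ha1 : a ≠ 1) :
    n * (n * a * n⁻¹) * n⁻¹ = a * (n * a * n⁻¹) := by
  rcases E.small.pair.ax₁.four E.small.sq₁ (c := n * (n * a * n⁻¹) * n⁻¹) ha (E.maps a ha) (E.maps _ (E.maps a ha))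
    ha1 (E.conj_ne_one ha1) (E.fpf a ha ha1).symm with h | h | h | h
  · exact absurd h (E.conj_ne_one (E.conj_ne_one ha1))
  · exact absurd h (E.fpf₂ ha ha1)
  · exact absurd h (E.fpf _ (E.maps a ha) (E.conj_ne_one ha1))
  · exact h

theorem conj₁ (E : Rot P S₁ S₂ C₁ C₂ v₁ v₂ n) {a b : G} (ha : a ∈ S₁) (hb : b ∈ S₁) (ha1 : a ≠ 1)
    (hb1 : b ≠ 1) : IsConj a b := by
  rcases E.small.pair.ax₁.four E.small.sq₁ ha (E.maps a ha) hb ha1 (E.conj_ne_one ha1)
    (E.fpf a ha ha1).symm with h | h | h | h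
  · exact absurd h hb1
  · rw [h]
  · exact isConj_iff.2 ⟨n, h.symm⟩
  · exact isConj_iff.2 ⟨n * n, by rw [h, ← E.third ha ha1, conj_two]⟩

/-- The three classes of central involutions are different. -/
theorem not_conj (E : Rot P S₁ S₂ C₁ C₂ v₁ v₂ n) {a b : G} (ha : a ∈ S₁) (hb : b ∈ S₁) (ha1 : a ≠ 1)
    (hb1 : b ≠ 1) : ¬ IsConj a (b * v₂) := by
  intro h
  have D := E.small.pair
  have hc := E.small.central hb (Or.inr rfl : v₂ = 1 ∨ v₂ = v₂)
  obtain ⟨m, hm, e⟩ := central_conj (E.small.comm₁ hb) hc ((E.conj₁ hb ha hb1 ha1).trans h)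
  have e2 : m * (b * v₂) * m⁻¹ = b := by
    rw [← conj_mul, e, E.small.normalizer_fix hm, mul_assoc, mul_self_of_two D.ax₂.v2, mul_one]
  have := no_swap hm (E.small.comm₁ hb) e e2
  exact D.ax₂.v_ne (by simpa using this.symm)

theorem not_conj_v₂ (E : Rot P S₁ S₂ C₁ C₂ v₁ v₂ n) {a e : G} (ha : a ∈ S₁) (ha1 : a ≠ 1)
    (he : e = 1 ∨ e = v₂) : ¬ IsConj (a * e) v₂ := fun h => by
  have h1 := E.small.v₂_ne (E.small.central ha he) h.symm
  have h2 := E.small.pair.split_eq ha (one_mem _) (by rcases he with rfl | rfl; exacts [one_mem _, E.small.pair.ax₂.vS])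
    E.small.pair.ax₂.vS (h1.trans (one_mul v₂).symm)
  exact ha1 h2.1

/-- Each class of reflections has a lift fused to the central involution of the second factor. -/
theorem exists_lift (E : Rot P S₁ S₂ C₁ C₂ v₁ v₂ n) (hM : ∀ N : Subgroup G, N.Normal → N.index ≠ 2) {t : G}
    (ht : t ∈ S₂) (htC : t ∉ C₂) : ∃ a ∈ S₁, IsConj (a * t) v₂ := by
  classical
  have S := E.small
  have D := S.pair
  obtain ⟨ζ, hζP, hζ, hζ2, hXζ⟩ := S.lift_central hM (one_mem S₁) ht htC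
  rw [one_mul] at hXζ
  obtain ⟨k, hk, hkP⟩ := move hζ hXζ
  have hw := hkP v₂ (D.le₂ D.ax₂.vS) (D.v₂_central t (D.le₂ ht))
  have hw2 : k * v₂ * k⁻¹ * (k * v₂ * k⁻¹) = 1 := by
    rw [conj_mul, mul_self_of_two D.ax₂.v2, mul_one, mul_inv_cancel]
  rcases S.eq_central hw hw2 with ⟨α, hα, e, he, eq⟩ | ⟨α, hα, β, hβ, hβC, eq⟩
  · -- the central involution is fixed
    have e1 : k * v₂ * k⁻¹ = v₂ := S.v₂_ne (eq ▸ S.central hα he) (isConj_iff.2 ⟨k, rfl⟩)
    rcases S.eq_central hζP (mul_self_of_two hζ2) with ⟨a, ha, e', he', eqζ⟩ | ⟨a, ha, b, hb, hbC, eqζ⟩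
    · by_cases ha1 : a = 1
      · rw [ha1, one_mul] at eqζ
        rcases he' with rfl | rfl
        · rw [← eqζ, orderOf_one] at hζ2; omega
        · exact ⟨1, one_mem _, by rw [one_mul]; exact eqζ ▸ hXζ⟩
      · exfalso
        have h1 : IsConj ζ (ζ * v₂) := hXζ.symm.trans ((by simpa using S.flip (one_mem S₁) ht htC : IsConj t (t * v₂)).trans
          (isConj_iff.2 ⟨k, by rw [← conj_mul, hk, e1]⟩))
        rw [← eqζ, mul_assoc] at h1
        rcases he' with rfl | rfl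
        · rw [mul_one, one_mul] at h1; exact E.not_conj ha ha ha1 ha1 h1
        · rw [mul_self_of_two D.ax₂.v2, mul_one] at h1; exact E.not_conj ha ha ha1 ha1 h1.symm
    · exfalso
      have := hζ (a * b) (D.mem_P ha hb)
      have h2 : Commute ζ (S₁.subtype 1 * (S.root₂.choose)) := hζ _ (D.mem_P (S₁.one_mem) (D.ax₂.le S.root₂.choose_spec.1))
      rw [← eqζ] at h2
      have h3 := ((D.commute_iff ha (one_mem _) hb (D.ax₂.le S.root₂.choose_spec.1)).1 h2).2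
      exact hbC (D.ax₂.mem_C_of_commute hb S.root₂.choose_spec.1 h3 (D.ax₂.root_sq_ne S.root₂.choose_spec.2))
  · -- the images fill the elementary group
    let enc : G → S₁ × Bool × Bool → G := fun b x =>
      (x.1 : G) * ((if x.2.1 then v₂ else 1) * (if x.2.2 then b else 1))
    have henc2 : ∀ b ∈ S₂, ∀ x : S₁ × Bool × Bool,
        (if x.2.1 then v₂ else (1 : G)) * (if x.2.2 then b else 1) ∈ S₂ := fun b hb x => by
      refine mul_mem ?_ ?_ <;> split_ifs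
      exacts [D.ax₂.vS, one_mem _, hb, one_mem _]
    have hinj : ∀ b ∈ S₂, b ∉ C₂ → Function.Injective (enc b) := by
      intro b hb hbC x y h
      obtain ⟨h1, h2⟩ := D.split_eq x.1.2 y.1.2 (henc2 b hb x) (henc2 b hb y) h
      obtain ⟨x1, x2, x3⟩ := x
      obtain ⟨y1, y2, y3⟩ := y
      obtain rfl : x1 = y1 := Subtype.ext h1
      have hv := D.ax₂.v_ne
      have hb1 := D.ax₂.out_ne hbC
      have hbv : b ≠ v₂ := fun e => hbC (e ▸ D.ax₂.vC)
      have hvb : v₂ * b ≠ 1 := fun e => hbv (by rw [eq_inv_of_mul_eq_one_right e, D.ax₂.v_inv])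
      cases x2 <;> cases x3 <;> cases y2 <;> cases y3 <;>
        simp [hv, hb1, hbv, hvb, hv.symm, hb1.symm, hbv.symm, hvb.symm] at h2 ⊢
    have hcov : ∀ b ∈ S₂, b ∉ C₂ → ∀ z ∈ (P : Subgroup G), z * z = 1 → Commute z b → ∃ x, enc b x = z := by
      intro b hb hbC z hz hz2 hc
      obtain ⟨a, ha, b', hb', e, -, hb'2⟩ := D.invol_split hz hz2
      have hc' : Commute b' b := ((D.commute_iff ha (one_mem _) hb' hb).1 (by rw [e, one_mul]; exact hc)).2
      rcases D.ax₂.invol' hb' hb'2 with h | h | h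
      · exact ⟨(⟨a, ha⟩, false, false), by simp [enc, ← e, h]⟩
      · exact ⟨(⟨a, ha⟩, true, false), by simp [enc, ← e, h]⟩
      · rcases D.ax₂.out_commute hb hbC hb' h hc'.symm with h' | h'
        · exact ⟨(⟨a, ha⟩, false, true), by simp [enc, ← e, h']⟩
        · refine ⟨(⟨a, ha⟩, true, true), ?_⟩
          simp only [enc, ← e, h', if_true]
          rw [(D.ax₂.central hb).eq]
    have hX : ∀ x, enc t x ∈ (P : Subgroup G) ∧ enc t x * enc t x = 1 ∧ Commute (enc t x) t ∧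
        Commute (enc t x) v₂ := by
      intro x
      have hP := D.mem_P x.1.2 (henc2 t ht x)
      refine ⟨hP, ?_, Commute.mul_left (D.comm x.1.2 ht) ?_, (D.v₂_central _ hP).symm⟩
      · show (x.1 : G) * _ * ((x.1 : G) * _) = 1
        rw [D.mul_mul x.1.2 (henc2 t ht x), S.sq₁ _ x.1.2, one_mul]
        rcases x with ⟨-, _ | _, _ | _⟩ <;>
          simp [D.ax₂.out_sq t ht htC, mul_self_of_two D.ax₂.v2,
            (D.ax₂.central ht).symm.mul_mul_mul_comm]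
      · rcases x with ⟨-, _ | _, _ | _⟩ <;> simp [D.ax₂.central ht]
    have hmap : ∀ x, ∃ y, enc β y = k * enc t x * k⁻¹ := fun x => by
      obtain ⟨hP, h2, hc, hcv⟩ := hX x
      refine hcov β hβ hβC _ (hkP _ hP hc) (by rw [conj_mul, h2, mul_one, mul_inv_cancel]) ?_
      have h3 := hcv.map (MulAut.conj k).toMonoidHom
      simp only [MulEquiv.coe_toMonoidHom, MulAut.conj_apply, ← eq] at h3
      have h4 := h3.mul_right (S.comm₁ hα _ (hkP _ hP hc)).symm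
      rwa [(D.comm hα hβ).eq, mul_assoc β α α, S.sq₁ α hα, mul_one] at h4
    choose φ hφ using hmap
    have hφi : Function.Injective φ := fun x y h =>
      hinj t ht htC ((MulAut.conj k).injective (show k * enc t x * k⁻¹ = k * enc t y * k⁻¹ by rw [← hφ, ← hφ, h]))
    haveI : Fintype S₁ := Fintype.ofFinite _
    obtain ⟨⟨a, i, j⟩, hx⟩ := (Finite.injective_iff_surjective.1 hφi) (1, true, false)
    have himg : k * enc t (a, i, j) * k⁻¹ = v₂ := by rw [← hφ, hx]; simp [enc]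
    have hne : k * v₂ * k⁻¹ ≠ v₂ := fun h => hβC (by
      have h' : α * β = 1 * v₂ := by rw [eq, one_mul]; exact h
      rw [(D.split_eq hα (one_mem _) hβ D.ax₂.vS h').2]; exact D.ax₂.vC)
    have hconj : IsConj (enc t (a, i, j)) v₂ := isConj_iff.2 ⟨k, himg⟩
    rcases j with _ | _
    · exfalso
      have hc : enc t (a, i, false) = (a : G) * (if i then v₂ else 1) := by simp [enc]
      rw [hc] at hconj himg
      have := S.v₂_ne (S.central a.2 (by cases i <;> simp)) hconj.symm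
      rw [this] at himg
      exact hne himg
    · refine ⟨a, a.2, ?_⟩
      cases i
      · simpa [enc] using hconj
      · refine (S.flip a.2 ht htC).trans ?_
        simpa [enc, mul_assoc, (D.ax₂.central ht).eq] using hconj

theorem fused_twist (E : Rot P S₁ S₂ C₁ C₂ v₁ v₂ n) (hM : ∀ N : Subgroup G, N.Normal → N.index ≠ 2) :
    ∃ S C : Subgroup G, Rot P S₁ S C₁ C v₁ v₂ n ∧ Nonempty (S₂ ≃* S) ∧ ∀ s ∈ S, s ∉ C → IsConj s v₂ := by
  have D := E.small.pair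
  obtain ⟨c, hc, hgen⟩ := D.ax₂.exists_gen
  obtain ⟨s, hs, hsC⟩ := D.ax₂.out
  obtain ⟨r, hr, hr2⟩ := E.small.root₂
  have hsc : s * c ∉ C₂ := fun h => hsC ((C₂.mul_mem_cancel_right hc).1 h)
  obtain ⟨a₁, ha₁, hf₁⟩ := E.exists_lift hM hs hsC
  obtain ⟨a₂, ha₂, hf₂⟩ := E.exists_lift hM (mul_mem hs (D.ax₂.le hc)) hsc
  obtain ⟨S, C, hD, hiso, hroot, hcls⟩ := D.twist hs hsC hc hgen hr hr2 ha₁ ha₂ (E.small.comm₁ ha₁)
    (E.small.comm₁ ha₂) (E.small.sq₁ _ ha₁) (E.small.sq₁ _ ha₂)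
  refine ⟨S, C, ⟨⟨hD, E.small.sq₁, hroot⟩, E.mem, E.maps, E.fpf⟩, hiso, fun x hx hxC => ?_⟩
  obtain ⟨p, -, h | h⟩ := hcls x hx hxC
  · exact ((isConj_iff.2 ⟨p, h⟩).symm).trans (by rwa [← (D.comm ha₁ hs).eq])
  · exact ((isConj_iff.2 ⟨p, h⟩).symm).trans (by rwa [← (D.comm ha₂ (mul_mem hs (D.ax₂.le hc))).eq])

/-- Only the reflections themselves are fused to the second central involution. -/
theorem lift_ne (E : Rot P S₁ S₂ C₁ C₂ v₁ v₂ n) (h₂ : ∀ s ∈ S₂, s ∉ C₂ → IsConj s v₂) {a t : G}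
    (ha : a ∈ S₁) (ha1 : a ≠ 1) (ht : t ∈ S₂) (htC : t ∉ C₂) : ¬ IsConj (a * t) v₂ := by
  intro hX
  have S := E.small
  have D := S.pair
  obtain ⟨k, hk, hkP⟩ := move D.v₂_central (h₂ t ht htC)
  have hka := hkP a (D.le₁ ha) (D.comm ha ht)
  have himg : IsConj (a * t) (k * a * k⁻¹ * v₂) := isConj_iff.2 ⟨k, by rw [← conj_mul, hk]⟩
  rcases S.eq_central hka (by rw [conj_mul, S.sq₁ a ha, mul_one, mul_inv_cancel]) with
    ⟨b, hb, e, he, eq⟩ | ⟨b, hb, β, hβ, hβC, eq⟩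
  · have hc : IsConj a (b * e) := eq ▸ isConj_iff.2 ⟨k, rfl⟩
    by_cases hb1 : b = 1
    · rcases he with rfl | rfl
      · rw [hb1, one_mul, isConj_one_left] at hc
        exact ha1 hc
      · rw [hb1, one_mul] at hc
        exact E.not_conj_v₂ ha ha1 (Or.inl rfl) (by rwa [mul_one])
    · rcases he with rfl | rfl
      · refine E.not_conj_v₂ hb hb1 (Or.inr rfl) ?_
        rw [← eq, mul_one] at himg
        exact himg.symm.trans hX
      · exact E.not_conj ha hb ha1 hb1 hc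
  · have : IsConj a v₂ := by
      refine (isConj_iff.2 ⟨k, rfl⟩ : IsConj a _).trans (IsConj.trans ?_ (himg.symm.trans hX))
      rw [← eq]
      exact S.flip hb hβ hβC
    exact E.not_conj_v₂ ha ha1 (Or.inl rfl) (by rwa [mul_one])

theorem exists_class_rot (E : Rot P S₁ S₂ C₁ C₂ v₁ v₂ n) (h₂ : ∀ s ∈ S₂, s ∉ C₂ → IsConj s v₂) {t : G}
    (ht : t ∈ S₂) (htC : t ∉ C₂) :
    ∃ m ∈ Subgroup.normalizer ((P : Subgroup G) : Set G), (∀ a ∈ S₁, m * a * m⁻¹ ∈ S₁) ∧
      (∀ a ∈ S₁, a ≠ 1 → m * a * m⁻¹ ≠ a) ∧ ∃ p ∈ (P : Subgroup G), m * t * m⁻¹ = p * t * p⁻¹ := by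
  have S := E.small
  have D := S.pair
  obtain ⟨c, hc, hgen⟩ := D.ax₂.exists_gen
  obtain ⟨r, hr, hr2⟩ := S.root₂
  have hncomm : ∀ {u : G}, u ∈ S₂ → u ∉ C₂ → ¬ Commute u r := fun hu huC h =>
    huC (D.ax₂.mem_C_of_commute hu hr h (D.ax₂.root_sq_ne hr2))
  have himg : ∀ u ∈ S₂, u ∉ C₂ → n * u * n⁻¹ ∈ S₂ ∧ n * u * n⁻¹ ∉ C₂ := by
    intro u hu huC
    have hP := (Subgroup.mem_normalizer_iff.1 E.mem u).1 (D.le₂ hu)
    rcases S.eq_central hP (by rw [conj_mul, D.ax₂.out_sq u hu huC, mul_one, mul_inv_cancel]) with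
      ⟨a, ha, e, he, eq⟩ | ⟨a, ha, b, hb, hbC, eq⟩
    · exfalso
      refine hncomm hu huC ?_
      have hrP := (Subgroup.mem_normalizer_iff.1 E.mem r).1 (D.le₂ (D.ax₂.le hr))
      have := ((eq ▸ S.central ha he : ∀ z ∈ (P : Subgroup G), Commute (n * u * n⁻¹) z) _ hrP).map
        (MulAut.conj n⁻¹).toMonoidHom
      simpa [mul_assoc] using this
    · have hv : IsConj (a * b) v₂ := eq ▸ ((isConj_iff.2 ⟨n, rfl⟩ : IsConj u _).symm.trans (h₂ u hu huC))
      by_cases ha1 : a = 1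
      · rw [ha1, one_mul] at eq
        exact ⟨eq ▸ hb, eq ▸ hbC⟩
      · exact absurd hv (E.lift_ne h₂ ha ha1 hb hbC)
  obtain ⟨h1, h1C⟩ := himg t ht htC
  obtain ⟨h2, h2C⟩ := himg _ h1 h1C
  obtain ⟨q, hq, hq'⟩ := D.ax₂.two_classes ht htC hc hgen h1 h1C
  rcases hq' with e | e
  · exact ⟨n, E.mem, E.maps, E.fpf, q, D.le₂ hq, e.symm⟩
  obtain ⟨q', hq2, e' | e'⟩ := D.ax₂.two_classes ht htC hc hgen h2 h2C
  · refine ⟨n * n, mul_mem E.mem E.mem, fun a ha => conj_two n a ▸ E.maps _ (E.maps a ha), fun a ha ha1 => ?_,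
      q', D.le₂ hq2, ?_⟩
    · rw [conj_two]; exact E.fpf₂ ha ha1
    · rw [e', conj_two]
  · -- both images lie in the other class
    refine ⟨n, E.mem, E.maps, E.fpf, n⁻¹ * (q' * q⁻¹) * n, ?_, ?_⟩
    · have := (Subgroup.mem_normalizer_iff.1 (inv_mem E.mem) _).1 (mul_mem (D.le₂ hq2) (inv_mem (D.le₂ hq)))
      simpa using this
    · have e2 : n * (n * t * n⁻¹) * n⁻¹ = q' * q⁻¹ * (n * t * n⁻¹) * (q' * q⁻¹)⁻¹ := by
        rw [← e', ← e]; group
      have := congrArg (fun z => n⁻¹ * z * n) e2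
      calc n * t * n⁻¹ = n⁻¹ * (n * (n * t * n⁻¹) * n⁻¹) * n := by group
        _ = n⁻¹ * (q' * q⁻¹ * (n * t * n⁻¹) * (q' * q⁻¹)⁻¹) * n := this
        _ = _ := by group

/-- Twisted lifts are fused to the product class. -/
theorem lift_not_first (E : Rot P S₁ S₂ C₁ C₂ v₁ v₂ n) (h₂ : ∀ s ∈ S₂, s ∉ C₂ → IsConj s v₂) {a b t : G}
    (ha : a ∈ S₁) (ha1 : a ≠ 1) (hb : b ∈ S₁) (hb1 : b ≠ 1) (ht : t ∈ S₂) (htC : t ∉ C₂) :
    ¬ IsConj (a * t) b := by
  intro hX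
  have S := E.small
  have D := S.pair
  obtain ⟨m, hm, hmS, hmf, p, hp, hmt⟩ := E.exists_class_rot h₂ ht htC
  have step : ∀ {w : G}, w ∈ S₁ → w ≠ 1 → IsConj (w * t) b → IsConj (m * w * m⁻¹ * t) b := by
    intro w hw hw1 h
    refine IsConj.trans ?_ h
    refine (isConj_iff.2 ⟨p⁻¹ * m, ?_⟩ : IsConj (w * t) _).symm
    have hc := S.comm₁ (hmS w hw) p hp
    calc p⁻¹ * m * (w * t) * (p⁻¹ * m)⁻¹ = p⁻¹ * (m * w * m⁻¹) * (m * t * m⁻¹) * p := by group
      _ = p⁻¹ * ((m * w * m⁻¹) * p) * t := by rw [hmt]; group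
      _ = m * w * m⁻¹ * t := by rw [hc.eq]; group
  have E' : Rot P S₁ S₂ C₁ C₂ v₁ v₂ m := ⟨S, hm, hmS, hmf⟩
  have hall : ∀ w ∈ S₁, w ≠ 1 → IsConj (w * t) b := by
    intro w hw hw1
    have h1 := step ha ha1 hX
    have h2 := step (hmS a ha) (E'.conj_ne_one ha1) h1
    rcases D.ax₁.four S.sq₁ ha (hmS a ha) hw ha1 (E'.conj_ne_one ha1) (hmf a ha ha1).symm with h | h | h | h
    · exact absurd h hw1
    · rw [h]; exact hX
    · rw [h]; exact h1
    · rw [h, ← E'.third ha ha1]; exact h2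
  obtain ⟨k, hk, hkP⟩ := move (S.comm₁ hb) hX
  have hcla : ∀ {x : G}, x ∈ (P : Subgroup G) → Commute x (a * t) → x * x = 1 → IsConj x v₂ →
      k * x * k⁻¹ = v₂ ∨ (k * x * k⁻¹ ∈ S₂ ∧ k * x * k⁻¹ ∉ C₂) := by
    intro x hx hc hx2 hxv
    have hP := hkP x hx hc
    have hv : IsConj (k * x * k⁻¹) v₂ := (isConj_iff.2 ⟨k, rfl⟩ : IsConj x _).symm.trans hxv
    rcases S.eq_central hP (by rw [conj_mul, hx2, mul_one, mul_inv_cancel]) with
      ⟨c, hc, e, he, eq⟩ | ⟨c, hc, β, hβ, hβC, eq⟩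
    · exact Or.inl (S.v₂_ne (eq ▸ S.central hc he) hv.symm)
    · rw [← eq] at hv ⊢
      by_cases hc1 : c = 1
      · rw [hc1, one_mul]; exact Or.inr ⟨hβ, hβC⟩
      · exact absurd hv (E.lift_ne h₂ hc hc1 hβ hβC)
  have hv2 := mul_self_of_two D.ax₂.v2
  have hcv := D.v₂_central _ (D.mem_P ha ht)
  have hct : Commute t (a * t) := (D.comm ha ht).symm.mul_right (Commute.refl t)
  rcases hcla (D.le₂ D.ax₂.vS) hcv hv2 (IsConj.refl v₂) with hkv | ⟨hβ, hβC⟩
  · refine E.not_conj hb hb hb1 hb1 (hX.symm.trans ((S.flip ha ht htC).trans (isConj_iff.2 ⟨k, ?_⟩)))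
    rw [← conj_mul, hk, hkv]
  have hka : k * a * k⁻¹ = b * (k * t * k⁻¹) := by
    rw [← hk, conj_mul, mul_assoc a, D.ax₂.out_sq t ht htC, mul_one]
  rcases hcla (D.le₂ ht) hct (D.ax₂.out_sq t ht htC) (h₂ t ht htC) with hkt | ⟨hβ', hβ'C⟩
  · refine E.not_conj ha hb ha1 hb1 (isConj_iff.2 ⟨k, ?_⟩)
    rw [hka, hkt]
  obtain ⟨β, hβd⟩ : ∃ β, β = k * v₂ * k⁻¹ := ⟨_, rfl⟩
  rw [← hβd] at hβ hβC
  have hkt' : k * t * k⁻¹ = β * v₂ := by
    have hc : Commute β (k * t * k⁻¹) := hβd ▸ ((D.v₂_central t (D.le₂ ht)).map (MulAut.conj k).toMonoidHom)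
    refine (D.ax₂.out_commute hβ hβC hβ' hβ'C hc).resolve_left fun e => htC ?_
    rw [(MulAut.conj k).injective (e.trans hβd)]
    exact D.ax₂.vC
  rw [hkt'] at hka
  -- a third element with central image
  have good : ∀ w ∈ S₁, w ≠ 1 → w ≠ a → (∃ c ∈ S₁, ∃ e, (e = 1 ∨ e = v₂) ∧ c * e = k * w * k⁻¹) → False := by
    rintro w hw hw1 hwa ⟨c, hc, e, he, eq⟩
    have hcw : IsConj w (c * e) := eq ▸ isConj_iff.2 ⟨k, rfl⟩
    by_cases hc1 : c = 1
    · rcases he with rfl | rfl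
      · rw [hc1, one_mul, isConj_one_left] at hcw
        exact hw1 hcw
      · rw [hc1, one_mul] at hcw
        exact E.not_conj_v₂ hw hw1 (Or.inl rfl) (by rwa [mul_one])
    rcases he with rfl | rfl
    swap
    · exact E.not_conj hw hc hw1 hc1 hcw
    rw [mul_one] at eq
    refine E.not_conj hb hw hb1 hw1 ((hall w hw hw1).symm.trans ?_)
    refine ((isConj_iff.2 ⟨k, rfl⟩ : IsConj (w * t) _).trans ?_).trans
      (isConj_iff.2 ⟨k, rfl⟩ : IsConj (w * v₂) _).symm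
    rw [← conj_mul, ← conj_mul, ← eq, hkt', ← hβd, ← mul_assoc]
    exact (S.flip hc hβ hβC).symm
  obtain ⟨w, hwd⟩ : ∃ w, w = m * a * m⁻¹ := ⟨_, rfl⟩
  have hw : w ∈ S₁ := hwd ▸ hmS a ha
  have hw1 : w ≠ 1 := hwd ▸ E'.conj_ne_one ha1
  have hwa : w ≠ a := hwd ▸ hmf a ha ha1
  have hkw := hkP w (D.le₁ hw) (S.comm₁ hw _ (D.mem_P ha ht))
  rcases S.eq_central hkw (by rw [conj_mul, S.sq₁ w hw, mul_one, mul_inv_cancel]) with h | ⟨c, hc, γ, hγ, hγC, eq⟩
  · exact good w hw hw1 hwa h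
  · refine good (a * w) (mul_mem ha hw) (fun e => hwa ?_) (fun e => hw1 (by simpa using e)) ?_
    · rw [eq_inv_of_mul_eq_one_right e, inv_eq_of_mul_eq_one_right (S.sq₁ a ha)]
    have hcγ : Commute β γ := by
      have h1 := (D.v₂_central w (D.le₁ hw)).map (MulAut.conj k).toMonoidHom
      simp only [MulEquiv.coe_toMonoidHom, MulAut.conj_apply, ← eq, ← hβd] at h1
      rw [← one_mul β] at h1
      exact ((D.commute_iff (one_mem _) hc hβ hγ).1 h1).2
    refine ⟨b * c, mul_mem hb hc, β * v₂ * γ, ?_, ?_⟩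
    · rcases D.ax₂.out_commute hβ hβC hγ hγC hcγ with rfl | rfl
      · exact Or.inr (by rw [mul_assoc, (D.ax₂.central hβ).eq, ← mul_assoc, D.ax₂.out_sq _ hβ hβC, one_mul])
      · exact Or.inl (by
          rw [(D.ax₂.central hβ).mul_mul_mul_comm, hv2, mul_one, D.ax₂.out_sq _ hβ hβC])
    · rw [← conj_mul, hka, ← eq, D.mul_mul hc (mul_mem hβ D.ax₂.vS)]

theorem closed (E : Rot P S₁ S₂ C₁ C₂ v₁ v₂ n) (hM : ∀ N : Subgroup G, N.Normal → N.index ≠ 2)
    (h₂ : ∀ s ∈ S₂, s ∉ C₂ → IsConj s v₂) :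
    IsStronglyClosed S₂ (P : Subgroup G) ∧ IsStronglyClosed S₁ (P : Subgroup G) := by
  have S := E.small
  have D := S.pair
  constructor
  · refine D.closed_of_invol fun x hx hx2 hR => ?_
    obtain ⟨g, hg⟩ := hR
    have hv : IsConj x v₂ := by
      refine (isConj_iff.2 ⟨g, rfl⟩ : IsConj x _).trans ?_
      have h2 : orderOf (g * x * g⁻¹) = 2 := (BrauerSuzuki.orderOf_conj_eq g x).trans hx2
      by_cases hC : g * x * g⁻¹ ∈ C₂
      · rw [D.ax₂.eq_v hC h2]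
      · exact h₂ _ hg hC
    rcases S.eq_central hx (mul_self_of_two hx2) with ⟨a, ha, e, he, eq⟩ | ⟨a, ha, t, ht, htC, eq⟩
    · rw [S.v₂_ne (eq ▸ S.central ha he) hv.symm]
      exact D.ax₂.vS
    · rw [← eq] at hv ⊢
      by_cases ha1 : a = 1
      · rw [ha1, one_mul]; exact ht
      · exact absurd hv (E.lift_ne h₂ ha ha1 ht htC)
  · refine D.symm.closed_of_invol fun x hx hx2 hR => ?_
    obtain ⟨g, hg⟩ := hR
    obtain ⟨b, hbd⟩ : ∃ b, b = g * x * g⁻¹ := ⟨_, rfl⟩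
    rw [← hbd] at hg
    have hb1 : b ≠ 1 := fun e => by
      rw [hbd, conj_eq_one_iff] at e
      rw [e, orderOf_one] at hx2
      omega
    have hv : IsConj x b := isConj_iff.2 ⟨g, hbd.symm⟩
    rcases S.eq_central hx (mul_self_of_two hx2) with ⟨a, ha, e, he, eq⟩ | ⟨a, ha, t, ht, htC, eq⟩
    · rcases he with rfl | rfl
      · rw [← eq, mul_one]; exact ha
      · exfalso
        rw [← eq] at hv
        by_cases ha1 : a = 1
        · rw [ha1, one_mul] at hv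
          exact E.not_conj_v₂ hg hb1 (Or.inl rfl) (by rw [mul_one]; exact hv.symm)
        · exact E.not_conj hg ha hb1 ha1 hv.symm
    · exfalso
      rw [← eq] at hv
      by_cases ha1 : a = 1
      · rw [ha1, one_mul] at hv
        exact E.not_conj_v₂ hg hb1 (Or.inl rfl) (by rw [mul_one]; exact hv.symm.trans (h₂ t ht htC))
      · exact E.lift_not_first h₂ ha ha1 hg hb1 ht htC hv

end Rot

/-- A new first factor on which the normaliser acts without fixed points. -/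
theorem Small.exists_rot (E : Small P S₁ S₂ C₁ C₂ v₁ v₂) (hM : ∀ N : Subgroup G, N.Normal → N.index ≠ 2) :
    ∃ (T X : Subgroup G) (u n : G), Rot P T S₂ X C₂ u v₂ n ∧ IsKleinFour T := by
  obtain ⟨x, y, hxP, hxc, hyc, hxy, hne⟩ := E.exists_moved hM
  have D := E.pair
  obtain ⟨n, hn, e⟩ := central_conj hxc hyc hxy
  have hN : ∀ z, z ∈ (P : Subgroup G) ↔ n * z * n⁻¹ ∈ (P : Subgroup G) := Subgroup.mem_normalizer_iff.1 hn
  have hfix := E.normalizer_fix hn
  -- the central elements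
  have hcen : ∀ z ∈ (P : Subgroup G), (∀ w ∈ (P : Subgroup G), Commute z w) →
      ∃ a ∈ S₁, ∃ e, (e = 1 ∨ e = v₂) ∧ a * e = z := by
    intro z hz hzc
    obtain ⟨a, ha, b, hb, rfl⟩ := D.split hz
    obtain ⟨r, hr, hr2⟩ := E.root₂
    obtain ⟨s, hs, hsC⟩ := D.ax₂.out
    have h1 := ((D.commute_iff ha (one_mem _) hb (D.ax₂.le hr)).1 (hzc _ (D.mem_P (one_mem _) (D.ax₂.le hr)))).2
    have hbC := D.ax₂.mem_C_of_commute hb hr h1 (D.ax₂.root_sq_ne hr2)
    have h2 := ((D.commute_iff ha (one_mem _) hb hs).1 (hzc _ (D.mem_P (one_mem _) hs))).2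
    have h3 := D.ax₂.conj_inv hs hsC hbC
    rw [h2.symm.eq, mul_inv_cancel_right] at h3
    exact ⟨a, ha, b, D.ax₂.invol hbC (mul_eq_one_iff_eq_inv.2 h3), rfl⟩
  have hyP : y ∈ (P : Subgroup G) := e ▸ (hN x).1 hxP
  obtain ⟨z, hz⟩ : ∃ z, z = n * y * n⁻¹ := ⟨_, rfl⟩
  have hzP : z ∈ (P : Subgroup G) := hz ▸ (hN y).1 hyP
  have hzc : ∀ w ∈ (P : Subgroup G), Commute z w := fun w hw => by
    have hw' : n⁻¹ * w * n ∈ (P : Subgroup G) := by
      simpa using (Subgroup.mem_normalizer_iff.1 (inv_mem hn) w).1 hw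
    have := (hyc _ hw').map (MulAut.conj n).toMonoidHom
    simp only [MulEquiv.coe_toMonoidHom, MulAut.conj_apply, ← hz] at this
    rwa [show n * (n⁻¹ * w * n) * n⁻¹ = w by group] at this
  obtain ⟨a, ha, ea, hea, ex⟩ := hcen x hxP hxc
  obtain ⟨b, hb, eb, heb, ey⟩ := hcen y hyP hyc
  obtain ⟨c, hc, ec, hec, ez⟩ := hcen z hzP hzc
  have hnx : ∀ {w w' : G}, n * w * n⁻¹ = w' → n * (w * v₂) * n⁻¹ = w' * v₂ := fun {w w'} h => by
    rw [← conj_mul, h, hfix]
  have hv2 := mul_self_of_two D.ax₂.v2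
  have sameS : ∀ {a e e' : G}, (e = 1 ∨ e = v₂) → (e' = 1 ∨ e' = v₂) → a * e ≠ a * e' → a * e' = a * e * v₂ := by
    rintro a e e' (rfl | rfl) (rfl | rfl) h
    · exact absurd rfl h
    · rw [mul_one]
    · rw [mul_one, mul_assoc, hv2, mul_one]
    · exact absurd rfl h
  have hxz : x ≠ z := fun h => hne (no_swap hn hxc e (hz.symm.trans h.symm))
  have ha1 : a ≠ 1 := fun h => hne (by
    rw [h, one_mul] at ex
    rcases hea with rfl | rfl <;> rw [← e, ← ex]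
    · simp
    · exact hfix.symm)
  have hab : a ≠ b := fun h => by
    subst h
    have h1 := sameS hea heb (by rw [ex, ey]; exact hne)
    rw [ex, ey] at h1
    refine hne (no_swap hn hxc e ?_)
    rw [h1, hnx e, h1, mul_assoc, hv2, mul_one]
  have hb1 : b ≠ 1 := fun h => by
    rw [h, one_mul] at ey
    rcases heb with rfl | rfl
    · rw [← ey, conj_eq_one_iff] at e; exact hne (e.trans ey)
    · exact hne ((MulAut.conj n).injective (show n * x * n⁻¹ = n * y * n⁻¹ by rw [e, ← ey, hfix]))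
  have hyz : y ≠ z := fun h => hne ((MulAut.conj n).injective (show n * x * n⁻¹ = n * y * n⁻¹ by rw [e, ← hz, ← h]))
  have hbc : b ≠ c := fun h => by
    subst h
    have h1 := sameS heb hec (by rw [ey, ez]; exact hyz)
    rw [ey, ez] at h1
    have h2 : n * (x * v₂) * n⁻¹ = n * y * n⁻¹ := by rw [hnx e, ← hz, h1]
    have h3 : x * v₂ = y := (MulAut.conj n).injective h2
    refine hne (no_swap hn hxc e ?_)
    rw [← hz, h1, ← h3, mul_assoc, hv2, mul_one]
  have hac : a ≠ c := fun h => by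
    subst h
    have h1 := sameS hea hec (by rw [ex, ez]; exact hxz)
    rw [ex, ez] at h1
    refine hxz (no_swap (n := n * n) (mul_mem hn hn) hxc ?_ ?_)
    · rw [conj_two, e, hz]
    · rw [conj_two, h1, hnx e, hnx hz.symm, h1, mul_assoc, hv2, mul_one]
  have hc1 : c ≠ 1 := fun h => by
    rw [h, one_mul] at ez
    have hebS : eb ∈ S₂ := by rcases heb with h | h <;> rw [h]; exacts [one_mem _, D.ax₂.vS]
    rcases hec with h' | h' <;> rw [h'] at ez
    · rw [hz, eq_comm, conj_eq_one_iff] at ez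
      rw [← ey] at ez
      exact hb1 (D.split_eq_one hb hebS ez).1
    · have h1 : n * v₂ * n⁻¹ = n * y * n⁻¹ := by rw [hfix, ← hz, ← ez]
      have h2 : v₂ = y := (MulAut.conj n).injective h1
      exact hb1 (D.split_eq hb (one_mem _) hebS D.ax₂.vS (by rw [ey, ← h2, one_mul])).1
  have hcab : c = a * b := ((D.ax₁.four E.sq₁ ha hb hc ha1 hb1 hab).resolve_left hc1).resolve_left
    hac.symm |>.resolve_left hbc.symm
  -- adjust so that the product of the orbit is trivial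
  obtain ⟨δ, hδ, hδ'⟩ : ∃ δ, (δ = 1 ∨ δ = v₂) ∧ z * δ = x * δ * (y * δ) := by
    have hprod : x * y = a * b * (ea * eb) := by
      rw [← ex, ← ey]
      exact D.mul_mul hb (by rcases hea with h | h <;> rw [h]; exacts [one_mem _, D.ax₂.vS])
    have hee : ∃ δ, (δ = 1 ∨ δ = v₂) ∧ ec * δ = ea * eb := by
      rcases hea with h₁ | h₁ <;> rcases heb with h₂ | h₂ <;> rcases hec with h₃ | h₃ <;> rw [h₁, h₂, h₃] <;>
        first
          | (refine ⟨1, Or.inl rfl, ?_⟩; simp [hv2]; done)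
          | (refine ⟨v₂, Or.inr rfl, ?_⟩; simp [hv2]; done)
    obtain ⟨δ, hδ, he⟩ := hee
    refine ⟨δ, hδ, ?_⟩
    have h1 : ∀ w ∈ (P : Subgroup G), Commute δ w := by
      rcases hδ with h | h <;> rw [h]
      exacts [fun w _ => Commute.one_left w, D.v₂_central]
    have h2 : δ * δ = 1 := by rcases hδ with h | h <;> rw [h]; exacts [one_mul 1, hv2]
    rw [(h1 y hyP).mul_mul_mul_comm, hprod, h2, mul_one, ← he, ← ez, hcab, mul_assoc, mul_assoc]
  obtain ⟨X, hXd⟩ : ∃ X, X = x * δ := ⟨_, rfl⟩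
  obtain ⟨Y, hYd⟩ : ∃ Y, Y = y * δ := ⟨_, rfl⟩
  rw [← hXd, ← hYd] at hδ'
  have hnδ : n * δ * n⁻¹ = δ := by rcases hδ with rfl | rfl; exacts [by simp, hfix]
  have hnX : n * X * n⁻¹ = Y := by rw [hXd, hYd, ← conj_mul, e, hnδ]
  have hnY : n * Y * n⁻¹ = X * Y := by rw [← hδ', hYd, ← conj_mul, ← hz, hnδ]
  have hnZ : n * (X * Y) * n⁻¹ = Y * (X * Y) := by rw [← conj_mul, hnX, hnY]
  have hδc : ∀ w ∈ (P : Subgroup G), Commute δ w := by
    rcases hδ with rfl | rfl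
    exacts [fun w _ => Commute.one_left w, D.v₂_central]
  have hδS : δ ∈ S₂ := by rcases hδ with rfl | rfl; exacts [one_mem _, D.ax₂.vS]
  have hea' : ea * δ = 1 ∨ ea * δ = v₂ := by
    rcases hea with rfl | rfl <;> rcases hδ with rfl | rfl <;> simp [hv2]
  have heb' : eb * δ = 1 ∨ eb * δ = v₂ := by
    rcases heb with rfl | rfl <;> rcases hδ with rfl | rfl <;> simp [hv2]
  have hXs : X = a * (ea * δ) := by rw [hXd, ← ex, mul_assoc]
  have hYs : Y = b * (eb * δ) := by rw [hYd, ← ey, mul_assoc]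
  have hsq : ∀ {u w : G}, u ∈ S₁ → (w = 1 ∨ w = v₂) → u * w * (u * w) = 1 := by
    rintro u w hu (rfl | rfl)
    · simpa using E.sq₁ u hu
    · rw [(D.comm hu D.ax₂.vS).symm.mul_mul_mul_comm, E.sq₁ u hu, hv2, one_mul]
  have hX2 : X * X = 1 := hXs ▸ hsq ha hea'
  have hY2 : Y * Y = 1 := hYs ▸ hsq hb heb'
  have hXc : ∀ w ∈ (P : Subgroup G), Commute X w := fun w hw => hXs ▸ E.central ha hea' w hw
  have hYc : ∀ w ∈ (P : Subgroup G), Commute Y w := fun w hw => hYs ▸ E.central hb heb' w hw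
  have hXP : X ∈ (P : Subgroup G) := hXd ▸ mul_mem hxP (D.le₂ hδS)
  have hYP : Y ∈ (P : Subgroup G) := hYd ▸ mul_mem hyP (D.le₂ hδS)
  have hXY : Commute X Y := hXc Y hYP
  have k1 : Y * (X * Y) = X := by rw [← mul_assoc, ← hXY.eq, mul_assoc, hY2, mul_one]
  rw [k1] at hnZ
  obtain ⟨T, hT⟩ : ∃ T : Subgroup G, ∀ g, g ∈ T ↔ g = 1 ∨ g = X ∨ g = Y ∨ g = X * Y := by
    have a1 : X * (X * Y) = Y := by rw [← mul_assoc, hX2, one_mul]
    have a2 : X * Y * X = Y := by rw [hXY.eq, mul_assoc, hX2, mul_one]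
    have a3 : X * Y * Y = X := by rw [mul_assoc, hY2, mul_one]
    have a4 : X * Y * (X * Y) = 1 := by rw [← mul_assoc, a2, hY2]
    refine ⟨{ carrier := {g | g = 1 ∨ g = X ∨ g = Y ∨ g = X * Y}
              one_mem' := Or.inl rfl
              mul_mem' := ?_
              inv_mem' := ?_ }, fun g => Iff.rfl⟩
    · rintro g h (rfl | rfl | rfl | rfl) (rfl | rfl | rfl | rfl) <;>
        simp [hX2, hY2, ← hXY.eq, a1, a2, a3, a4, k1]
    · rintro g (rfl | rfl | rfl | rfl) <;>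
        simp [inv_eq_of_mul_eq_one_right hX2, inv_eq_of_mul_eq_one_right hY2,
          inv_eq_of_mul_eq_one_right a4]
  have hTP : T ≤ (P : Subgroup G) := fun g hg => by
    rcases (hT g).1 hg with rfl | rfl | rfl | rfl
    exacts [one_mem _, hXP, hYP, mul_mem hXP hYP]
  have hTc : ∀ g ∈ T, ∀ w ∈ (P : Subgroup G), Commute g w := fun g hg w hw => by
    rcases (hT g).1 hg with rfl | rfl | rfl | rfl
    exacts [Commute.one_left w, hXc w hw, hYc w hw, (hXc w hw).mul_left (hYc w hw)]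
  have hX1 : X ≠ 1 := fun h => ha1
    (D.split_eq_one ha (by rcases hea' with h | h <;> rw [h]; exacts [one_mem _, D.ax₂.vS]) (hXs ▸ h)).1
  have hY1 : Y ≠ 1 := fun h => hb1
    (D.split_eq_one hb (by rcases heb' with h | h <;> rw [h]; exacts [one_mem _, D.ax₂.vS]) (hYs ▸ h)).1
  have hXneY : X ≠ Y := fun h => hne (by rwa [hXd, hYd, mul_left_inj] at h)
  have hXYne : X * Y ≠ 1 := fun h => hXneY (by
    rw [eq_inv_of_mul_eq_one_left h, inv_eq_of_mul_eq_one_right hY2])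
  have hXS : ea * δ ∈ S₂ := by rcases hea' with h | h <;> rw [h]; exacts [one_mem _, D.ax₂.vS]
  have hYS : eb * δ ∈ S₂ := by rcases heb' with h | h <;> rw [h]; exacts [one_mem _, D.ax₂.vS]
  have hTS : T ⊓ S₂ = ⊥ := by
    rw [eq_bot_iff]
    intro g hg
    obtain ⟨hgT, hg2⟩ := Subgroup.mem_inf.1 hg
    rw [Subgroup.mem_bot]
    rcases (hT g).1 hgT with rfl | rfl | rfl | rfl
    · rfl
    · rw [hXs] at hg2; exact absurd ((D.mem₂_iff ha hXS).1 hg2) ha1
    · rw [hYs] at hg2; exact absurd ((D.mem₂_iff hb hYS).1 hg2) hb1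
    · rw [hXs, hYs, D.mul_mul hb hXS] at hg2
      refine absurd ((D.mem₂_iff (mul_mem ha hb) (mul_mem hXS hYS)).1 hg2) fun h => hab ?_
      rw [eq_inv_of_mul_eq_one_left h, inv_eq_of_mul_eq_one_right (E.sq₁ b hb)]
  have hsup : T ⊔ S₂ = (P : Subgroup G) := by
    refine le_antisymm (sup_le hTP D.le₂) fun g hg => ?_
    obtain ⟨a', ha', b', hb', rfl⟩ := D.split hg
    have haT : ∀ {w e : G}, w * e ∈ T → e ∈ S₂ → w ∈ T ⊔ S₂ := fun {w e} h he => by
      simpa using mul_mem (Subgroup.mem_sup_left (T := S₂) h) (inv_mem (Subgroup.mem_sup_right (S := T) he))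
    refine mul_mem ?_ (Subgroup.mem_sup_right hb')
    rcases D.ax₁.four E.sq₁ ha hb ha' ha1 hb1 hab with h | h | h | h <;> rw [h]
    · exact one_mem _
    · exact haT ((hT _).2 (Or.inr (Or.inl hXs.symm))) hXS
    · exact haT ((hT _).2 (Or.inr (Or.inr (Or.inl hYs.symm)))) hYS
    · exact mul_mem (haT ((hT _).2 (Or.inr (Or.inl hXs.symm))) hXS)
        (haT ((hT _).2 (Or.inr (Or.inr (Or.inl hYs.symm)))) hYS)
  have hord : orderOf X = 2 := orderOf_two hX2 hX1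
  have hzp : ∀ g, g ∈ Subgroup.zpowers X → g = 1 ∨ g = X := fun g hg => by
    obtain ⟨i, rfl⟩ := Subgroup.mem_zpowers_iff.1 hg
    have h2 : X ^ (2 : ℤ) = 1 := by exact_mod_cast (pow_two X).trans hX2
    rcases Int.even_or_odd' i with ⟨j, rfl | rfl⟩
    · exact Or.inl (by rw [zpow_mul, h2, one_zpow])
    · exact Or.inr (by rw [zpow_add, zpow_mul, h2, one_zpow, one_mul, zpow_one])
  have hT2 : ∀ g ∈ T, g * g = 1 := fun g hg => by
    rcases (hT g).1 hg with rfl | rfl | rfl | rfl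
    exacts [one_mul 1, hX2, hY2, by rw [hXY.symm.mul_mul_mul_comm, hX2, hY2, one_mul]]
  have hAx : Axis T (Subgroup.zpowers X) X := by
    refine ⟨Subgroup.zpowers_le.2 ((hT X).2 (Or.inr (Or.inl rfl))), Subgroup.isCyclic_zpowers X,
      Subgroup.mem_zpowers X, hord, fun s hs _ => hT2 s hs, fun s hs hsC t ht htC => ?_,
      Y, (hT Y).2 (Or.inr (Or.inr (Or.inl rfl))), fun h => ?_⟩
    · have m1 : (1 : G) ∈ Subgroup.zpowers X := one_mem _
      have mX := Subgroup.mem_zpowers X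
      have k2 : X * Y * Y = X := by rw [mul_assoc, hY2, mul_one]
      have k3 : X * Y * (X * Y) = 1 := hT2 _ ((hT _).2 (Or.inr (Or.inr (Or.inr rfl))))
      rcases (hT s).1 hs with h | h | h | h <;> rw [h] at hsC ⊢ <;>
        first
          | exact absurd m1 hsC
          | exact absurd mX hsC
          | (rcases (hT t).1 ht with h' | h' | h' | h' <;> rw [h'] at htC ⊢ <;>
              first
                | exact absurd m1 htC
                | exact absurd mX htC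
                | (rw [hY2]; exact m1)
                | (rw [k1]; exact mX)
                | (rw [k2]; exact mX)
                | (rw [k3]; exact m1))
    · rcases hzp Y h with h | h
      exacts [hY1 h, hXneY h.symm]
  refine ⟨T, Subgroup.zpowers X, X, n, ⟨⟨⟨⟨hTP, D.le₂, fun g hg w hw => hTc g hg w (D.le₂ hw), hTS, hsup⟩, hAx, D.ax₂⟩,
    hT2, E.root₂⟩, hn, fun g hg => ?_, fun g hg hg1 => ?_⟩, ?_⟩
  · rcases (hT g).1 hg with rfl | rfl | rfl | rfl
    · simp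
    · rw [hnX]; exact (hT _).2 (Or.inr (Or.inr (Or.inl rfl)))
    · rw [hnY]; exact (hT _).2 (Or.inr (Or.inr (Or.inr rfl)))
    · rw [hnZ]; exact (hT _).2 (Or.inr (Or.inl rfl))
  · rcases (hT g).1 hg with rfl | rfl | rfl | rfl
    · exact absurd rfl hg1
    · rw [hnX]; exact hXneY.symm
    · rw [hnY]; intro h; exact hX1 (by simpa using h)
    · rw [hnZ]; intro h; exact hY1 (by simpa using h.symm)
  · haveI : Nontrivial T := ⟨⟨X, (hT X).2 (Or.inr (Or.inl rfl))⟩, 1, fun h => hX1 (congrArg Subtype.val h)⟩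
    refine ⟨?_, ?_⟩
    · classical
      have e1 : (T : Set G) = ↑({1, X, Y, X * Y} : Finset G) := by ext g; simp [hT g]
      rw [← SetLike.coe_sort_coe, e1, Nat.card_coe_set_eq, Set.ncard_coe_finset]
      rw [Finset.card_insert_of_notMem, Finset.card_insert_of_notMem, Finset.card_insert_of_notMem,
        Finset.card_singleton]
      · simp only [Finset.mem_singleton]; intro h; exact hX1 (by simpa using h.symm)
      · simp only [Finset.mem_insert, Finset.mem_singleton]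
        rintro (h | h)
        exacts [hXneY h, hY1 (by simpa using h.symm)]
      · simp only [Finset.mem_insert, Finset.mem_singleton]
        rintro (h | h | h)
        exacts [hX1 h.symm, hY1 h.symm, hXYne h.symm]
    · exact (Monoid.exponent_eq_prime_iff Nat.prime_two).2 fun g hg =>
        orderOf_eq_prime (Subtype.ext (by rw [Subgroup.coe_pow, pow_two]; exact hT2 _ g.2)) hg

/-- Two strongly closed factors. -/
theorem Small.exists_prod2 (E : Small P S₁ S₂ C₁ C₂ v₁ v₂) (hM : ∀ N : Subgroup G, N.Normal → N.index ≠ 2) :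
    ∃ (T₁ T₂ X₁ X₂ : Subgroup G) (u₁ : G), Prod2 P T₁ T₂ ∧ Axis T₁ X₁ u₁ ∧ Axis T₂ X₂ v₂ ∧
      IsKleinFour T₁ ∧ Nonempty (S₂ ≃* T₂) := by
  obtain ⟨T₁, X₁, u₁, n, R, hK⟩ := E.exists_rot hM
  obtain ⟨T₂, X₂, R', hiso, hf⟩ := R.fused_twist hM
  obtain ⟨c₂, c₁⟩ := R'.closed hM hf
  exact ⟨T₁, T₂, X₁, X₂, u₁, ⟨R'.small.pair.prod, c₁, c₂⟩, R'.small.pair.ax₁, R'.small.pair.ax₂, hK, hiso⟩

end Cfsg.Agent.ProdFusion
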