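import Cfsg.Agent.Lib.ProdFusion.Four
import Cfsg.Agent.Lib.ProdFusion.Klein

/-!
A nonabelian Sylow 2-subgroup with two dihedral factors in a group without subgroups of index two.
-/

set_option autoImplicit false
set_option linter.unusedSectionVars false

namespace Cfsg.Agent.ProdFusion

open Cfsg Cfsg.Agent.SylowSplit

universe u

variable {G : Type u} [Group G] [Finite G] {P : Sylow 2 G} {S₁ S₂ C₁ C₂ : Subgroup G} {v₁ v₂ : G}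

/-- Dihedral up to isomorphism. -/
def IsDih (T : Subgroup G) : Prop := ∃ m : ℕ, 2 ≤ m ∧ Nonempty (T ≃* DihedralGroup m)

theorem IsDih.of_equiv {S T : Subgroup G} (h : IsDih S) (e : Nonempty (S ≃* T)) : IsDih T := by
  obtain ⟨m, hm, ⟨f⟩⟩ := h
  exact ⟨m, hm, ⟨e.some.symm.trans f⟩⟩

theorem IsDih.of_klein {T : Subgroup G} (h : IsKleinFour T) : IsDih T :=
  ⟨2, le_rfl, IsKleinFour.nonempty_mulEquiv⟩

theorem Axis.root_or_sq {S C : Subgroup G} {v : G} (A : Axis S C v) (hS : IsPGroup 2 S) :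
    (∃ r ∈ C, r * r = v) ∨ ∀ a ∈ S, a * a = 1 := by
  by_cases h : ∃ q ∈ C, q * q ≠ 1
  · obtain ⟨q, hq, hq2⟩ := h
    exact Or.inl (A.exists_root hS hq hq2)
  · push Not at h
    refine Or.inr fun a ha => ?_
    by_cases haC : a ∈ C
    · exact h a haC
    · exact A.out_sq a ha haC

theorem Small.exists_dih (E : Small P S₁ S₂ C₁ C₂ v₁ v₂) (hM : ∀ N : Subgroup G, N.Normal → N.index ≠ 2)
    (h₂ : IsDih S₂) : ∃ (T₁ T₂ X₁ X₂ : Subgroup G) (u₁ u₂ : G), Prod2 P T₁ T₂ ∧ Axis T₁ X₁ u₁ ∧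
      Axis T₂ X₂ u₂ ∧ IsDih T₁ ∧ IsDih T₂ := by
  obtain ⟨T₁, T₂, X₁, X₂, u₁, hP, A₁, A₂, hK, hiso⟩ := E.exists_prod2 hM
  exact ⟨T₁, T₂, X₁, X₂, u₁, v₂, hP, A₁, A₂, IsDih.of_klein hK, h₂.of_equiv hiso⟩

theorem Pair.exists_prod2 (D : Pair P S₁ S₂ C₁ C₂ v₁ v₂) (hM : ∀ N : Subgroup G, N.Normal → N.index ≠ 2)
    (hab : ¬ IsMulCommutative (P : Subgroup G)) (h₁ : IsDih S₁) (h₂ : IsDih S₂) :
    ∃ (T₁ T₂ X₁ X₂ : Subgroup G) (u₁ u₂ : G), Prod2 P T₁ T₂ ∧ Axis T₁ X₁ u₁ ∧ Axis T₂ X₂ u₂ ∧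
      IsDih T₁ ∧ IsDih T₂ := by
  rcases D.ax₁.root_or_sq (P.2.to_le D.le₁) with r₁ | q₁ <;>
    rcases D.ax₂.root_or_sq (P.2.to_le D.le₂) with r₂ | q₂
  · obtain ⟨T₁, T₂, X₁, X₂, hP, A₁, A₂, i₁, i₂⟩ := Big.exists_prod2 ⟨D, r₁, r₂⟩ hM
    exact ⟨T₁, T₂, X₁, X₂, v₁, v₂, hP, A₁, A₂, h₁.of_equiv i₁, h₂.of_equiv i₂⟩
  · obtain ⟨T₁, T₂, X₁, X₂, u₁, u₂, hP, A₁, A₂, i₁, i₂⟩ := Small.exists_dih ⟨D.symm, q₂, r₁⟩ hM h₁
    exact ⟨T₂, T₁, X₂, X₁, u₂, u₁, hP.symm, A₂, A₁, i₂, i₁⟩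
  · exact Small.exists_dih ⟨D, q₁, r₂⟩ hM h₂
  · refine absurd ⟨⟨fun x y => Subtype.ext ?_⟩⟩ hab
    have sq : ∀ z ∈ (P : Subgroup G), z * z = 1 := fun z hz => by
      obtain ⟨a, ha, b, hb, rfl⟩ := D.split hz
      rw [D.mul_mul ha hb, q₁ a ha, q₂ b hb, one_mul]
    show (x : G) * y = y * x
    rw [eq_inv_of_mul_eq_one_left (sq _ (mul_mem x.2 y.2)), mul_inv_rev,
      inv_eq_of_mul_eq_one_right (sq _ x.2), inv_eq_of_mul_eq_one_right (sq _ y.2)]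

end Cfsg.Agent.ProdFusion
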