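import Cfsg.Agent.Lib.ProdFusion.Twist
import Cfsg.Agent.S0111

/-!
Thompson transfer for a Sylow 2-subgroup with two dihedral factors.
-/

set_option autoImplicit false
set_option linter.unusedSectionVars false

namespace Cfsg.Agent.ProdFusion

open Cfsg

universe u

variable {G : Type u} [Group G] [Finite G] {P : Sylow 2 G}

/-- An involution outside a subgroup of index two is fused into it. -/
theorem transfer_out (hM : ∀ N : Subgroup G, N.Normal → N.index ≠ 2) {Q : Subgroup G}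
    (hQ : Q ≤ (P : Subgroup G)) {t : G} (ht : t ∈ (P : Subgroup G)) (ht2 : orderOf t = 2) (htQ : t ∉ Q)
    (hcov : ∀ x ∈ (P : Subgroup G), x ∈ Q ∨ x * t ∈ Q) :
    ∃ y ∈ Q, orderOf y = 2 ∧ IsConj t y := by
  have hidx : Q.relIndex (P : Subgroup G) = 2 := by
    rw [Subgroup.relIndex, Subgroup.index_eq_two_iff]
    refine ⟨⟨t, ht⟩, fun b => ?_⟩
    simp only [Subgroup.mem_subgroupOf, Subgroup.coe_mul]
    rcases hcov b b.2 with h | h
    · exact Or.inr ⟨h, fun h' => htQ ((Q.mul_mem_cancel_left h).1 h')⟩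
    · exact Or.inl ⟨h, fun h' => htQ ((Q.mul_mem_cancel_left h').1 h)⟩
  rcases Cfsg.Agent.S0111.result P Q hQ hidx t ht2 ht htQ with ⟨M, hMn, hM2, -⟩ | ⟨g, hg⟩
  · exact absurd hM2 (hM M hMn)
  · exact ⟨_, hg, (BrauerSuzuki.orderOf_conj_eq g t).trans ht2, isConj_iff.2 ⟨g, rfl⟩⟩

variable {S₁ S₂ C₁ C₂ : Subgroup G} {v₁ v₂ : G}

theorem Pair.mem_sup (D : Pair P S₁ S₂ C₁ C₂ v₁ v₂) {X Y : Subgroup G} (hX : X ≤ S₁) (hY : Y ≤ S₂)
    {a b : G} (ha : a ∈ S₁) (hb : b ∈ S₂) : a * b ∈ X ⊔ Y ↔ a ∈ X ∧ b ∈ Y := by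
  have h : X ≤ Subgroup.normalizer (Y : Set G) := fun x hx =>
    Subgroup.centralizer_le_normalizer _ (Subgroup.mem_centralizer_iff.2 fun y hy =>
      (D.comm (hX hx) (hY hy)).eq.symm)
  rw [← SetLike.mem_coe, Subgroup.coe_mul_of_left_le_normalizer_right X Y h]
  constructor
  · rintro ⟨x, hx, y, hy, e⟩
    obtain ⟨rfl, rfl⟩ := D.split_eq (hX hx) ha (hY hy) hb e
    exact ⟨hx, hy⟩
  · exact fun h => ⟨a, h.1, b, h.2, rfl⟩

end Cfsg.Agent.ProdFusion
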