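import Cfsg.Agent.Lib.ProdFusion.Basic

/-!
A dihedral factor described by its cyclic part and central involution, and the reflections fused to the
central involution.
-/

set_option autoImplicit false
set_option linter.unusedSectionVars false
set_option linter.style.haveILetI false

namespace Cfsg.Agent.ProdFusion

open Cfsg Cfsg.Agent.SylowSplit

universe u

variable {G : Type u} [Group G] [Finite G]

/-- `S₁` is dihedral with cyclic part `C` and central involution `v`. -/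
structure Axis (S₁ C : Subgroup G) (v : G) : Prop where
  le : C ≤ S₁
  cyc : IsCyclic C
  vC : v ∈ C
  v2 : orderOf v = 2
  out_sq : ∀ s ∈ S₁, s ∉ C → s * s = 1
  out_mul : ∀ s ∈ S₁, s ∉ C → ∀ t ∈ S₁, t ∉ C → s * t ∈ C
  out : ∃ s ∈ S₁, s ∉ C

/-- The reflections `s` with both `s` and `v * s` fused to `v`. -/
def fused (S₁ C : Subgroup G) (v : G) : Set G :=
  {s | s ∈ S₁ ∧ s ∉ C ∧ IsConj v s ∧ IsConj v (v * s)}

namespace Axis

variable {S₁ C : Subgroup G} {v : G}

theorem mem_of_pow (A : Axis S₁ C v) {u z : G} (hu : u ∈ C) (hz : z ∈ C)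
    (h : z ^ orderOf u = 1) : z ∈ Subgroup.zpowers u := by
  classical
  haveI := A.cyc
  haveI : Fintype C := Fintype.ofFinite C
  have hle := IsCyclic.card_pow_eq_one_le (α := C) (orderOf_pos u)
  have hsub : Finset.univ.filter (fun a : C => (a : G) ∈ Subgroup.zpowers u) ⊆
      Finset.univ.filter (fun a : C => a ^ orderOf u = 1) := by
    intro a ha
    simp only [Finset.mem_filter, Finset.mem_univ, true_and] at ha ⊢
    exact Subtype.ext (orderOf_dvd_iff_pow_eq_one.1 (orderOf_dvd_of_mem_zpowers ha))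
  have hcard : orderOf u ≤ (Finset.univ.filter (fun a : C => (a : G) ∈ Subgroup.zpowers u)).card := by
    rw [← Nat.card_zpowers, ← Nat.card_eq_finsetCard]
    exact le_of_eq (Nat.card_congr
      ⟨fun a => ⟨⟨a, Subgroup.zpowers_le.2 hu a.2⟩, by simp⟩,
        fun a => ⟨((a : C) : G), (Finset.mem_filter.1 a.2).2⟩, fun a => rfl, fun a => rfl⟩)
  have e := Finset.eq_of_subset_of_card_le hsub (hle.trans hcard)
  have : (⟨z, hz⟩ : C) ∈ Finset.univ.filter (fun a : C => (a : G) ∈ Subgroup.zpowers u) := by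
    rw [e]; exact Finset.mem_filter.2 ⟨Finset.mem_univ _, Subtype.ext h⟩
  exact (Finset.mem_filter.1 this).2

theorem eq_v (A : Axis S₁ C v) {u : G} (hu : u ∈ C) (h2 : orderOf u = 2) : u = v := by
  have h := A.mem_of_pow A.vC hu (by rw [A.v2, ← h2, pow_orderOf_eq_one])
  obtain ⟨i, rfl⟩ := Subgroup.mem_zpowers_iff.1 h
  rcases Int.even_or_odd' i with ⟨j, rfl | rfl⟩
  · rw [zpow_mul, show v ^ (2 : ℤ) = 1 by exact_mod_cast (pow_two v).trans (mul_self_of_two A.v2), one_zpow] at h2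
    simp at h2
  · rw [zpow_add, zpow_mul, show v ^ (2 : ℤ) = 1 by exact_mod_cast (pow_two v).trans (mul_self_of_two A.v2),
      one_zpow, one_mul, zpow_one]

theorem conj_inv (A : Axis S₁ C v) {s u : G} (hs : s ∈ S₁) (hsC : s ∉ C) (hu : u ∈ C) :
    s * u * s⁻¹ = u⁻¹ := by
  have h1 := A.out_sq s hs hsC
  have h2 := A.out_sq (s * u) (mul_mem hs (A.le hu)) fun h => hsC ((C.mul_mem_cancel_right hu).1 h)
  have h3 : s⁻¹ = s := inv_eq_of_mul_eq_one_right h1
  rw [h3]
  exact eq_inv_of_mul_eq_one_left (by rw [← h2]; group)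

theorem central (A : Axis S₁ C v) {x : G} (hx : x ∈ S₁) : Commute v x := by
  by_cases h : x ∈ C
  · haveI := A.cyc
    obtain ⟨c, hc⟩ := IsCyclic.exists_generator (α := C)
    obtain ⟨i, hi⟩ := Subgroup.mem_zpowers_iff.1 (hc ⟨v, A.vC⟩)
    obtain ⟨j, hj⟩ := Subgroup.mem_zpowers_iff.1 (hc ⟨x, h⟩)
    have h2 := ((Commute.refl c).zpow_zpow i j)
    rw [hi, hj] at h2
    exact congrArg Subtype.val h2.eq
  · have h1 := A.conj_inv hx h A.vC
    rw [inv_eq_of_mul_eq_one_right (mul_self_of_two A.v2)] at h1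
    exact ((mul_inv_eq_iff_eq_mul).1 h1).symm

theorem fused_conj (A : Axis S₁ C v) {s p : G} (hs : s ∈ fused S₁ C v) (hp : p ∈ S₁) :
    p * s * p⁻¹ ∈ fused S₁ C v := by
  refine ⟨mul_mem (mul_mem hp hs.1) (inv_mem hp), fun h => hs.2.1 ?_, hs.2.2.1.trans (isConj_iff.2 ⟨p, rfl⟩),
    hs.2.2.2.trans (isConj_iff.2 ⟨p, ?_⟩)⟩
  · by_cases hpC : p ∈ C
    · exact (C.mul_mem_cancel_left hpC).1 ((C.mul_mem_cancel_right (inv_mem hpC)).1 h)
    · have := A.conj_inv (inv_mem hp) (fun h' => hpC (by simpa using inv_mem h')) h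
      rw [show p⁻¹ * (p * s * p⁻¹) * p⁻¹⁻¹ = s by group] at this
      rw [this]; exact inv_mem h
  · rw [show p * (v * s) * p⁻¹ = p * v * p⁻¹ * (p * s * p⁻¹) by group, (A.central hp).eq.symm,
      mul_inv_cancel_right]

theorem closure_fused_le (S₁ C : Subgroup G) (v : G) : Subgroup.closure (fused S₁ C v) ≤ S₁ :=
  (Subgroup.closure_le _).2 fun _ hs => hs.1

theorem mul_fused (A : Axis S₁ C v) {s : G} (hs : s ∈ fused S₁ C v) : v * s ∈ fused S₁ C v := by
  refine ⟨mul_mem (A.le A.vC) hs.1, fun h => hs.2.1 ((C.mul_mem_cancel_left A.vC).1 h), hs.2.2.2, ?_⟩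
  rw [← mul_assoc, mul_self_of_two A.v2, one_mul]
  exact hs.2.2.1

/-- Outside `C` the generated subgroup only has fused reflections. -/
theorem closure_fused_out (A : Axis S₁ C v) {t : G} (ht : t ∈ Subgroup.closure (fused S₁ C v))
    (htC : t ∉ C) : t ∈ fused S₁ C v := by
  haveI := A.cyc
  obtain ⟨⟨c, hc⟩, hgen⟩ := IsCyclic.exists_generator (α := C)
  have hpow : ∀ u ∈ C, ∃ i : ℤ, u = c ^ i := fun u hu => by
    obtain ⟨i, hi⟩ := Subgroup.mem_zpowers_iff.1 (hgen ⟨u, hu⟩)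
    exact ⟨i, by simpa using (congrArg Subtype.val hi).symm⟩
  have hinv : ∀ s ∈ fused S₁ C v, ∀ i : ℤ, c ^ i * s = s * c ^ (-i) ∧ s * c ^ i = c ^ (-i) * s :=
    fun s hs i => by
    have h1 : ∀ j : ℤ, s * c ^ j = c ^ (-j) * s := fun j => by
      have := A.conj_inv hs.1 hs.2.1 (Subgroup.zpow_mem C hc j)
      rw [← zpow_neg, mul_inv_eq_iff_eq_mul] at this
      exact this
    exact ⟨by rw [h1, neg_neg], h1 i⟩
  have heven : ∀ s ∈ fused S₁ C v, ∀ i : ℤ, c ^ (2 * i) * s ∈ fused S₁ C v := fun s hs i => by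
    have h := A.fused_conj hs (Subgroup.zpow_mem S₁ (A.le hc) i)
    rwa [mul_assoc, ← zpow_neg, (hinv s hs (-i)).2, neg_neg, ← mul_assoc, ← zpow_add, ← two_mul] at h
  by_cases hall : ∃ s ∈ fused S₁ C v, ∃ i : ℤ, c ^ (2 * i + 1) * s ∈ fused S₁ C v
  · obtain ⟨s, hs, i, hi⟩ := hall
    obtain ⟨n, hn⟩ := hpow (t * s) (A.out_mul t (closure_fused_le S₁ C v ht) htC s hs.1 hs.2.1)
    have hts : t = c ^ n * s := by
      rw [← hn, mul_assoc, A.out_sq s hs.1 hs.2.1, mul_one]
    rcases Int.even_or_odd' n with ⟨j, rfl | rfl⟩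
    · rw [hts]; exact heven s hs j
    · have := heven _ hi (j - i)
      rwa [← mul_assoc, ← zpow_add, show 2 * (j - i) + (2 * i + 1) = 2 * j + 1 by ring, ← hts] at this
  · push Not at hall
    have key : t ∈ fused S₁ C v ∨ ∃ i : ℤ, t = c ^ (2 * i) := by
      clear htC
      induction ht using Subgroup.closure_induction with
      | mem x hx => exact Or.inl hx
      | one => exact Or.inr ⟨0, by simp⟩
      | inv x _ ih =>
        rcases ih with h | ⟨i, rfl⟩
        · exact Or.inl (by rwa [inv_eq_of_mul_eq_one_right (A.out_sq x h.1 h.2.1)])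
        · exact Or.inr ⟨-i, by rw [mul_neg, zpow_neg]⟩
      | mul x y _ _ ihx ihy =>
        rcases ihx with hx | ⟨i, rfl⟩ <;> rcases ihy with hy | ⟨j, rfl⟩
        · obtain ⟨n, hn⟩ := hpow (x * y) (A.out_mul x hx.1 hx.2.1 y hy.1 hy.2.1)
          rcases Int.even_or_odd' n with ⟨m, rfl | rfl⟩
          · exact Or.inr ⟨m, hn⟩
          · refine absurd ?_ (hall y hy m)
            rw [← hn, mul_assoc, A.out_sq y hy.1 hy.2.1, mul_one]
            exact hx
        · exact Or.inl (by rw [(hinv x hx (2 * j)).2, ← mul_neg]; exact heven x hx _)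
        · exact Or.inl (heven y hy i)
        · exact Or.inr ⟨i + j, by rw [← zpow_add, mul_add]⟩
    rcases key with h | ⟨i, rfl⟩
    · exact h
    · exact absurd (Subgroup.zpow_mem C hc _) htC

end Axis

end Cfsg.Agent.ProdFusion
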