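import Cfsg.Agent.Lib.ProdFusion.Theta
import Cfsg.Agent.Lib.SylowSplit.Core

/-!
A normal subgroup containing the involutions of the second factor and missing the central involution of
the first.
-/

set_option autoImplicit false
set_option linter.unusedSectionVars false
set_option linter.style.haveILetI false

namespace Cfsg.Agent.ProdFusion

open Cfsg Cfsg.Agent.SylowSplit Cfsg.Agent.Blocks Cfsg.Agent.Char

universe u

variable {G : Type u} [Group G] [Finite G] {P : Sylow 2 G} {S₁ S₂ C : Subgroup G} {v : G}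

/-- At most three points satisfying both moment conditions sit at `1`. -/
theorem moments_one {ι : Type*} (s : Finset ι) (hs : s.card ≤ 3) (μ ν ρ : ι → ℂ)
    (m0 : ∑ i ∈ s, μ i = 3) (m1 : ∑ i ∈ s, μ i * ρ i = 3) (m2 : ∑ i ∈ s, μ i * ρ i ^ 2 = 3)
    (n0 : ∑ i ∈ s, ν i = -1) (n1 : ∑ i ∈ s, ν i * ρ i = -1) (n2 : ∑ i ∈ s, ν i * ρ i ^ 2 = -1)
    (hw : ∀ i ∈ s, μ i + 3 * ν i ≠ 0) (hν : ∀ i ∈ s, ν i ≠ 0) :
    ∀ i ∈ s, ρ i = 1 := by
  classical
  intro i hi
  by_contra hne
  obtain ⟨j, hj, hj1⟩ : ∃ j ∈ s, ρ j = 1 := by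
    by_contra hall
    push Not at hall
    exact moments_false s hs μ ν ρ m0 m1 m2 n0 n1 n2 hall hw
  set T := s.filter (fun k => ρ k ≠ 1) with hT
  have hTcard : T.card ≤ 2 := by
    have : T ⊆ s.erase j := fun k hk => Finset.mem_erase.2
      ⟨fun e => (Finset.mem_filter.1 hk).2 (e ▸ hj1), (Finset.mem_filter.1 hk).1⟩
    have := Finset.card_le_card this
    rw [Finset.card_erase_of_mem hj] at this
    omega
  have hiT : i ∈ T := Finset.mem_filter.2 ⟨hi, hne⟩
  have key : ∀ f : ι → ℂ, ∀ a : ℂ, ∑ k ∈ s, f k = a → ∑ k ∈ s, f k * ρ k = a →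
      ∑ k ∈ s, f k * ρ k ^ 2 = a →
      ∑ k ∈ T, f k * (ρ k - 1) = 0 ∧ ∑ k ∈ T, f k * (ρ k - 1) * ρ k = 0 := by
    intro f a e0 e1 e2
    have hz : ∀ g : ι → ℂ, ∑ k ∈ T, f k * (ρ k - 1) * g k = ∑ k ∈ s, f k * (ρ k - 1) * g k := fun g =>
      Finset.sum_filter_of_ne fun k _ h e => h (by rw [e, sub_self, mul_zero, zero_mul])
    constructor
    · have := hz fun _ => 1
      simp only [mul_one] at this
      rw [this]
      simp only [mul_sub, mul_one, Finset.sum_sub_distrib, e0, e1, sub_self]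
    · rw [hz ρ]
      simp only [mul_sub, sub_mul, mul_one, mul_assoc, ← pow_two, Finset.sum_sub_distrib, e2, e1, sub_self]
  obtain ⟨p1, p2⟩ := key ν (-1) n0 n1 n2
  obtain ⟨q1, q2⟩ := key μ 3 m0 m1 m2
  rcases Nat.lt_or_ge T.card 2 with h2 | h2
  · obtain ⟨k, hk⟩ := Finset.card_eq_one.1 (show T.card = 1 by
      have := Finset.card_pos.2 ⟨i, hiT⟩; omega)
    have hki : i = k := by rw [hk, Finset.mem_singleton] at hiT; exact hiT
    rw [hk, Finset.sum_singleton, ← hki] at p1
    exact hν i hi ((mul_eq_zero.1 p1).resolve_right (sub_ne_zero.2 hne))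
  · obtain ⟨a, b, hab, hT2⟩ := Finset.card_eq_two.1 (show T.card = 2 by omega)
    have haT : a ∈ T := hT2 ▸ Finset.mem_insert_self a _
    have hbT : b ∈ T := hT2 ▸ Finset.mem_insert_of_mem (Finset.mem_singleton_self b)
    obtain ⟨has, ha1⟩ := Finset.mem_filter.1 haT
    obtain ⟨hbs, hb1⟩ := Finset.mem_filter.1 hbT
    rw [hT2, Finset.sum_pair hab] at p1 p2 q1
    have e1 : ν a * (ρ a - 1) * (ρ a - ρ b) = 0 := by linear_combination p2 - ρ b * p1
    have hρ : ρ a = ρ b := sub_eq_zero.1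
      ((mul_eq_zero.1 e1).resolve_left (mul_ne_zero (hν a has) (sub_ne_zero.2 ha1)))
    rw [← hρ, ← add_mul] at p1 q1
    have hνab := (mul_eq_zero.1 p1).resolve_right (sub_ne_zero.2 ha1)
    have hμab := (mul_eq_zero.1 q1).resolve_right (sub_ne_zero.2 ha1)
    -- the rest is the single point at one
    have hsT : s = insert a (insert b {j}) := by
      refine (Finset.eq_of_subset_of_card_le ?_ ?_).symm
      · intro k hk
        simp only [Finset.mem_insert, Finset.mem_singleton] at hk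
        rcases hk with rfl | rfl | rfl
        · exact has
        · exact hbs
        · exact hj
      · rw [Finset.card_insert_of_notMem, Finset.card_insert_of_notMem, Finset.card_singleton]
        · exact hs
        · rw [Finset.mem_singleton]; exact fun e => hb1 (e ▸ hj1)
        · simp only [Finset.mem_insert, Finset.mem_singleton, hab, false_or]
          exact fun e => ha1 (e ▸ hj1)
    have hj' : ∀ f : ι → ℂ, ∑ k ∈ s, f k = f a + f b + f j := fun f => by
      rw [hsT, Finset.sum_insert, Finset.sum_insert, Finset.sum_singleton, add_assoc]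
      · rw [Finset.mem_singleton]; exact fun e => hb1 (e ▸ hj1)
      · simp only [Finset.mem_insert, Finset.mem_singleton, hab, false_or]
        exact fun e => ha1 (e ▸ hj1)
    rw [hj', hνab, zero_add] at n0
    rw [hj', hμab, zero_add] at m0
    exact hw j hj (by rw [n0, m0]; norm_num)

/-- The theorem for a single class of reflections. -/
theorem OneClass.exists_normal (E : OneClass P S₁ S₂ C v) :
    ∃ N : Subgroup G, N.Normal ∧ (∀ r ∈ S₂, orderOf r = 2 → r ∈ N) ∧ v ∉ N := by
  classical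
  haveI : Fact (Nat.Prime 2) := ⟨Nat.prime_two⟩
  haveI : Fintype G := Fintype.ofFinite G
  obtain ⟨M, hM⟩ := Cfsg.Agent.Blocks.exists_isPModular_witness 2
  haveI : M.IsPrime := hM.2.1.isPrime
  obtain ⟨θ, hgen, hsec, hθv, h0, hdep, hone, n, hn, hnorm⟩ := E.exists_theta
  have hcls := IsGeneralizedCharacter.isClassFunction hgen
  have D := E.prod
  have hv1 : InR S₁ v := InR.of_mem (E.axis.le E.axis.vC)
  have hao : ∀ a, IsConj v a → orderOf a = 2 ∧ InR S₁ a := fun a h => by
    obtain ⟨k, rfl⟩ := isConj_iff.1 h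
    exact ⟨(BrauerSuzuki.orderOf_conj_eq k v).trans E.axis.v2, hv1.conj k⟩
  -- multiplication by an element fused into the second factor does not change the value
  have hmul : ∀ g x : G, orderOf g = 2 → orderOf x = 2 → InR S₂ x → θ (g * x) = θ g := by
    intro g x hg hx hxR
    obtain ⟨y, w, b, -, hpp, hy, hb, -, -, -, hT⟩ := involution_product hg hx
    obtain ⟨q, hq⟩ := exists_conj_le P hT
    have h1 := hq g (Subgroup.mem_sup_left (Subgroup.mem_zpowers g))
    have h2 := hq y (Subgroup.mem_sup_right (Subgroup.mem_zpowers y))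
    rw [hsec, tp_eq hpp, ← hcls y q, ← hcls g q]
    refine hdep ⟨_, h2⟩ ⟨_, h1⟩ ?_
    have hb2 : InR S₂ b := by
      obtain ⟨c, rfl⟩ := isConj_iff.1 hb
      exact hxR.conj c
    have hbP : q * b * q⁻¹ ∈ (P : Subgroup G) := by
      have := mul_mem (inv_mem h1) h2
      rwa [show (q * g * q⁻¹)⁻¹ * (q * y * q⁻¹) = q * (g⁻¹ * y) * q⁻¹ by group, hy, inv_mul_cancel_left]
        at this
    rw [show (⟨_, h2⟩ : (P : Subgroup G)) = ⟨_, h1⟩ * ⟨_, hbP⟩ from Subtype.ext (by
        show q * y * q⁻¹ = q * g * q⁻¹ * (q * b * q⁻¹)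
        rw [hy]; group), map_mul, (D.π_eq_one_iff ⟨_, hbP⟩).2 (D.mem₂ hbP (hb2.conj q)), mul_one]
  obtain ⟨c, hc, hcoef⟩ := IsGeneralizedCharacter.exists_coeff hgen
  have hθ : ∀ g, ∑ χ : IrrCharacter G, (c χ : ℂ) * (χ : G → ℂ) g = θ g := fun g => by
    conv_rhs => rw [hc]
    simp [Finset.sum_apply]
  have hB : ∀ χ : IrrCharacter G, c χ ≠ 0 → χ ∈ principalBlock M G := fun χ hne =>
    mem_principalBlock_of_sectional hM hsec (by rw [hcoef]; exact_mod_cast hne)
  have hc1 : c (Char.principal G) = 1 := by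
    have h := hcoef (Char.principal G)
    rw [show ((Char.principal G : IrrCharacter G) : G → ℂ) = fun _ => 1 from rfl, hone] at h
    exact_mod_cast h.symm
  rw [IsGeneralizedCharacter.norm_eq hc] at hnorm
  have hsq : ∑ χ, c χ * c χ = n := by exact_mod_cast hnorm
  set s := (Finset.univ.erase (Char.principal G)).filter (fun χ => c χ ≠ 0) with hs
  have hscard : s.card ≤ 3 := by
    rw [← Finset.add_sum_erase _ _ (Finset.mem_univ (Char.principal G)), hc1] at hsq
    have h1 : (s.card : ℤ) ≤ ∑ χ ∈ Finset.univ.erase (Char.principal G), c χ * c χ := by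
      calc (s.card : ℤ) = ∑ _χ ∈ s, (1 : ℤ) := by simp
        _ ≤ ∑ χ ∈ s, c χ * c χ := Finset.sum_le_sum fun χ hχ => by
            have := mul_self_pos.mpr (Finset.mem_filter.1 hχ).2; linarith
        _ ≤ _ := Finset.sum_le_sum_of_subset_of_nonneg (Finset.filter_subset _ _)
            fun χ _ _ => mul_self_nonneg _
    have : (n : ℤ) ≤ 4 := by exact_mod_cast hn
    have : (s.card : ℤ) ≤ 3 := by linarith
    exact_mod_cast this
  have hrest : ∀ f : IrrCharacter G → ℂ, ∑ χ ∈ s, (c χ : ℂ) * f χ =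
      (∑ χ, (c χ : ℂ) * f χ) - f (Char.principal G) := by
    intro f
    rw [← Finset.add_sum_erase _ _ (Finset.mem_univ (Char.principal G)), hc1, hs,
      Finset.sum_filter_of_ne fun χ _ h => by
        intro e; exact h (by rw [e, Int.cast_zero, zero_mul])]
    push_cast
    ring
  have hd : ∀ χ : IrrCharacter G, (χ : G → ℂ) 1 ≠ 0 := irr_one_ne_zero
  have hθ1 : θ 1 = 0 := h0 1 (InR.of_mem (one_mem S₂))
  choose ker hkn hkmem _ using fun χ : IrrCharacter G =>
    Cfsg.Agent.Char.IsCharacter.exists_kernel (irr_isCharacter χ)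
  refine ⟨⨅ χ : {χ : IrrCharacter G // c χ ≠ 0}, ker χ.1, Subgroup.normal_iInf_normal fun χ => hkn _,
    fun r hrS hr => Subgroup.mem_iInf.2 fun χ => (hkmem _ r).2 ?_, fun hv => ?_⟩
  · by_cases hχ1 : χ.1 = Char.principal G
    · rw [hχ1]; rfl
    have hχs : χ.1 ∈ s := Finset.mem_filter.2 ⟨Finset.mem_erase.2 ⟨hχ1, Finset.mem_univ _⟩, χ.2⟩
    set ρ : IrrCharacter G → ℂ := fun χ => (χ : G → ℂ) r / (χ : G → ℂ) 1 with hρdef
    have hrR : InR S₂ r := InR.of_mem hrS
    have hconjR : ∀ {b : G}, IsConj r b → InR S₂ b ∧ orderOf b = 2 := by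
      intro b hb
      obtain ⟨k, rfl⟩ := isConj_iff.1 hb
      exact ⟨hrR.conj k, (BrauerSuzuki.orderOf_conj_eq k r).trans hr⟩
    have hθr : θ r = 0 := h0 r hrR
    have hval : ∀ a : G, IsConj v a → θ a = 4 := fun a h => by
      obtain ⟨k, rfl⟩ := isConj_iff.1 h
      rw [hcls, hθv]
    -- the block values at the products
    have har : ∀ a : G, IsConj v a → ∃ z b : G, z = a * b ∧ orderOf b = 2 ∧ InR S₂ b ∧ orderOf z = 2 ∧
        ∀ χ ∈ principalBlock M G, (χ : G → ℂ) (a * r) = (χ : G → ℂ) z := by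
      intro a hca
      obtain ⟨hao', haR⟩ := hao a hca
      obtain ⟨z, w, b, hab, hpp, hz, hb, hwz, hinv, hwo, hT⟩ := involution_product hao' hr
      obtain ⟨hbR, hb2⟩ := hconjR hb
      have hbT : b ∈ (Subgroup.zpowers a ⊔ Subgroup.zpowers z : Subgroup G) := by
        have : b = a⁻¹ * z := by rw [hz, inv_mul_cancel_left]
        rw [this]
        exact mul_mem (inv_mem (Subgroup.mem_sup_left (Subgroup.mem_zpowers a)))
          (Subgroup.mem_sup_right (Subgroup.mem_zpowers z))
      have hcom : Commute a b := D.commute_of_pGroup hT (Subgroup.mem_sup_left (Subgroup.mem_zpowers a))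
        hbT haR hbR
      have hzo : orderOf z = 2 := by
        refine orderOf_two ?_ fun e => ?_
        · rw [hz, hcom.symm.mul_mul_mul_comm, mul_self_of_two hao', mul_self_of_two hb2, one_mul]
        · have h44 := hmul a b hao' hb2 hbR
          rw [← hz, e, hθ1, hval a hca] at h44
          norm_num at h44
      refine ⟨z, b, hz, hb2, hbR, hzo, fun χ hχ => ?_⟩
      set C' := Subgroup.centralizer ({z} : Set G) with hC
      haveI : Fintype C' := Fintype.ofFinite _
      have haC : a ∈ C' := Subgroup.mem_centralizer_singleton_iff.2 (by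
        rw [hz]; exact ((Commute.refl a).mul_right hcom).eq)
      have hwC : w ∈ C' := Subgroup.mem_centralizer_singleton_iff.2 hwz.eq
      have hZ : InZStar 2 (⟨a, haC⟩ : C') := by
        refine BrauerSuzuki.zStar C' ⟨a, haC⟩ (by rw [← Subgroup.orderOf_coe]; exact hao') fun g hg => ?_
        obtain ⟨a', ha'⟩ : ∃ a', a' = (g : G) * a * (g : G)⁻¹ := ⟨_, rfl⟩
        refine Subtype.ext (show (g : G) * a * (g : G)⁻¹ = a from ?_)
        rw [← ha']
        have ha'2 : orderOf a' = 2 := ha' ▸ (BrauerSuzuki.orderOf_conj_eq _ a).trans hao'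
        have ha'R : InR S₁ a' := ha' ▸ haR.conj _
        have ha'C : Commute a' z := by
          have h1 : Commute a z := Subgroup.mem_centralizer_singleton_iff.1 haC
          have h2 := h1.map (MulAut.conj (g : G)).toMonoidHom
          simp only [MulEquiv.coe_toMonoidHom, MulAut.conj_apply] at h2
          rwa [← ha', mul_inv_eq_iff_eq_mul.2 (Subgroup.mem_centralizer_singleton_iff.1 g.2)] at h2
        have haa : Commute a a' := by rw [ha']; simpa using hg.map C'.subtype
        obtain ⟨T, hT3, h1, h2, h3⟩ := exists_pGroup_triple (a := a) (b := a') (c := z)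
          ⟨1, hao'.trans (pow_one 2).symm⟩ ⟨1, ha'2.trans (pow_one 2).symm⟩
          ⟨1, hzo.trans (pow_one 2).symm⟩ haa
          (Subgroup.mem_centralizer_singleton_iff.1 haC) ha'C
        obtain ⟨q, hq⟩ := exists_conj_le P hT3
        have hb' : a⁻¹ * z = b := by rw [hz, inv_mul_cancel_left]
        have hbP : q * b * q⁻¹ ∈ (P : Subgroup G) := hq _ (hb' ▸ mul_mem (inv_mem h1) h3)
        have hb'' : (q * a' * q⁻¹)⁻¹ * (q * z * q⁻¹) ∈ S₂ := by
          have hzb : a'⁻¹ * z = (g : G) * b * (g : G)⁻¹ := by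
            have hgz : (g : G) * z * (g : G)⁻¹ = z :=
              mul_inv_eq_iff_eq_mul.2 (Subgroup.mem_centralizer_singleton_iff.1 g.2)
            conv_lhs => rw [← hgz, ha']
            rw [← hb']; group
          rw [show (q * a' * q⁻¹)⁻¹ * (q * z * q⁻¹) = q * (a'⁻¹ * z) * q⁻¹ by group]
          refine D.mem₂ (hq _ (mul_mem (inv_mem h2) h3)) ?_
          rw [hzb]
          exact (hbR.conj _).conj q
        have e1 := D.π_eq (x := ⟨_, hq _ h3⟩) (a := ⟨_, D.mem₁ (hq _ h1) (haR.conj q)⟩) (by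
          show (q * a * q⁻¹)⁻¹ * (q * z * q⁻¹) ∈ S₂
          rw [show (q * a * q⁻¹)⁻¹ * (q * z * q⁻¹) = q * (a⁻¹ * z) * q⁻¹ by group, hb']
          exact D.mem₂ hbP (hbR.conj q))
        have e2 := D.π_eq (x := ⟨_, hq _ h3⟩) (a := ⟨_, D.mem₁ (hq _ h2) (ha'R.conj q)⟩) hb''
        have := congrArg Subtype.val (e1.symm.trans e2)
        exact ((MulAut.conj q).injective this).symm
      have hwO := mem_pPrimeCore_of_inverted (w := (⟨w, hwC⟩ : C')) hZ (Subtype.ext hinv)
        (by rw [← Subgroup.orderOf_coe]; exact hwo)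
      haveI : (pPrimeCore 2 C').Normal := Cfsg.Agent.FittingCores.pPrimeCore_normal 2
      rw [hab]
      exact irr_section_of_kernel hM ⟨1, hzo.trans (pow_one 2).symm⟩ rfl hχ (pPrimeCore 2 C')
        (fun h => Nat.prime_two.coprime_iff_not_dvd.1
          (Cfsg.Agent.FittingCores.pPrimeCore_coprime (G := C') 2).symm h) hwO
    -- the moments
    have E1 : ∑ χ, (c χ : ℂ) * ((χ : G → ℂ) v * (χ : G → ℂ) r / (χ : G → ℂ) 1) = 4 := by
      rw [sum_weighted]
      refine average_const fun j => ?_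
      have hca : IsConj v (j⁻¹ * v * j) := isConj_iff.2 ⟨j⁻¹, by group⟩
      rw [hθ, hmul _ r (hao _ hca).1 hr hrR, hval _ hca]
    have E2 : ∑ χ, (c χ : ℂ) * ((χ : G → ℂ) r * (χ : G → ℂ) r / (χ : G → ℂ) 1) = 0 := by
      rw [sum_weighted]
      refine average_const fun j => ?_
      obtain ⟨hR', h2'⟩ := hconjR (b := j⁻¹ * r * j) (isConj_iff.2 ⟨j⁻¹, by group⟩)
      rw [hθ, hmul _ r h2' hr hrR, h0 _ hR']
    have E3 : ∑ χ, (c χ : ℂ) * ρ χ * ((χ : G → ℂ) v * (χ : G → ℂ) r / (χ : G → ℂ) 1) = 4 := by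
      rw [sum_weighted]
      refine average_const fun j => ?_
      have hca : IsConj v (j⁻¹ * v * j) := isConj_iff.2 ⟨j⁻¹, by group⟩
      obtain ⟨z, b, hz, hb2, hbR, hzo, hval'⟩ := har _ hca
      have e : ∀ χ : IrrCharacter G, (c χ : ℂ) * ρ χ * (χ : G → ℂ) (j⁻¹ * v * j * r) =
          (c χ : ℂ) * ((χ : G → ℂ) z * (χ : G → ℂ) r / (χ : G → ℂ) 1) := by
        intro χ
        by_cases h : c χ = 0
        · simp [h]
        · rw [hval' χ (hB χ h)]; simp only [hρdef]; ring
      rw [Finset.sum_congr rfl fun χ _ => e χ, sum_weighted]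
      refine average_const fun i => ?_
      rw [hθ, hmul _ r (by rw [show i⁻¹ * z * i = i⁻¹ * z * i⁻¹⁻¹ by group,
          BrauerSuzuki.orderOf_conj_eq, hzo]) hr hrR,
        show i⁻¹ * z * i = i⁻¹ * z * i⁻¹⁻¹ by group, hcls, hz,
        hmul _ b (hao _ hca).1 hb2 hbR, hval _ hca]
    have hd1 : ρ (Char.principal G) = 1 := by simp [hρdef, Char.principal]
    have := moments_one s hscard (fun χ => (c χ : ℂ) * (χ : G → ℂ) v)
      (fun χ => (c χ : ℂ) * (χ : G → ℂ) 1) ρ ?_ ?_ ?_ ?_ ?_ ?_ (fun χ hχ => ?_)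
      (fun χ hχ => mul_ne_zero (Int.cast_ne_zero.2 (Finset.mem_filter.1 hχ).2) (hd χ)) _ hχs
    · simp only [hρdef, div_eq_one_iff_eq (hd _)] at this
      exact this
    · rw [hrest (fun χ => (χ : G → ℂ) v), hθ, hθv]; norm_num [Char.principal]
    · simp only [mul_assoc]
      rw [hrest (fun χ => (χ : G → ℂ) v * ρ χ)]
      rw [show (∑ χ, (c χ : ℂ) * ((χ : G → ℂ) v * ρ χ)) = 4 from by
        rw [← E1]; refine Finset.sum_congr rfl fun χ _ => ?_; simp only [hρdef]; ring]
      rw [hd1]; norm_num [Char.principal]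
    · simp only [mul_assoc]
      rw [hrest (fun χ => (χ : G → ℂ) v * ρ χ ^ 2)]
      rw [show (∑ χ, (c χ : ℂ) * ((χ : G → ℂ) v * ρ χ ^ 2)) = 4 from by
        rw [← E3]; refine Finset.sum_congr rfl fun χ _ => ?_; simp only [hρdef]; ring]
      rw [hd1]; norm_num [Char.principal]
    · rw [hrest (fun χ => (χ : G → ℂ) 1), hθ, hθ1]; norm_num [Char.principal]
    · simp only [mul_assoc]
      rw [hrest (fun χ => (χ : G → ℂ) 1 * ρ χ)]
      rw [show (∑ χ, (c χ : ℂ) * ((χ : G → ℂ) 1 * ρ χ)) = 0 from by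
        rw [← hθr, ← hθ r]; refine Finset.sum_congr rfl fun χ _ => ?_
        simp only [hρdef]; rw [mul_div_cancel₀ _ (hd χ)]]
      rw [hd1]; norm_num [Char.principal]
    · simp only [mul_assoc]
      rw [hrest (fun χ => (χ : G → ℂ) 1 * ρ χ ^ 2)]
      rw [show (∑ χ, (c χ : ℂ) * ((χ : G → ℂ) 1 * ρ χ ^ 2)) = 0 from by
        rw [← E2]; refine Finset.sum_congr rfl fun χ _ => ?_
        have := hd χ
        simp only [hρdef]; field_simp]
      rw [hd1]; norm_num [Char.principal]
    · intro e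
      have hne : (c χ : ℂ) ≠ 0 := Int.cast_ne_zero.2 (Finset.mem_filter.1 hχ).2
      have e1 : (χ : G → ℂ) v = -(3 * (χ : G → ℂ) 1) := by
        apply mul_left_cancel₀ hne; linear_combination e
      obtain ⟨d, π, -, hπe⟩ := χ.2
      have h1 := Cfsg.Agent.Char.norm_char_le π v
      rw [hπe, e1, norm_neg, norm_mul] at h1
      have h2 : (χ : G → ℂ) 1 = (Module.finrank ℂ (Fin d → ℂ) : ℂ) := by
        rw [← hπe, Representation.char_one]
      rw [h2] at h1
      have hpos : (0 : ℝ) < (Module.finrank ℂ (Fin d → ℂ) : ℝ) := by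
        have hne0 := hd χ
        rw [h2] at hne0
        exact_mod_cast Nat.pos_of_ne_zero (fun h => hne0 (by simp [h]))
      norm_num at h1
      simp only [Module.finrank_pi, Fintype.card_fin] at h1 hpos
      nlinarith
  · have : θ v = θ 1 := by
      rw [← hθ v, ← hθ 1]
      refine Finset.sum_congr rfl fun χ _ => ?_
      by_cases h : c χ = 0
      · simp [h]
      · rw [(hkmem χ v).1 (Subgroup.mem_iInf.1 hv ⟨χ, h⟩)]
    rw [hθv, hθ1] at this
    norm_num at this

end Cfsg.Agent.ProdFusion
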