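import Cfsg.Agent.Lib.ProdFusion.Cut
import Cfsg.Agent.Lib.SylowSplit.Density

/-!
Fusion of components and the sums over sections when all reflections are fused to the central involution.
-/

set_option autoImplicit false
set_option linter.unusedSectionVars false
set_option linter.style.haveILetI false

namespace Cfsg.Agent.ProdFusion

open Cfsg Cfsg.Agent.SylowSplit

universe u

variable {G : Type u} [Group G] [Finite G] {P : Sylow 2 G} {S₁ S₂ C : Subgroup G} {v : G}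

/-- A dihedral first factor with a single class of reflections fused to the central involution. -/
structure OneClass (P : Sylow 2 G) (S₁ S₂ C : Subgroup G) (v : G) : Prop where
  prod : Prod2 P S₁ S₂
  axis : Axis S₁ C v
  fus : ∀ s ∈ S₁, s ∉ C → IsConj v s

namespace OneClass

theorem v_central (E : OneClass P S₁ S₂ C v) {x : G} (hx : x ∈ (P : Subgroup G)) : Commute v x := by
  have h1 := E.prod.π_spec ⟨x, hx⟩
  have h2 := (E.axis.central (E.prod.π ⟨x, hx⟩).2).mul_right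
    (E.prod.comm (E.axis.le E.axis.vC) h1)
  rwa [mul_inv_cancel_left] at h2

/-- The projection extends to the centraliser of the central involution. -/
theorem exists_tau (E : OneClass P S₁ S₂ C v) :
    ∃ τ : Subgroup.centralizer ({v} : Set G) →* S₁,
      ∀ (x : (P : Subgroup G)) (hx : (x : G) ∈ Subgroup.centralizer ({v} : Set G)),
        τ ⟨x, hx⟩ = E.prod.π x := by
  set H := Subgroup.centralizer ({v} : Set G) with hH
  have hPH : (P : Subgroup G) ≤ H := fun x hx =>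
    Subgroup.mem_centralizer_singleton_iff.2 (E.v_central hx).eq.symm
  let Q : Sylow 2 H := P.subtype hPH
  have D' := E.prod.restrict Q rfl (E.prod.le₂.trans hPH)
  obtain ⟨s, hs, hsC⟩ := E.axis.out
  have A' := E.axis.restrict (K := H) (hPH (E.prod.le₁ (E.axis.le E.axis.vC)))
    ⟨s, hs, hsC, hPH (E.prod.le₁ hs)⟩
  obtain ⟨τ', hτ'⟩ := exists_hom D' A' (Set.eq_empty_iff_forall_notMem.2 fun t ⟨_, ht, hc, _⟩ => by
    obtain ⟨k, hk⟩ := isConj_iff.1 hc
    have : t = ⟨v, hPH (E.prod.le₁ (E.axis.le E.axis.vC))⟩ := by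
      rw [← hk]
      exact Subtype.ext (mul_inv_eq_iff_eq_mul.2 (Subgroup.mem_centralizer_singleton_iff.1 k.2))
    exact ht (this ▸ E.axis.vC))
  refine ⟨((H.subtype.comp (S₁.subgroupOf H).subtype).codRestrict S₁ fun x => x.2).comp τ',
    fun x hx => Subtype.ext ?_⟩
  show ((τ' ⟨x, hx⟩ : H) : G) = E.prod.π x
  rw [hτ' ⟨⟨x, hx⟩, x.2⟩]
  exact E.prod.π_restrict D' _ x.2

theorem half_mem (E : OneClass P S₁ S₂ C v) {u : S₁} (hu : (u : G) ∈ C) (h1 : u ≠ 1) :
    (u : G) ^ (orderOf u / 2) = v := by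
  obtain ⟨k, hk⟩ := two_elt_of_mem P.2 (E.prod.le₁ u.2)
  have hk0 : k ≠ 0 := fun h => h1 (Subtype.ext (orderOf_eq_one_iff.1 (by rw [hk, h, pow_zero])))
  obtain ⟨j, rfl⟩ := Nat.exists_eq_add_one_of_ne_zero hk0
  refine E.axis.eq_v (pow_mem hu _) ?_
  rw [← Subgroup.orderOf_coe, hk, pow_succ, Nat.mul_div_cancel _ two_pos,
    orderOf_pow_of_dvd (pow_ne_zero _ two_ne_zero) (hk ▸ pow_dvd_pow 2 (by omega)), hk, pow_succ,
    Nat.mul_div_cancel_left _ (by positivity)]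

/-- Every element of `P` is fused to one whose component lies in `C`. -/
theorem exists_rep (E : OneClass P S₁ S₂ C v) (x : (P : Subgroup G)) :
    ∃ x' : (P : Subgroup G), IsConj (x : G) (x' : G) ∧ (E.prod.π x' : G) ∈ C ∧
      ((E.prod.π x : G) ∉ C → (E.prod.π x' : G) = v) ∧ ((E.prod.π x : G) ∈ C → x' = x) := by
  haveI : Fact (Nat.Prime 2) := ⟨Nat.prime_two⟩
  by_cases hC : (E.prod.π x : G) ∈ C
  · exact ⟨x, IsConj.refl _, hC, fun h => absurd hC h, fun _ => rfl⟩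
  obtain ⟨g, hg⟩ := isConj_iff.1 (E.fus _ (E.prod.π x).2 hC).symm
  set H := Subgroup.centralizer ({v} : Set G) with hH
  have hPH : (P : Subgroup G) ≤ H := fun z hz =>
    Subgroup.mem_centralizer_singleton_iff.2 (E.v_central hz).eq.symm
  let Q : Sylow 2 H := P.subtype hPH
  have hcx : Commute (E.prod.π x : G) (x : G) := by
    have h1 := (Commute.refl (E.prod.π x : G)).mul_right (E.prod.comm (E.prod.π x).2 (E.prod.π_spec x))
    rwa [mul_inv_cancel_left] at h1
  have hxH : g * (x : G) * g⁻¹ ∈ H := by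
    refine Subgroup.mem_centralizer_singleton_iff.2 ?_
    have h1 := hcx.map (MulAut.conj g).toMonoidHom
    simp only [MulEquiv.coe_toMonoidHom, MulAut.conj_apply, hg] at h1
    exact h1.eq.symm
  obtain ⟨c, hc⟩ := exists_conj_mem Q (x := (⟨_, hxH⟩ : H)) (by
    rw [← Subgroup.orderOf_coe]
    show ∃ k, orderOf (g * (x : G) * g⁻¹) = 2 ^ k
    simpa only [BrauerSuzuki.orderOf_conj_eq] using two_elt_of_mem P.2 x.2)
  have hc' : (c : G) * (g * (x : G) * g⁻¹) * (c : G)⁻¹ ∈ (P : Subgroup G) := hc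
  have hcv : (c : G) * g * (E.prod.π x : G) * ((c : G) * g)⁻¹ = v := by
    rw [show (c : G) * g * (E.prod.π x : G) * ((c : G) * g)⁻¹ =
      (c : G) * (g * (E.prod.π x : G) * g⁻¹) * (c : G)⁻¹ by group, hg]
    exact mul_inv_eq_iff_eq_mul.2 (Subgroup.mem_centralizer_singleton_iff.1 c.2)
  have e := E.prod.π_conj (x := x) (x' := ⟨_, hc'⟩) (g := (c : G) * g) (by simp only; group)
    (by rw [hcv]; exact E.prod.le₁ (E.axis.le E.axis.vC))
  rw [hcv] at e
  exact ⟨⟨_, hc'⟩, isConj_iff.2 ⟨(c : G) * g, by simp only; group⟩, (by rw [e]; exact E.axis.vC), fun _ => e,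
    fun h => absurd h hC⟩

/-- Components in `C` of fused elements agree up to inversion. -/
theorem π_unique (E : OneClass P S₁ S₂ C v) {x x' : (P : Subgroup G)} (h : IsConj (x : G) (x' : G))
    (hx : (E.prod.π x : G) ∈ C) (hx' : (E.prod.π x' : G) ∈ C) :
    E.prod.π x' = E.prod.π x ∨ E.prod.π x' = (E.prod.π x)⁻¹ := by
  have hord := E.prod.orderOf_π h
  by_cases h1 : E.prod.π x = 1
  · refine Or.inl ?_
    rw [h1, orderOf_one, eq_comm, orderOf_eq_one_iff] at hord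
    rw [h1, hord]
  have h1' : E.prod.π x' ≠ 1 := fun e => h1 (by
    rwa [e, orderOf_one, orderOf_eq_one_iff] at hord)
  obtain ⟨k, hk, hk2⟩ := E.prod.exists_move h
  have hkv : k * v * k⁻¹ = v := by
    nth_rw 1 [← E.half_mem hx h1]
    rw [← conj_pow, hk2, hord, E.half_mem hx' h1']
  set H := Subgroup.centralizer ({v} : Set G) with hH
  obtain ⟨τ, hτ⟩ : ∃ τ : H →* S₁, ∀ (x : (P : Subgroup G)) (hx : (x : G) ∈ H),
      τ ⟨x, hx⟩ = E.prod.π x := E.exists_tau
  have hkH : k ∈ H := Subgroup.mem_centralizer_singleton_iff.2 (mul_inv_eq_iff_eq_mul.1 hkv)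
  have hPH : (P : Subgroup G) ≤ H := fun z hz =>
    Subgroup.mem_centralizer_singleton_iff.2 (E.v_central hz).eq.symm
  have e : τ ⟨k, hkH⟩ * E.prod.π x * (τ ⟨k, hkH⟩)⁻¹ = E.prod.π x' := by
    rw [← hτ x (hPH x.2), ← hτ x' (hPH x'.2), ← map_inv, ← map_mul, ← map_mul]
    exact congrArg τ (Subtype.ext hk)
  rw [← e]
  by_cases hc : (τ ⟨k, hkH⟩ : G) ∈ C
  · refine Or.inl ?_
    haveI := E.axis.cyc
    obtain ⟨c, hgen⟩ := IsCyclic.exists_generator (α := C)
    obtain ⟨i, hi⟩ := Subgroup.mem_zpowers_iff.1 (hgen ⟨_, hc⟩)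
    obtain ⟨j, hj⟩ := Subgroup.mem_zpowers_iff.1 (hgen ⟨_, hx⟩)
    have h2 := (Commute.refl c).zpow_zpow i j
    rw [hi, hj] at h2
    refine mul_inv_eq_iff_eq_mul.2 (Subtype.ext ?_)
    exact congrArg (fun z : C => (z : G)) h2.eq
  · exact Or.inr (Subtype.ext (by
      simpa only [Subgroup.coe_mul, Subgroup.coe_inv] using
        E.axis.conj_inv (τ ⟨k, hkH⟩).2 hc hx))

open scoped Classical in
/-- The sum over the group of a function of the component. -/
theorem sum_component [Fintype G] [Fintype S₁] (E : OneClass P S₁ S₂ C v) (Φ : S₁ → ℂ)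
    (hΦ1 : Φ 1 = 0) (hΦinv : ∀ u : S₁, (u : G) ∈ C → Φ u⁻¹ = Φ u) (ψ : G → ℂ)
    (hψ : ∀ (g k : G) (hk : k * tp g * k⁻¹ ∈ (P : Subgroup G)), (E.prod.π ⟨_, hk⟩ : G) ∈ C →
      ψ g = Φ (E.prod.π ⟨_, hk⟩)) :
    (Nat.card S₁ : ℂ) * ∑ g, ψ g =
      (Nat.card G : ℂ) * ∑ u ∈ Finset.univ.filter (fun u : S₁ => (u : G) ∈ C), Φ u := by
  classical
  haveI : Fact (Nat.Prime 2) := ⟨Nat.prime_two⟩
  set H := Subgroup.centralizer ({v} : Set G) with hH
  obtain ⟨τ, hτ⟩ : ∃ τ : H →* S₁, ∀ (x : (P : Subgroup G)) (hx : (x : G) ∈ H),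
      τ ⟨x, hx⟩ = E.prod.π x := E.exists_tau
  have hPH : (P : Subgroup G) ≤ H := fun z hz =>
    Subgroup.mem_centralizer_singleton_iff.2 (E.v_central hz).eq.symm
  have hvP : v ∈ (P : Subgroup G) := E.prod.le₁ (E.axis.le E.axis.vC)
  let pr : S₁ → Set S₁ := fun u => {w | w = u ∨ w = u⁻¹}
  have hprC : ∀ {u : S₁}, (u : G) ∈ C → u ≠ 1 → ∀ w ∈ pr u, (w : G) ∈ C ∧ w ≠ 1 := by
    rintro u hu h1 w (rfl | rfl)
    · exact ⟨hu, h1⟩
    · exact ⟨by rw [Subgroup.coe_inv]; exact inv_mem hu, inv_ne_one.2 h1⟩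
  let Rel : S₁ → G → G → Prop := fun u a y =>
    ∃ k : G, k * a * k⁻¹ = v ∧ ∃ hk : k * y * k⁻¹ ∈ (P : Subgroup G), E.prod.π ⟨_, hk⟩ ∈ pr u
  have hrel_conj : ∀ u (k a y : G), Rel u a y → Rel u (k * a * k⁻¹) (k * y * k⁻¹) := by
    rintro u k a y ⟨l, hl, hk, he⟩
    have e : l * k⁻¹ * (k * y * k⁻¹) * (l * k⁻¹)⁻¹ = l * y * l⁻¹ := by group
    refine ⟨l * k⁻¹, by rw [← hl]; group, by rw [e]; exact hk, ?_⟩
    convert he using 2
    exact Subtype.ext e
  have hrel : ∀ u (a y : G), Rel u a y → IsConj v a ∧ Commute a y ∧ ∃ k, orderOf y = 2 ^ k := by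
    rintro u a y ⟨l, hl, hk, -⟩
    refine ⟨(isConj_iff.2 ⟨l, hl⟩).symm, ?_, ?_⟩
    · have := ((E.v_central hk).map (MulAut.conj l⁻¹).toMonoidHom)
      rw [← hl] at this
      simpa [mul_assoc] using this
    · obtain ⟨j, hj⟩ := two_elt_of_mem P.2 hk
      exact ⟨j, by rwa [BrauerSuzuki.orderOf_conj_eq] at hj⟩
  have huniq : ∀ u : S₁, (u : G) ∈ C → u ≠ 1 → ∀ T : Subgroup G, IsPGroup 2 T → ∀ a a' y : G,
      a ∈ T → a' ∈ T → y ∈ T → Rel u a y → Rel u a' y → a = a' := by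
    intro u hu hu1 T hT a a' y ha ha' hy hr hr'
    obtain ⟨q, hq⟩ := exists_conj_le P hT
    refine (MulAut.conj q).injective ?_
    show q * a * q⁻¹ = q * a' * q⁻¹
    have key : ∀ b : G, b ∈ T → Rel u b y →
        q * b * q⁻¹ = (E.prod.π ⟨_, hq y hy⟩ : G) ^ (orderOf (E.prod.π ⟨_, hq y hy⟩) / 2) := by
      intro b hb hrb
      obtain ⟨l, hl, hk, he⟩ := hrb
      obtain ⟨hwC, hw1⟩ := hprC hu hu1 _ he
      have hm := E.half_mem hwC hw1
      set x : (P : Subgroup G) := ⟨_, hk⟩ with hx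
      set x₀ : (P : Subgroup G) := ⟨_, hq y hy⟩ with hx₀
      set m := orderOf (E.prod.π x) / 2 with hmdef
      have hg : q * l⁻¹ * (x : G) * (q * l⁻¹)⁻¹ = x₀ := by simp only [hx, hx₀]; group
      have ho : orderOf (E.prod.π x) = orderOf (E.prod.π x₀) := E.prod.orderOf_π (isConj_iff.2 ⟨_, hg⟩)
      have hπm : (E.prod.π (x ^ m) : G) = v := by rw [map_pow, Subgroup.coe_pow, hm]
      have hb' : q * l⁻¹ * v * (q * l⁻¹)⁻¹ = q * b * q⁻¹ := by rw [← hl]; group
      have e := E.prod.π_conj (x := x ^ m) (x' := x₀ ^ m) (g := q * l⁻¹)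
        (by rw [Subgroup.coe_pow, ← conj_pow, hg, Subgroup.coe_pow])
        (by rw [hπm, hb']; exact hq b hb)
      rw [hπm, hb', map_pow, Subgroup.coe_pow] at e
      rw [← e, hmdef, ho]
    rw [key a ha hr, key a' ha' hr']
  let Q : Sylow 2 H := P.subtype hPH
  have hfib : ∀ u : S₁, (u : G) ∈ C → ∀ y : H, (∃ k, orderOf (y : G) = 2 ^ k) →
      (Rel u v (y : G) ↔ τ y ∈ pr u) := by
    intro u hu y hy
    have hinv : ∀ a w : S₁, w ∈ pr u → a * w * a⁻¹ ∈ pr u := by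
      intro a w hw
      by_cases ha : (a : G) ∈ C
      · have hwC : (w : G) ∈ C := by
          rcases hw with rfl | rfl
          · exact hu
          · rw [Subgroup.coe_inv]; exact inv_mem hu
        haveI := E.axis.cyc
        obtain ⟨c, hgen⟩ := IsCyclic.exists_generator (α := C)
        obtain ⟨i, hi⟩ := Subgroup.mem_zpowers_iff.1 (hgen ⟨_, ha⟩)
        obtain ⟨j, hj⟩ := Subgroup.mem_zpowers_iff.1 (hgen ⟨_, hwC⟩)
        have h2 := (Commute.refl c).zpow_zpow i j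
        rw [hi, hj] at h2
        rwa [mul_inv_eq_iff_eq_mul.2 (show a * w = w * a from Subtype.ext (congrArg (fun z : C => (z : G)) h2.eq))]
      · have hcu : a * u * a⁻¹ = u⁻¹ := Subtype.ext (by
          simpa only [Subgroup.coe_mul, Subgroup.coe_inv] using E.axis.conj_inv a.2 ha hu)
        rcases hw with rfl | rfl
        · exact Or.inr hcu
        · exact Or.inl (by rw [← conj_inv, hcu, inv_inv])
    have hy' : ∃ k, orderOf y = 2 ^ k := by simpa [Subgroup.orderOf_coe] using hy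
    constructor
    · rintro ⟨l, hl, hk, he⟩
      have hlH : l ∈ H := Subgroup.mem_centralizer_singleton_iff.2 (mul_inv_eq_iff_eq_mul.1 hl)
      rw [← hτ ⟨_, hk⟩ (hPH hk)] at he
      have := hinv (τ ⟨l, hlH⟩)⁻¹ _ he
      rwa [inv_inv, ← map_inv, ← map_mul, ← map_mul,
        show (⟨l, hlH⟩ : H)⁻¹ * ⟨l * (y : G) * l⁻¹, hPH hk⟩ * ⟨l, hlH⟩ = y from Subtype.ext (by
          simp only [Subgroup.coe_mul, Subgroup.coe_inv]; group)] at this
    · intro he
      obtain ⟨c, hc⟩ := exists_conj_mem Q hy'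
      have hc' : (c : G) * y * (c : G)⁻¹ ∈ (P : Subgroup G) := hc
      refine ⟨c, mul_inv_eq_iff_eq_mul.2 (Subgroup.mem_centralizer_singleton_iff.1 c.2), hc', ?_⟩
      rw [← hτ ⟨_, hc'⟩ (hPH hc')]
      show τ (c * y * c⁻¹) ∈ pr u
      rw [map_mul, map_mul, map_inv]
      exact hinv _ _ he
  have hτs : Function.Surjective τ := fun w => ⟨⟨w, hPH (E.prod.le₁ w.2)⟩, by
    rw [hτ ⟨w, E.prod.le₁ w.2⟩]; exact E.prod.π_eq (a := w) (by simp)⟩
  have hcount : ∀ u : S₁, (u : G) ∈ C → u ≠ 1 →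
      Nat.card {g : G // ∃ a, Rel u a (tp g)} * Nat.card S₁ = Nat.card G * Nat.card (pr u) := fun u hu hu1 =>
    density E.axis.v2 (P.2.to_le E.prod.le₁) rfl τ hτs (Rel u) (pr u) (hrel_conj u) (hrel u)
      (huniq u hu hu1) (hfib u hu)
  have hpr0 : ∀ u : S₁, (Nat.card (pr u) : ℂ) ≠ 0 := fun u => Nat.cast_ne_zero.2
    (Nat.card_pos_iff.2 ⟨⟨⟨u, Or.inl rfl⟩⟩, inferInstance⟩).ne'
  -- pointwise decomposition
  have hpt : ∀ g : G, ψ g = ∑ u ∈ Finset.univ.filter (fun u : S₁ => (u : G) ∈ C),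
      (if ∃ a, Rel u a (tp g) then Φ u / (Nat.card (pr u) : ℂ) else 0) := by
    intro g
    obtain ⟨k₀, hk₀⟩ := exists_conj_mem P (tp_two_elt g)
    obtain ⟨x, hx, hxC, -, -⟩ := E.exists_rep ⟨_, hk₀⟩
    obtain ⟨l, hl⟩ := isConj_iff.1 hx
    have e : l * k₀ * tp g * (l * k₀)⁻¹ = (x : G) := by rw [← hl]; simp only; group
    have hk : l * k₀ * tp g * (l * k₀)⁻¹ ∈ (P : Subgroup G) := e ▸ x.2
    have hψg := hψ g (l * k₀) hk (by convert hxC using 4)
    rw [show (⟨_, hk⟩ : (P : Subgroup G)) = x from Subtype.ext e] at hψg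
    rw [hψg]
    obtain ⟨u₀, hu₀⟩ : ∃ u₀, u₀ = E.prod.π x := ⟨_, rfl⟩
    rw [← hu₀] at hxC ⊢
    have hW : ∀ u : S₁, (u : G) ∈ C → u ≠ 1 → ((∃ a, Rel u a (tp g)) ↔ u₀ ≠ 1 ∧ u ∈ pr u₀) := by
      intro u hu hu1
      constructor
      · rintro ⟨a, m, -, hm, he⟩
        obtain ⟨hwC, hw1⟩ := hprC hu hu1 _ he
        have h01 : u₀ ≠ 1 := fun h => hw1 (by
          have hc : IsConj (x : G) (m * tp g * m⁻¹) := isConj_iff.2 ⟨m * (l * k₀)⁻¹, by rw [← e]; group⟩
          have := E.prod.orderOf_π (x' := ⟨_, hm⟩) hc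
          rwa [← hu₀, h, orderOf_one, eq_comm, orderOf_eq_one_iff] at this)
        refine ⟨h01, ?_⟩
        have hc : IsConj (x : G) (m * tp g * m⁻¹) := isConj_iff.2 ⟨m * (l * k₀)⁻¹, by rw [← e]; group⟩
        rcases he with he | he <;> rcases E.π_unique (x' := ⟨_, hm⟩) hc (hu₀ ▸ hxC) hwC with h | h <;>
          rw [he, ← hu₀] at h
        · exact Or.inl h
        · exact Or.inr h
        · exact Or.inr (inv_eq_iff_eq_inv.1 h)
        · exact Or.inl (inv_injective h)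
      · rintro ⟨h01, hu'⟩
        refine ⟨(l * k₀)⁻¹ * v * (l * k₀), l * k₀, by group, hk, ?_⟩
        rw [show (⟨_, hk⟩ : (P : Subgroup G)) = x from Subtype.ext e, ← hu₀]
        rcases hu' with rfl | rfl
        · exact Or.inl rfl
        · exact Or.inr (inv_inv _).symm
    by_cases h0 : u₀ = 1
    · rw [h0, hΦ1, Finset.sum_eq_zero]
      intro u hu
      by_cases hu1 : u = 1
      · simp [hu1, hΦ1]
      · rw [if_neg]
        exact fun hh => ((hW u (Finset.mem_filter.1 hu).2 hu1).1 hh).1 h0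
    · have hset : ∀ u ∈ Finset.univ.filter (fun u : S₁ => (u : G) ∈ C),
          (if ∃ a, Rel u a (tp g) then Φ u / (Nat.card (pr u) : ℂ) else 0) =
            if u ∈ pr u₀ then Φ u₀ / (Nat.card (pr u₀) : ℂ) else 0 := by
        intro u hu
        have huC := (Finset.mem_filter.1 hu).2
        by_cases hu1 : u = 1
        · subst hu1
          rw [if_neg (fun h : (1 : S₁) ∈ pr u₀ => (hprC hxC h0 _ h).2 rfl)]
          simp [hΦ1]
        · rw [if_congr ((hW u huC hu1).trans (and_iff_right h0)) rfl rfl]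
          refine if_ctx_congr Iff.rfl (fun hm => ?_) fun _ => rfl
          rcases hm with rfl | rfl
          · rfl
          · rw [hΦinv u₀ hxC]
            rw [show pr u₀⁻¹ = pr u₀ from Set.ext fun w => by simp only [pr, Set.mem_setOf_eq, inv_inv, or_comm]]
      rw [Finset.sum_congr rfl hset, ← Finset.sum_filter, Finset.sum_const, nsmul_eq_mul]
      have hcard : ((Finset.univ.filter (fun u : S₁ => (u : G) ∈ C)).filter (fun u => u ∈ pr u₀)).card =
          Nat.card (pr u₀) := by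
        rw [← Nat.card_eq_finsetCard]
        exact Nat.card_congr (Equiv.subtypeEquivRight fun w => by
          simp only [Finset.mem_filter, Finset.mem_univ, true_and]
          exact ⟨And.right, fun h => ⟨(hprC hxC h0 w h).1, h⟩⟩)
      rw [hcard, mul_div_cancel₀ _ (hpr0 u₀)]
  rw [Finset.sum_congr rfl fun g _ => hpt g, Finset.sum_comm, Finset.mul_sum, Finset.mul_sum]
  refine Finset.sum_congr rfl fun u hu => ?_
  by_cases hu1 : u = 1
  · simp [hu1, hΦ1]
  rw [← Finset.sum_filter, Finset.sum_const, nsmul_eq_mul]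
  have h := hcount u (Finset.mem_filter.1 hu).2 hu1
  rw [Nat.card_eq_fintype_card (α := {g : G // ∃ a, Rel u a (tp g)}), Fintype.card_subtype] at h
  have h' := congrArg (fun n : ℕ => (n : ℂ)) h
  push_cast at h'
  have := hpr0 u
  field_simp
  linear_combination Φ u * h'

end OneClass

end Cfsg.Agent.ProdFusion
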