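import Cfsg.Agent.Lib.ProdFusion.Hyper

/-!
Restriction to subgroups containing the second factor, the subgroup cut out by the fused reflections, and
the homomorphism onto the dihedral factor when no reflection is fused.
-/

set_option autoImplicit false
set_option linter.unusedSectionVars false
set_option linter.style.haveILetI false

namespace Cfsg.Agent.ProdFusion

open Cfsg Cfsg.Agent.SylowSplit

universe u

variable {G : Type u} [Group G] [Finite G] {P : Sylow 2 G} {S₁ S₂ C : Subgroup G} {v : G}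

theorem Prod2.restrict (D : Prod2 P S₁ S₂) {K : Subgroup G} (Q : Sylow 2 K)
    (hQ : (Q : Subgroup K) = (P : Subgroup G).subgroupOf K) (h₂ : S₂ ≤ K) :
    Prod2 Q (S₁.subgroupOf K) (S₂.subgroupOf K) := by
  have cl : ∀ S : Subgroup G, IsStronglyClosed S (P : Subgroup G) →
      IsStronglyClosed (S.subgroupOf K) (Q : Subgroup K) := fun S h =>
    ⟨hQ ▸ fun x hx => h.1 hx, fun x hx g hg => h.2 _ hx g (by rw [hQ] at hg; exact hg)⟩
  refine ⟨⟨(cl _ D.cl₁).1, (cl _ D.cl₂).1, fun a ha b hb => Subtype.ext (D.comm ha hb).eq, ?_,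
    le_antisymm (sup_le (cl _ D.cl₁).1 (cl _ D.cl₂).1) fun x hx => ?_⟩, cl _ D.cl₁, cl _ D.cl₂⟩
  · rw [eq_bot_iff]
    intro x hx
    have : (x : G) ∈ S₁ ⊓ S₂ := hx
    rw [D.prod.2.2.2.1, Subgroup.mem_bot] at this
    exact Subgroup.mem_bot.2 (Subtype.ext this)
  · rw [hQ] at hx
    have h1 := D.π_spec ⟨x, hx⟩
    have hπK : (D.π ⟨x, hx⟩ : G) ∈ K := by
      simpa using mul_mem x.2 (inv_mem (h₂ h1))
    have e : x = ⟨_, hπK⟩ * ⟨_, h₂ h1⟩ := Subtype.ext (mul_inv_cancel_left _ _).symm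
    rw [e]
    exact mul_mem (Subgroup.mem_sup_left (D.π ⟨x, hx⟩).2) (Subgroup.mem_sup_right h1)

theorem Prod2.π_restrict (D : Prod2 P S₁ S₂) {K : Subgroup G} {Q : Sylow 2 K}
    (D' : Prod2 Q (S₁.subgroupOf K) (S₂.subgroupOf K)) (x : (Q : Subgroup K))
    (hx : ((x : K) : G) ∈ (P : Subgroup G)) : ((D'.π x : K) : G) = D.π ⟨_, hx⟩ := by
  rw [D.π_eq (x := ⟨_, hx⟩) (a := ⟨_, (D'.π x).2⟩) (D'.π_spec x)]
  rfl

theorem Axis.restrict (A : Axis S₁ C v) {K : Subgroup G} (hv : v ∈ K) (hs : ∃ s ∈ S₁, s ∉ C ∧ s ∈ K) :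
    Axis (S₁.subgroupOf K) (C.subgroupOf K) (⟨v, hv⟩ : K) where
  le := fun x hx => A.le hx
  cyc := by
    haveI := A.cyc
    exact isCyclic_of_injective ((K.subtype.comp (C.subgroupOf K).subtype).codRestrict C fun x => x.2)
      fun a b h => Subtype.ext (Subtype.ext (congrArg (fun z : C => (z : G)) h))
  vC := A.vC
  v2 := by rw [← Subgroup.orderOf_coe]; exact A.v2
  out_sq := fun s hs hsC => Subtype.ext (A.out_sq s hs hsC)
  out_mul := fun s hs hsC t ht htC => A.out_mul s hs hsC t ht htC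
  out := let ⟨s, h1, h2, h3⟩ := hs; ⟨⟨s, h3⟩, h1, h2⟩

theorem exists_mul_residual (P : Sylow 2 G) (g : G) :
    ∃ x : (P : Subgroup G), (x : G)⁻¹ * g ∈ pResidual 2 G := by
  haveI : Fact (Nat.Prime 2) := ⟨Nat.prime_two⟩
  haveI := Cfsg.Agent.PBasic.pResidual_normal_inst 2 G
  have h : g ∈ ((P : Subgroup G) ⊔ pResidual 2 G : Subgroup G) := by
    rw [Cfsg.Agent.PBasic.sylow_sup_pResidual]; exact Subgroup.mem_top _
  rw [← SetLike.mem_coe, Subgroup.mul_normal] at h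
  obtain ⟨x, hx, m, hm, rfl⟩ := h
  exact ⟨⟨x, hx⟩, by simpa using hm⟩

/-- Without fused reflections the projection extends to the group. -/
theorem exists_hom (D : Prod2 P S₁ S₂) (A : Axis S₁ C v) (hnone : fused S₁ C v = ∅) :
    ∃ τ : G →* S₁, ∀ x : (P : Subgroup G), τ (x : G) = D.π x := by
  haveI := Cfsg.Agent.PBasic.pResidual_normal_inst 2 G
  have h1 : ∀ x : (P : Subgroup G), (x : G) ∈ pResidual 2 G → D.π x = 1 := fun x hx => by
    have := residual_proj D A x hx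
    rw [hnone, Subgroup.closure_empty, Subgroup.mem_bot] at this
    exact Subtype.ext this
  have hwd : ∀ (g : G) (x y : (P : Subgroup G)), (x : G)⁻¹ * g ∈ pResidual 2 G →
      (y : G)⁻¹ * g ∈ pResidual 2 G → D.π x = D.π y := fun g x y hx hy => by
    have h := h1 (x⁻¹ * y) (by
      have := mul_mem hx (inv_mem hy)
      rwa [show (x : G)⁻¹ * g * ((y : G)⁻¹ * g)⁻¹ = (x : G)⁻¹ * (y : G) by group] at this)
    rwa [map_mul, map_inv, inv_mul_eq_one] at h
  choose f hf using exists_mul_residual P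
  refine ⟨MonoidHom.mk' (fun g => D.π (f g)) fun a b => ?_, fun x => hwd _ _ _ (hf _) (by simp)⟩
  rw [← map_mul]
  refine hwd (a * b) _ _ (hf _) ?_
  have h := mul_mem ((Cfsg.Agent.PBasic.pResidual_normal_inst 2 G).conj_mem _ (hf a) (f b : G)⁻¹) (hf b)
  rw [show (f b : G)⁻¹ * ((f a : G)⁻¹ * a) * (f b : G)⁻¹⁻¹ * ((f b : G)⁻¹ * b) =
    ((f a * f b : (P : Subgroup G)) : G)⁻¹ * (a * b) by rw [Subgroup.coe_mul]; group] at h
  exact h

/-- The subgroup cut out by the fused reflections. -/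
theorem exists_cut (D : Prod2 P S₁ S₂) (A : Axis S₁ C v) :
    ∃ K : Subgroup G, K.Normal ∧ (P : Subgroup G) ⊔ K = ⊤ ∧
      ∀ x : (P : Subgroup G), (x : G) ∈ K ↔ (D.π x : G) ∈ Subgroup.closure (fused S₁ C v) := by
  haveI : Fact (Nat.Prime 2) := ⟨Nat.prime_two⟩
  haveI := Cfsg.Agent.PBasic.pResidual_normal_inst 2 G
  set W := Subgroup.closure (fused S₁ C v) with hW
  obtain ⟨K0, hK0⟩ : ∃ K0, K0 = (W.comap (S₁.subtype.comp D.π)).map (P : Subgroup G).subtype := ⟨_, rfl⟩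
  have hWn : ∀ a ∈ S₁, ∀ w ∈ W, a * w * a⁻¹ ∈ W := fun a ha w hw => by
    have h1 : W.map (MulAut.conj a).toMonoidHom ≤ W := by
      rw [hW, MonoidHom.map_closure, Subgroup.closure_le]
      rintro _ ⟨s, hs, rfl⟩
      exact Subgroup.subset_closure (A.fused_conj hs ha)
    exact h1 ⟨w, hw, rfl⟩
  refine ⟨K0 ⊔ pResidual 2 G, ?_, ?_, fun x => ⟨fun hx => ?_, fun hx => ?_⟩⟩
  · have hP : ∀ p ∈ (P : Subgroup G), ∀ z ∈ K0, p * z * p⁻¹ ∈ K0 := by
      intro p hp z hz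
      rw [hK0] at hz ⊢
      obtain ⟨y, hy, rfl⟩ := hz
      refine ⟨⟨p, hp⟩ * y * ⟨p, hp⟩⁻¹, ?_, rfl⟩
      show (D.π (⟨p, hp⟩ * y * ⟨p, hp⟩⁻¹) : G) ∈ W
      rw [map_mul, map_mul, map_inv]
      exact hWn _ (D.π ⟨p, hp⟩).2 _ hy
    refine ⟨fun z hz g => ?_⟩
    rw [← SetLike.mem_coe, Subgroup.mul_normal] at hz
    obtain ⟨a, ha, b, hb, rfl⟩ := hz
    obtain ⟨p, hp⟩ := exists_mul_residual P g
    obtain ⟨m, hm⟩ : ∃ m, m = (p : G)⁻¹ * g := ⟨_, rfl⟩
    rw [← hm] at hp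
    have hg : g = (p : G) * m := by rw [hm, mul_inv_cancel_left]
    have hNn := Cfsg.Agent.PBasic.pResidual_normal_inst 2 G
    have hN' : ∀ r ∈ pResidual 2 G, ∀ c : G, c * r * c⁻¹ ∈ pResidual 2 G := fun r hr c => hNn.conj_mem r hr c
    have e : g * (a * b) * g⁻¹ =
        ((p : G) * a * (p : G)⁻¹) * ((p : G) * (a⁻¹ * m * a * b * m⁻¹) * (p : G)⁻¹) := by
      rw [hg]; group
    rw [e]
    refine mul_mem (Subgroup.mem_sup_left (hP _ p.2 a ha)) (Subgroup.mem_sup_right (hN' _ ?_ _))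
    refine mul_mem (mul_mem ?_ hb) (inv_mem hp)
    simpa using hN' _ hp a⁻¹
  · rw [eq_top_iff, ← Cfsg.Agent.PBasic.sylow_sup_pResidual P]
    exact sup_le_sup_left le_sup_right _
  · rw [← SetLike.mem_coe, Subgroup.mul_normal] at hx
    obtain ⟨a, ha, b, hb, e⟩ := hx
    rw [hK0] at ha
    obtain ⟨y, hy, rfl⟩ := ha
    have e' : ((P : Subgroup G).subtype y) * b = x := e
    have hb' : b = ((y⁻¹ * x : (P : Subgroup G)) : G) := by
      rw [Subgroup.coe_mul, Subgroup.coe_inv, eq_inv_mul_iff_mul_eq]; exact e'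
    have h := residual_proj D A (y⁻¹ * x) (hb' ▸ hb)
    rw [map_mul, map_inv, Subgroup.coe_mul, Subgroup.coe_inv] at h
    have := mul_mem (show (D.π y : G) ∈ W from hy) h
    rwa [mul_inv_cancel_left] at this
  · exact Subgroup.mem_sup_left (hK0 ▸ ⟨x, hx, rfl⟩)

end Cfsg.Agent.ProdFusion
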