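import Cfsg.Agent.Lib.ProdFusion.Transfer

/-!
Product fusion for two dihedral factors of order at least eight, without a normal subgroup of index two.
-/

set_option autoImplicit false
set_option linter.unusedSectionVars false
set_option linter.style.haveILetI false

namespace Cfsg.Agent.ProdFusion

open Cfsg Cfsg.Agent.SylowSplit

universe u

variable {G : Type u} [Group G] [Finite G] {P : Sylow 2 G} {S₁ S₂ C₁ C₂ : Subgroup G} {v₁ v₂ : G}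

/-- Both factors have order at least eight. -/
structure Big (P : Sylow 2 G) (S₁ S₂ C₁ C₂ : Subgroup G) (v₁ v₂ : G) : Prop where
  pair : Pair P S₁ S₂ C₁ C₂ v₁ v₂
  root₁ : ∃ r ∈ C₁, r * r = v₁
  root₂ : ∃ r ∈ C₂, r * r = v₂

namespace Big

theorem symm (E : Big P S₁ S₂ C₁ C₂ v₁ v₂) : Big P S₂ S₁ C₂ C₁ v₂ v₁ := ⟨E.pair.symm, E.root₂, E.root₁⟩

theorem ne₁₂ (E : Big P S₁ S₂ C₁ C₂ v₁ v₂) : v₁ ≠ v₂ := fun e => E.pair.ax₁.v_ne
  ((E.pair.mem₂_iff E.pair.ax₁.vS (one_mem _)).1 (by rw [mul_one, e]; exact E.pair.ax₂.vS))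

/-- Normalising elements fix the central involutions. -/
theorem normalizer_fix (E : Big P S₁ S₂ C₁ C₂ v₁ v₂) {n : G}
    (hn : n ∈ Subgroup.normalizer ((P : Subgroup G) : Set G)) : n * v₁ * n⁻¹ = v₁ := by
  have D := E.pair
  -- the product is never a square commuting with a noncentral involution
  have h12 : ∀ u y : G, u ∈ (P : Subgroup G) → y ∈ (P : Subgroup G) → u * u = 1 → Commute u y →
      y * y = v₁ * v₂ → ∀ z ∈ (P : Subgroup G), Commute u z := by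
    intro u y hu hy hu2 hc hy2
    obtain ⟨p, hp, q, hq, rfl, hp2, hq2⟩ := D.invol_split hu hu2
    obtain ⟨a, ha, b, hb, rfl⟩ := D.split hy
    obtain ⟨hc1, hc2⟩ := (D.commute_iff hp ha hq hb).1 hc
    rw [D.mul_mul ha hb] at hy2
    obtain ⟨e1, e2⟩ := D.split_eq (mul_mem ha ha) D.ax₁.vS (mul_mem hb hb) D.ax₂.vS hy2
    have haC : a ∈ C₁ := by
      by_contra h; exact D.ax₁.v_ne (e1 ▸ D.ax₁.out_sq a ha h)
    have hbC : b ∈ C₂ := by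
      by_contra h; exact D.ax₂.v_ne (e2 ▸ D.ax₂.out_sq b hb h)
    have hpC := D.ax₁.mem_C_of_commute hp haC hc1 (D.ax₁.root_sq_ne e1)
    have hqC := D.ax₂.mem_C_of_commute hq hbC hc2 (D.ax₂.root_sq_ne e2)
    intro z hz
    rcases D.ax₁.invol hpC hp2 with rfl | rfl <;> rcases D.ax₂.invol hqC hq2 with rfl | rfl
    · simp
    · rw [one_mul]; exact D.v₂_central z hz
    · rw [mul_one]; exact D.v₁_central z hz
    · exact D.v₁₂_central z hz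
  have key : ∀ (r u : G) (vv : G), r ∈ (P : Subgroup G) → u ∈ (P : Subgroup G) → u * u = 1 → Commute u r →
      r * r = vv → orderOf vv = 2 → (∃ z ∈ (P : Subgroup G), ¬ Commute u z) →
      n * vv * n⁻¹ = v₁ ∨ n * vv * n⁻¹ = v₂ := by
    intro r u vv hr hu hu2 hc hr2 hvv hz
    have hN : ∀ z, z ∈ (P : Subgroup G) ↔ n * z * n⁻¹ ∈ (P : Subgroup G) := Subgroup.mem_normalizer_iff.1 hn
    have e : n * r * n⁻¹ * (n * r * n⁻¹) = n * vv * n⁻¹ := by rw [conj_mul, hr2]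
    rcases D.sq_cases ((hN r).1 hr) (by rw [e, BrauerSuzuki.orderOf_conj_eq]; exact hvv) with h | h | h
    · exact Or.inl (e ▸ h)
    · exact Or.inr (e ▸ h)
    · exfalso
      obtain ⟨z, hz, hzu⟩ := hz
      refine hzu ?_
      have := h12 _ _ ((hN u).1 hu) ((hN r).1 hr) (by rw [conj_mul, hu2, mul_one, mul_inv_cancel])
        (hc.map (MulAut.conj n).toMonoidHom) h _ ((hN z).1 hz)
      simpa [mul_assoc] using this.map (MulAut.conj n⁻¹).toMonoidHom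
  obtain ⟨r₁, hr₁, hr₁2⟩ := E.root₁
  obtain ⟨r₂, hr₂, hr₂2⟩ := E.root₂
  obtain ⟨s, hs, hsC⟩ := D.ax₁.out
  obtain ⟨t, ht, htC⟩ := D.ax₂.out
  have ncs : ¬ Commute t r₂ := fun h =>
    htC (D.ax₂.mem_C_of_commute ht hr₂ h (D.ax₂.root_sq_ne hr₂2))
  have ncs' : ¬ Commute s r₁ := fun h =>
    hsC (D.ax₁.mem_C_of_commute hs hr₁ h (D.ax₁.root_sq_ne hr₁2))
  have k1 := key r₁ t v₁ (D.le₁ (D.ax₁.le hr₁)) (D.le₂ ht) (D.ax₂.out_sq t ht htC)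
    (D.comm (D.ax₁.le hr₁) ht).symm hr₁2 D.ax₁.v2 ⟨r₂, D.le₂ (D.ax₂.le hr₂), ncs⟩
  have k2 := key r₂ s v₂ (D.le₂ (D.ax₂.le hr₂)) (D.le₁ hs) (D.ax₁.out_sq s hs hsC)
    (D.comm hs (D.ax₂.le hr₂)) hr₂2 D.ax₂.v2 ⟨r₁, D.le₁ (D.ax₁.le hr₁), ncs'⟩
  refine k1.resolve_right fun h1 => ?_
  have h2 : n * v₂ * n⁻¹ = v₁ := k2.resolve_right fun h => E.ne₁₂ ((MulAut.conj n).injective (h1.trans h.symm))
  exact E.ne₁₂ (no_swap hn D.v₁_central h1 h2)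

theorem not_conj (E : Big P S₁ S₂ C₁ C₂ v₁ v₂) :
    ¬ IsConj v₂ v₁ ∧ ¬ IsConj v₂ (v₁ * v₂) ∧ ¬ IsConj v₁ (v₁ * v₂) := by
  have D := E.pair
  refine ⟨fun h => ?_, fun h => ?_, fun h => ?_⟩
  · obtain ⟨n, hn, e⟩ := central_conj D.v₂_central D.v₁_central h
    exact E.ne₁₂ ((E.symm.normalizer_fix hn).symm.trans e).symm
  · obtain ⟨n, hn, e⟩ := central_conj D.v₂_central D.v₁₂_central h
    exact D.ax₁.v_ne (by simpa using ((E.symm.normalizer_fix hn).symm.trans e).symm)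
  · obtain ⟨n, hn, e⟩ := central_conj D.v₁_central D.v₁₂_central h
    exact D.ax₂.v_ne (by simpa using ((E.normalizer_fix hn).symm.trans e).symm)

theorem move_fix (E : Big P S₁ S₂ C₁ C₂ v₁ v₂) {x k : G} (hx : x ∈ S₁)
    (hk : ∀ z ∈ (P : Subgroup G), Commute z x → k * z * k⁻¹ ∈ (P : Subgroup G)) : k * v₂ * k⁻¹ = v₂ := by
  obtain ⟨r, hr, hr2⟩ := E.root₂
  obtain ⟨n1, n2, -⟩ := E.not_conj
  exact E.pair.fix_of_root n1 n2 hr2
    (hk r (E.pair.le₂ (E.pair.ax₂.le hr)) (E.pair.comm hx (E.pair.ax₂.le hr)).symm)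

/-- Every reflection, possibly twisted, is fused to the central involution. -/
theorem exists_twist (E : Big P S₁ S₂ C₁ C₂ v₁ v₂) (hM : ∀ N : Subgroup G, N.Normal → N.index ≠ 2) {t : G}
    (ht : t ∈ S₁) (htC : t ∉ C₁) : IsConj t v₁ ∨ IsConj (t * v₂) v₁ := by
  have D := E.pair
  obtain ⟨n1, n2, -⟩ := E.not_conj
  obtain ⟨n1', n2', -⟩ := E.symm.not_conj
  obtain ⟨r₁, hr₁, hr₁2⟩ := E.root₁
  obtain ⟨r₂, hr₂, hr₂2⟩ := E.root₂
  have ht2 : orderOf t = 2 := orderOf_two (D.ax₁.out_sq t ht htC) (D.ax₁.out_ne htC)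
  obtain ⟨y, hyQ, hy2, hty⟩ := transfer_out hM (Q := C₁ ⊔ S₂) (sup_le (D.ax₁.le.trans D.le₁) D.le₂)
    (D.le₁ ht) ht2 (fun h => htC ((D.mem_sup D.ax₁.le le_rfl ht (one_mem _)).1 (by rwa [mul_one])).1)
    fun x hx => by
      obtain ⟨a, ha, b, hb, rfl⟩ := D.split hx
      by_cases haC : a ∈ C₁
      · exact Or.inl ((D.mem_sup D.ax₁.le le_rfl ha hb).2 ⟨haC, hb⟩)
      · refine Or.inr ?_
        rw [mul_assoc, (D.comm ht hb).eq.symm, ← mul_assoc]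
        exact (D.mem_sup D.ax₁.le le_rfl (mul_mem ha ht) hb).2 ⟨D.ax₁.out_mul a ha haC t ht htC, hb⟩
  have hyP : y ∈ (P : Subgroup G) := sup_le (D.ax₁.le.trans D.le₁) D.le₂ hyQ
  obtain ⟨w, hwP, htw, hfull⟩ := exists_full (D.le₁ ht)
  have hw2 : w * w = 1 := by
    obtain ⟨g, hg⟩ := isConj_iff.1 htw
    rw [← hg, conj_mul, mul_self_of_two ht2, mul_one, mul_inv_cancel]
  obtain ⟨p, hp, q, hq, hpq, hp2, hq2⟩ := D.invol_split hwP hw2
  obtain ⟨k, hk, hkP⟩ := hfull t (D.le₁ ht) htw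
  have hqC : q ∈ C₂ := by
    have h1 := hkP r₂ (D.le₂ (D.ax₂.le hr₂)) (D.comm ht (D.ax₂.le hr₂)).symm
    obtain ⟨a, ha, b, hb, e⟩ := D.split h1
    have e2 : a * a * (b * b) = 1 * v₂ := by
      rw [← D.mul_mul ha hb, e, conj_mul, hr₂2, one_mul]
      exact D.fix_of_root n1 n2 hr₂2 h1
    obtain ⟨-, eb⟩ := D.split_eq (mul_mem ha ha) (one_mem _) (mul_mem hb hb) D.ax₂.vS e2
    have hbC : b ∈ C₂ := by
      by_contra h; exact D.ax₂.v_ne (eb ▸ D.ax₂.out_sq b hb h)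
    have hc : Commute (p * q) (a * b) := by
      rw [hpq, e, ← hk]
      exact ((D.comm ht (D.ax₂.le hr₂))).map (MulAut.conj k).toMonoidHom
    exact D.ax₂.mem_C_of_commute hq hbC ((D.commute_iff hp ha hq hb).1 hc).2 (D.ax₂.root_sq_ne eb)
  have hpC : p ∈ C₁ := by
    obtain ⟨l, hl, hlP⟩ := hfull y hyP (hty.symm.trans htw)
    obtain ⟨a', ha', b', hb', rfl⟩ := D.split hyP
    have ha'C := ((D.mem_sup D.ax₁.le le_rfl ha' hb').1 hyQ).1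
    have hcy : Commute (a' * b') r₁ :=
      Commute.mul_left (D.ax₁.comm_C ha'C hr₁) (D.comm (D.ax₁.le hr₁) hb').symm
    have h1 := hlP r₁ (D.le₁ (D.ax₁.le hr₁)) hcy.symm
    obtain ⟨a, ha, b, hb, e⟩ := D.split h1
    have hfix := D.symm.fix_of_root n1' n2' hr₁2 h1
    have e2 : a * a * (b * b) = v₁ * 1 := by
      rw [← D.mul_mul ha hb, e, conj_mul, hr₁2, mul_one]
      exact hfix
    obtain ⟨ea, -⟩ := D.split_eq (mul_mem ha ha) D.ax₁.vS (mul_mem hb hb) (one_mem _) e2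
    have haC : a ∈ C₁ := by
      by_contra h; exact D.ax₁.v_ne (ea ▸ D.ax₁.out_sq a ha h)
    have hc : Commute (p * q) (a * b) := by
      rw [hpq, e, ← hl]
      exact hcy.map (MulAut.conj l).toMonoidHom
    exact D.ax₁.mem_C_of_commute hp haC ((D.commute_iff hp ha hq hb).1 hc).1 (D.ax₁.root_sq_ne ea)
  have hwc : ∀ z ∈ (P : Subgroup G), Commute w z := by
    intro z hz
    rw [← hpq]
    rcases D.ax₁.invol hpC hp2 with e | e <;> rcases D.ax₂.invol hqC hq2 with e' | e' <;> rw [e, e']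
    · simp
    · rw [one_mul]; exact D.v₂_central z hz
    · rw [mul_one]; exact D.v₁_central z hz
    · exact D.v₁₂_central z hz
  obtain ⟨l, hl, hlP⟩ := move hwc htw
  have hfix := E.move_fix ht hlP
  rcases D.ax₁.invol hpC hp2 with e | e <;> rcases D.ax₂.invol hqC hq2 with e' | e' <;> rw [e, e'] at hpq
  · rw [← hpq, one_mul, conj_eq_one_iff] at hl
    exact absurd hl (D.ax₁.out_ne htC)
  · rw [← hpq, one_mul] at hl
    have := (MulAut.conj l).injective (hl.trans hfix.symm)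
    exact absurd this fun e => D.ax₁.out_ne htC
      ((D.mem₂_iff ht (one_mem _)).1 (by rw [mul_one, e]; exact D.ax₂.vS))
  · exact Or.inl (isConj_iff.2 ⟨l, by rw [hl, ← hpq, mul_one]⟩)
  · refine Or.inr (isConj_iff.2 ⟨l, ?_⟩)
    rw [← conj_mul, hl, hfix, ← hpq, mul_assoc, mul_self_of_two D.ax₂.v2, mul_one]

/-- The classes of involutions when all reflections are fused. -/
theorem invol_class (E : Big P S₁ S₂ C₁ C₂ v₁ v₂) (h₁ : ∀ s ∈ S₁, s ∉ C₁ → IsConj s v₁)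
    (h₂ : ∀ s ∈ S₂, s ∉ C₂ → IsConj s v₂) {a b : G} (ha : a ∈ S₁) (hb : b ∈ S₂) (ha2 : a * a = 1)
    (hb2 : b * b = 1) (ha1 : a ≠ 1) (hb1 : b ≠ 1) : IsConj (a * b) (v₁ * v₂) := by
  have D := E.pair
  obtain ⟨n1, n2, n3⟩ := E.not_conj
  have single : ∀ {β : G}, β ∈ S₂ → β ∉ C₂ → IsConj (v₁ * β) (v₁ * v₂) := by
    intro β hβ hβC
    obtain ⟨k, hk, hkP⟩ := move D.v₂_central (h₂ β hβ hβC)
    exact isConj_iff.2 ⟨k, by rw [← conj_mul, hk, E.symm.move_fix hβ hkP]⟩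
  have single' : ∀ {α : G}, α ∈ S₁ → α ∉ C₁ → IsConj (α * v₂) (v₁ * v₂) := by
    intro α hα hαC
    obtain ⟨k, hk, hkP⟩ := move D.v₁_central (h₁ α hα hαC)
    exact isConj_iff.2 ⟨k, by rw [← conj_mul, hk, E.move_fix hα hkP]⟩
  by_cases haC : a ∈ C₁
  · have ea := (D.ax₁.invol haC ha2).resolve_left ha1
    rw [ea]
    by_cases hbC : b ∈ C₂
    · rw [(D.ax₂.invol hbC hb2).resolve_left hb1]
    · exact single hb hbC
  by_cases hbC : b ∈ C₂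
  · rw [(D.ax₂.invol hbC hb2).resolve_left hb1]
    exact single' ha haC
  -- two reflections
  have side : ∀ {S₁ S₂ C₁ C₂ : Subgroup G} {v₁ v₂ : G} (E' : Big P S₁ S₂ C₁ C₂ v₁ v₂),
      (∀ {β : G}, β ∈ S₂ → β ∉ C₂ → IsConj (v₁ * β) (v₁ * v₂)) →
      (∀ {α : G}, α ∈ S₁ → α ∉ C₁ → IsConj (α * v₂) (v₁ * v₂)) →
      (∀ s ∈ S₁, s ∉ C₁ → IsConj s v₁) → (∀ s ∈ S₂, s ∉ C₂ → IsConj s v₂) →
      ∀ {a b : G}, a ∈ S₁ → a ∉ C₁ → b ∈ S₂ → b ∉ C₂ →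
        IsConj (a * b) (v₁ * v₂) ∨ IsConj (a * b) v₂ := by
    intro S₁ S₂ C₁ C₂ v₁ v₂ E' hs hs' h₁ h₂ a b ha haC hb hbC
    have D := E'.pair
    obtain ⟨n1, n2, n3⟩ := E'.not_conj
    obtain ⟨k, hk, hkP⟩ := move D.v₁_central (h₁ a ha haC)
    have hfix := E'.move_fix ha hkP
    have hkb := hkP b (D.le₂ hb) (D.comm ha hb).symm
    have hkb2 : k * b * k⁻¹ * (k * b * k⁻¹) = 1 := by
      rw [conj_mul, D.ax₂.out_sq b hb hbC, mul_one, mul_inv_cancel]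
    obtain ⟨α, hα, β, hβ, hαβ, hα2, hβ2⟩ := D.invol_split hkb hkb2
    have hv : IsConj (α * β) v₂ := hαβ ▸ (isConj_iff.2 ⟨k, rfl⟩ : IsConj b _).symm.trans (h₂ b hb hbC)
    have hx : IsConj (a * b) (v₁ * (α * β)) := isConj_iff.2 ⟨k, by rw [hαβ, ← conj_mul, hk]⟩
    rcases D.ax₁.invol' hα hα2 with rfl | rfl | hαC <;> rcases D.ax₂.invol' hβ hβ2 with rfl | rfl | hβC
    · rw [mul_one, isConj_one_right] at hv
      exact absurd hv.symm (fun e => D.ax₂.v_ne e.symm)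
    · exact Or.inl (by rwa [one_mul] at hx)
    · rw [one_mul] at hx
      exact Or.inl (hx.trans (hs hβ hβC))
    · rw [mul_one] at hv
      exact absurd hv.symm n1
    · exact absurd hv.symm n2
    · exact absurd ((hs hβ hβC).symm.trans hv).symm n2
    · rw [mul_one] at hv
      exact absurd (hv.symm.trans (h₁ α hα hαC)) n1
    · exact absurd ((hs' hα hαC).symm.trans hv).symm n2
    · refine Or.inr (hx.trans (IsConj.trans ?_ hv))
      obtain ⟨r, hr, hr2⟩ := E'.root₁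
      refine (isConj_iff.2 ⟨r, ?_⟩ : IsConj (α * β) _).symm
      rw [← conj_mul, D.ax₁.root_conj hα hαC hr hr2, (D.comm (D.ax₁.le hr) hβ).eq, mul_inv_cancel_right,
        (D.ax₁.central hα).eq.symm, mul_assoc]
  rcases side E single single' h₁ h₂ ha haC hb hbC with h | h
  · exact h
  · have h' := side E.symm (fun hα hαC => by rw [(D.v₂_central _ (D.le₁ hα)).eq, (D.v₂_central _ (D.le₁ D.ax₁.vS)).eq]; exact single' hα hαC)
      (fun hβ hβC => by rw [← (D.v₁_central _ (D.le₂ hβ)).eq, (D.v₂_central _ (D.le₁ D.ax₁.vS)).eq]; exact single hβ hβC)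
      h₂ h₁ hb hbC ha haC
    rw [← (D.comm ha hb).eq, (D.v₂_central _ (D.le₁ D.ax₁.vS)).eq] at h'
    rcases h' with h' | h'
    · exact h'
    · exact absurd (h.symm.trans h') n1

theorem closed₂ (E : Big P S₁ S₂ C₁ C₂ v₁ v₂) (h₁ : ∀ s ∈ S₁, s ∉ C₁ → IsConj s v₁)
    (h₂ : ∀ s ∈ S₂, s ∉ C₂ → IsConj s v₂) : IsStronglyClosed S₂ (P : Subgroup G) := by
  have D := E.pair
  obtain ⟨n1, n2, -⟩ := E.not_conj
  refine D.closed_of_invol fun x hx hx2 hR => ?_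
  obtain ⟨g, hg⟩ := hR
  have hv : IsConj x v₂ := by
    refine (isConj_iff.2 ⟨g, rfl⟩ : IsConj x _).trans ?_
    have h2 : orderOf (g * x * g⁻¹) = 2 := (BrauerSuzuki.orderOf_conj_eq g x).trans hx2
    by_cases hC : g * x * g⁻¹ ∈ C₂
    · rw [D.ax₂.eq_v hC h2]
    · exact h₂ _ hg hC
  obtain ⟨a, ha, b, hb, rfl, ha2, hb2⟩ := D.invol_split hx (mul_self_of_two hx2)
  by_cases ha1 : a = 1
  · rw [ha1, one_mul]; exact hb
  exfalso
  by_cases hb1 : b = 1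
  · rw [hb1, mul_one] at hv
    by_cases hC : a ∈ C₁
    · rw [(D.ax₁.invol hC ha2).resolve_left ha1] at hv
      exact n1 hv.symm
    · exact n1 (hv.symm.trans (h₁ a ha hC))
  · exact n2 (hv.symm.trans (E.invol_class h₁ h₂ ha hb ha2 hb2 ha1 hb1))

/-- Normalise the first factor. -/
theorem fuse_first (E : Big P S₁ S₂ C₁ C₂ v₁ v₂) (hM : ∀ N : Subgroup G, N.Normal → N.index ≠ 2) :
    ∃ S C : Subgroup G, Big P S S₂ C C₂ v₁ v₂ ∧ Nonempty (S₁ ≃* S) ∧ ∀ s ∈ S, s ∉ C → IsConj s v₁ := by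
  have D := E.pair
  obtain ⟨c, hc, hgen⟩ := D.ax₁.exists_gen
  obtain ⟨s, hs, hsC⟩ := D.ax₁.out
  obtain ⟨r, hr, hr2⟩ := E.root₁
  have hsc : s * c ∉ C₁ := fun h => hsC ((C₁.mul_mem_cancel_right hc).1 h)
  have pick : ∀ t ∈ S₁, t ∉ C₁ → ∃ e ∈ S₂, (∀ z ∈ (P : Subgroup G), Commute e z) ∧ e * e = 1 ∧
      IsConj (t * e) v₁ := fun t ht htC => by
    rcases E.exists_twist hM ht htC with h | h
    · exact ⟨1, one_mem _, fun z _ => Commute.one_left z, one_mul 1, by rwa [mul_one]⟩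
    · exact ⟨v₂, D.ax₂.vS, D.v₂_central, mul_self_of_two D.ax₂.v2, h⟩
  obtain ⟨e₁, he₁, hz₁, hq₁, hf₁⟩ := pick s hs hsC
  obtain ⟨e₂, he₂, hz₂, hq₂, hf₂⟩ := pick _ (mul_mem hs (D.ax₁.le hc)) hsc
  obtain ⟨S, C, hD, hiso, hroot, hcls⟩ := D.symm.twist hs hsC hc hgen hr hr2 he₁ he₂ hz₁ hz₂ hq₁ hq₂
  refine ⟨S, C, ⟨hD.symm, hroot, E.root₂⟩, hiso, fun x hx hxC => ?_⟩
  obtain ⟨p, -, h | h⟩ := hcls x hx hxC
  · exact ((isConj_iff.2 ⟨p, h⟩).symm).trans hf₁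
  · exact ((isConj_iff.2 ⟨p, h⟩).symm).trans hf₂

/-- Two strongly closed factors. -/
theorem exists_prod2 (E : Big P S₁ S₂ C₁ C₂ v₁ v₂) (hM : ∀ N : Subgroup G, N.Normal → N.index ≠ 2) :
    ∃ T₁ T₂ X₁ X₂ : Subgroup G, Prod2 P T₁ T₂ ∧ Axis T₁ X₁ v₁ ∧ Axis T₂ X₂ v₂ ∧
      Nonempty (S₁ ≃* T₁) ∧ Nonempty (S₂ ≃* T₂) := by
  obtain ⟨T₁, X₁, E₁, i₁, h₁⟩ := E.fuse_first hM
  obtain ⟨T₂, X₂, E₂, i₂, h₂⟩ := E₁.symm.fuse_first hM
  exact ⟨T₁, T₂, X₁, X₂, ⟨E₂.symm.pair.prod, E₂.closed₂ h₂ h₁, E₂.symm.closed₂ h₁ h₂⟩, E₂.pair.ax₂,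
    E₂.pair.ax₁, i₁, i₂⟩

end Big

end Cfsg.Agent.ProdFusion
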