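import Cfsg.Agent.Lib.ProdFusion.Axis
import Cfsg.Agent.Lib.Fusion.Hyperfocal

/-!
The 2-residual meets the Sylow subgroup inside the part of the dihedral factor generated by the fused
reflections.
-/

set_option autoImplicit false
set_option linter.unusedSectionVars false
set_option linter.style.haveILetI false

namespace Cfsg.Agent.ProdFusion

open Cfsg Cfsg.Agent.SylowSplit Cfsg.Agent.FusionSys

universe u

variable {G : Type u} [Group G] [Finite G] {P : Sylow 2 G} {S₁ S₂ C : Subgroup G} {v : G}

/-- An automorphism of odd order induced by conjugation only moves components inside the group generated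
by the fused reflections. -/
theorem odd_proj (D : Prod2 P S₁ S₂) (A : Axis S₁ C v) {Q : Subgroup G} (hQ : Q ≤ (P : Subgroup G))
    (α : MulAut Q) (hodd : Odd (orderOf α)) {g : G} (hg : ∀ x : Q, ((α x : Q) : G) = g * (x : G) * g⁻¹)
    (x : Q) : (D.π (Subgroup.inclusion hQ (x⁻¹ * α x)) : G) ∈ Subgroup.closure (fused S₁ C v) := by
  haveI : Fact (Nat.Prime 2) := ⟨Nat.prime_two⟩
  obtain ⟨p, hp⟩ : ∃ p : Q →* S₁, p = D.π.comp (Subgroup.inclusion hQ) := ⟨_, rfl⟩
  have hpe : ∀ z : Q, D.π (Subgroup.inclusion hQ z) = p z := fun z => by rw [hp]; rfl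
  rw [hpe]
  obtain ⟨N, hN⟩ : ∃ N, N = orderOf α := ⟨_, rfl⟩
  have hαN : ∀ z : Q, (α ^ N) z = z := fun z => by rw [hN, pow_orderOf_eq_one]; rfl
  have hconj : ∀ z : Q, IsConj (z : G) ((α z : Q) : G) := fun z => isConj_iff.2 ⟨g, (hg z).symm⟩
  have hmove : ∀ z : Q, IsConj (p z : G) (p (α z) : G) := fun z => by
    obtain ⟨k, -, hk⟩ := D.exists_move (x := Subgroup.inclusion hQ z) (x' := Subgroup.inclusion hQ (α z))
      (hconj z)
    rw [hpe, hpe] at hk
    exact isConj_iff.2 ⟨k, hk⟩
  have hord : ∀ z : Q, orderOf (p (α z) : G) = orderOf (p z : G) := fun z => by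
    obtain ⟨k, hk⟩ := isConj_iff.1 (hmove z)
    rw [← hk, BrauerSuzuki.orderOf_conj_eq]
  have hwd : ∀ a b : Q, p a = p b → p (α a) = p (α b) := fun a b h => by
    have h1 := hord (a⁻¹ * b)
    rw [map_mul p a⁻¹, map_inv p a, h, inv_mul_cancel, Subgroup.coe_one, orderOf_one, orderOf_eq_one_iff] at h1
    have h2 : p (α (a⁻¹ * b)) = 1 := Subtype.ext h1
    rw [map_mul, map_inv, map_mul, map_inv, inv_mul_eq_one] at h2
    exact h2
  have htwo : ∀ z : Q, ∃ k, orderOf (p z : G) = 2 ^ k := fun z => two_elt_of_mem P.2 (D.le₁ (p z).2)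
  have hout : ∀ z : Q, (p z : G) ∉ C → orderOf (p z : G) = 2 := fun z h =>
    orderOf_two (A.out_sq _ (p z).2 h) fun e => h (e ▸ one_mem C)
  -- elements of large order are fixed
  have hbig : ∀ z : Q, 2 < orderOf (p z : G) → p (α z) = p z := by
    intro z hz
    have hu : (p z : G) ∈ C := by
      by_contra h; rw [hout z h] at hz; omega
    have hu1 : (p (α z) : G) ∈ C := by
      by_contra h; rw [← hord z, hout (α z) h] at hz; omega
    have hmem := A.mem_of_pow hu hu1 (by rw [← hord z, pow_orderOf_eq_one])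
    rw [← mem_powers_iff_mem_zpowers] at hmem
    obtain ⟨i, hi⟩ := hmem
    simp only at hi
    have hpi : p (α z) = p z ^ i := Subtype.ext (by rw [Subgroup.coe_pow]; exact hi.symm)
    have hit : ∀ n : ℕ, p ((α ^ n) z) = (fun w : S₁ => w ^ i)^[n] (p z) := by
      intro n
      induction n with
      | zero => simp
      | succ n ih =>
        rw [Function.iterate_succ_apply', ← ih, pow_succ', MulAut.mul_apply]
        have e : p ((α ^ n) z) = p (z ^ (i ^ n)) := by rw [ih, map_pow, pow_iterate]
        rw [hwd _ _ e, map_pow α, map_pow p, hpi, e, map_pow p, ← pow_mul, ← pow_mul, mul_comm]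
    obtain ⟨k, hk⟩ := htwo z
    have hper : Function.IsPeriodicPt (fun w : S₁ => w ^ i) N (p z) := by
      show (fun w : S₁ => w ^ i)^[N] (p z) = p z
      rw [← hit, hαN]
    rw [Subgroup.orderOf_coe] at hk
    have hk1 : 1 ≤ k := by
      rcases Nat.eq_zero_or_pos k with rfl | h
      · rw [← Subgroup.orderOf_coe] at hk; omega
      · exact h
    have hicop : i.Coprime (2 ^ k) := by
      refine (Nat.coprime_pow_right_iff hk1 _ _).2 ?_
      rw [Nat.coprime_two_right, ← Nat.not_even_iff_odd]
      rintro ⟨j, rfl⟩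
      have h1 := hord z
      rw [hpi, Subgroup.orderOf_coe, Subgroup.orderOf_coe, ← two_mul, pow_mul] at h1
      have h2 : orderOf ((p z ^ 2) ^ j) ∣ orderOf (p z ^ 2) := orderOf_pow_dvd _
      rw [h1, orderOf_pow_of_dvd two_ne_zero (hk ▸ dvd_pow_self 2 (by omega))] at h2
      have h3 := Nat.le_of_dvd (Nat.div_pos (hk ▸ Nat.le_self_pow (by omega) 2) two_pos) h2
      have h4 := orderOf_pos (p z)
      omega
    have hper2 : Function.IsPeriodicPt (fun w : S₁ => w ^ i) (2 ^ (k - 1)) (p z) := by
      show (fun w : S₁ => w ^ i)^[2 ^ (k - 1)] (p z) = p z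
      rw [pow_iterate]
      have h1 := Nat.ModEq.pow_totient hicop
      rw [Nat.totient_prime_pow Nat.prime_two hk1, show 2 - 1 = 1 from rfl, mul_one, ← hk] at h1
      simpa using pow_eq_pow_iff_modEq.2 h1
    have hfix := hper.gcd hper2
    rw [Nat.Coprime.gcd_eq_one ((Nat.coprime_two_right.2 (hN ▸ hodd)).pow_right _)] at hfix
    rw [hpi]
    exact hfix
  have hpv : ∀ z : Q, (p z : G) = v ↔ (p z : G) ∈ C ∧ orderOf (p z : G) = 2 :=
    fun z => ⟨fun h => h.symm ▸ ⟨A.vC, A.v2⟩, fun h => A.eq_v h.1 h.2⟩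
  by_cases hfix : ∀ z : Q, (p z : G) = v → (p (α z) : G) = v
  · -- everything is fixed
    have hC : ∀ z : Q, (p z : G) ∈ C → p (α z) = p z := by
      intro z hz
      obtain ⟨k, hk⟩ := htwo z
      match k, hk with
      | 0, hk =>
        have h1 : p z = p 1 := by rw [map_one]; exact Subtype.ext (orderOf_eq_one_iff.1 (hk.trans (pow_zero 2)))
        rw [hwd z 1 h1, map_one, h1]
      | 1, hk =>
        have hv := (hpv z).2 ⟨hz, by rw [hk]; norm_num⟩
        exact Subtype.ext ((hfix z hv).trans hv.symm)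
      | k + 2, hk =>
        refine hbig z ?_
        rw [hk, pow_add]
        have := Nat.one_le_two_pow (n := k)
        omega
    have hinj : ∀ a b : Q, p (α a) = p (α b) → p a = p b := fun a b h => by
      have h1 := hord (a⁻¹ * b)
      rw [map_mul, map_inv, map_mul p, map_inv, h, inv_mul_cancel, Subgroup.coe_one, orderOf_one, eq_comm,
        orderOf_eq_one_iff] at h1
      have h2 : p (a⁻¹ * b) = 1 := Subtype.ext h1
      rw [map_mul, map_inv, inv_mul_eq_one] at h2
      exact h2
    have key : p (α x) = p x := by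
      by_cases hxC : (p x : G) ∈ C
      · exact hC x hxC
      have h1C : (p (α x) : G) ∉ C := fun h => hxC (by
        have := hC _ h
        rwa [hinj _ _ this] at h)
      have hmC : (p (x⁻¹ * α x) : G) ∈ C := by
        rw [map_mul, map_inv, Subgroup.coe_mul, Subgroup.coe_inv,
          inv_eq_of_mul_eq_one_right (A.out_sq _ (p x).2 hxC)]
        exact A.out_mul _ (p x).2 hxC _ (p (α x)).2 h1C
      have hmfix := hC _ hmC
      obtain ⟨m, hm⟩ : ∃ m, m = p (x⁻¹ * α x) := ⟨_, rfl⟩
      rw [← hm] at hmfix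
      have hx1 : p (α x) = p x * m := by rw [hm, map_mul, map_inv, mul_inv_cancel_left]
      have hit : ∀ n : ℕ, p ((α ^ n) x) = p x * m ^ n := by
        intro n
        induction n with
        | zero => simp
        | succ n ih =>
          rw [pow_succ', MulAut.mul_apply]
          have e : p ((α ^ n) x) = p (x * (x⁻¹ * α x) ^ n) := by rw [ih, map_mul p x, map_pow p, hm]
          rw [hwd _ _ e, map_mul α, map_pow α, map_mul p, map_pow p, hmfix, hx1, mul_assoc, ← pow_succ']
      have h1 := hit N
      rw [hαN, left_eq_mul] at h1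
      obtain ⟨k, hk⟩ := htwo (x⁻¹ * α x)
      rw [← hm, Subgroup.orderOf_coe] at hk
      have hd : orderOf m ∣ Nat.gcd N (orderOf m) :=
        Nat.dvd_gcd (orderOf_dvd_of_pow_eq_one h1) dvd_rfl
      rw [hk, Nat.Coprime.gcd_eq_one ((Nat.coprime_two_right.2 (hN ▸ hodd)).pow_right _), Nat.dvd_one, ← hk,
        orderOf_eq_one_iff] at hd
      rw [hx1, hd, mul_one]
    rw [map_mul, map_inv, key, inv_mul_cancel]
    exact one_mem _
  · -- a Klein four image
    push Not at hfix
    obtain ⟨z, hz, hz1⟩ := hfix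
    obtain ⟨s, hs⟩ : ∃ s, s = (p (α z) : G) := ⟨_, rfl⟩
    have hsS : s ∈ S₁ := hs ▸ (p (α z)).2
    have hso : orderOf s = 2 := by rw [hs, hord, hz, A.v2]
    have hsC : s ∉ C := fun h => hz1 (hs ▸ A.eq_v h hso)
    have hsmall : ∀ w : Q, (p w : G) ∈ C → (p w : G) = 1 ∨ (p w : G) = v := by
      intro w hw
      obtain ⟨k, hk⟩ := htwo w
      match k, hk with
      | 0, hk => exact Or.inl (orderOf_eq_one_iff.1 (hk.trans (pow_zero 2)))
      | 1, hk => exact Or.inr ((hpv w).2 ⟨hw, by rw [hk]; norm_num⟩)
      | k + 2, hk =>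
        have hgt : 2 < orderOf (p w : G) := by
          rw [hk, pow_add]
          have := Nat.one_le_two_pow (n := k)
          omega
        have hv : (p w : G) ^ 2 ^ (k + 1) = v := A.eq_v (pow_mem hw _) (by
          rw [orderOf_pow_of_dvd (pow_ne_zero _ two_ne_zero) (hk ▸ pow_dvd_pow 2 (by omega)), hk,
            Nat.pow_div (by omega) two_pos, show k + 2 - (k + 1) = 1 by omega, pow_one])
        have e : p z = p (w ^ 2 ^ (k + 1)) := Subtype.ext (by rw [map_pow, Subgroup.coe_pow, hv, hz])
        exact absurd (by rw [hwd _ _ e, map_pow α, map_pow p, hbig w hgt, ← map_pow p, ← e, hz]) hz1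
    have hall : ∀ w : Q, (p w : G) ∈ Subgroup.closure ({s, v} : Set G) := by
      intro w
      by_cases hw : (p w : G) ∈ C
      · rcases hsmall w hw with h | h <;> rw [h]
        · exact one_mem _
        · exact Subgroup.subset_closure (by simp)
      · have h1 : (p (w * α z) : G) ∈ C := by
          rw [map_mul, Subgroup.coe_mul, ← hs]; exact A.out_mul _ (p w).2 hw _ hsS hsC
        have h2 : (p w : G) = (p (w * α z) : G) * s := by
          rw [map_mul, Subgroup.coe_mul, ← hs, mul_assoc, A.out_sq s hsS hsC, mul_one]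
        rw [h2]
        refine mul_mem ?_ (Subgroup.subset_closure (by simp))
        rcases hsmall _ h1 with h | h <;> rw [h]
        · exact one_mem _
        · exact Subgroup.subset_closure (by simp)
    have hfs : s ∈ fused S₁ C v := by
      refine ⟨hsS, hsC, hz ▸ hs ▸ hmove z, ?_⟩
      obtain ⟨t, ht⟩ : ∃ t, t = (p (α (α z)) : G) := ⟨_, rfl⟩
      have hto : orderOf t = 2 := by rw [ht, hord, ← hs, hso]
      have htv : t ≠ v := by
        intro e
        have e2 : p (α (α z)) = p z := Subtype.ext (by rw [← ht, e, hz])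
        have hit : ∀ n : ℕ, p ((α ^ (2 * n + 1)) z) = p (α z) := by
          intro n
          induction n with
          | zero => simp
          | succ n ih =>
            rw [show 2 * (n + 1) + 1 = (2 * n + 1) + 1 + 1 by ring, pow_succ', pow_succ', MulAut.mul_apply,
              MulAut.mul_apply, hwd _ _ (hwd _ _ ih), hwd _ _ e2]
        obtain ⟨j, hj⟩ := hN ▸ hodd
        have := hit j
        rw [← hj, hαN] at this
        exact hz1 (by rw [← this, hz])
      have htC : t ∉ C := fun h => htv (A.eq_v h hto)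
      have h1 : (p (α (α z) * α z) : G) ∈ C := by
        rw [map_mul, Subgroup.coe_mul, ← ht, ← hs]
        exact A.out_mul t (ht ▸ (p _).2) htC s hsS hsC
      rcases hsmall _ h1 with h | h <;> rw [map_mul, Subgroup.coe_mul, ← ht, ← hs] at h
      · -- `t = s` is impossible
        have e2 : p (α (α z)) = p (α z) := Subtype.ext (by
          rw [← ht, ← hs, eq_inv_of_mul_eq_one_left h, inv_eq_of_mul_eq_one_right (A.out_sq s hsS hsC)])
        have hit : ∀ n : ℕ, p ((α ^ (n + 1)) z) = p (α z) := by
          intro n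
          induction n with
          | zero => simp
          | succ n ih => rw [pow_succ', MulAut.mul_apply, hwd _ _ ih, e2]
        obtain ⟨j, hj⟩ := hN ▸ hodd
        have := hit (2 * j)
        rw [← hj, hαN] at this
        exact absurd (show (p (α z) : G) = v by rw [← this, hz]) hz1
      · have e : t = v * s := by rw [← h, mul_assoc, A.out_sq s hsS hsC, mul_one]
        rw [← e, ← hz, ht]
        exact (hmove z).trans (hmove (α z))
    refine (Subgroup.closure_le _).2 ?_ (hall _)
    rintro w (rfl | rfl)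
    · exact Subgroup.subset_closure hfs
    · have h := mul_mem (Subgroup.subset_closure (A.mul_fused hfs)) (Subgroup.subset_closure hfs)
      rwa [mul_assoc, A.out_sq s hsS hsC, mul_one] at h

/-- The 2-residual meets `P` in elements whose component is generated by fused reflections. -/
theorem residual_proj (D : Prod2 P S₁ S₂) (A : Axis S₁ C v) (x : (P : Subgroup G))
    (hx : (x : G) ∈ pResidual 2 G) : (D.π x : G) ∈ Subgroup.closure (fused S₁ C v) := by
  haveI : Fact (Nat.Prime 2) := ⟨Nat.prime_two⟩
  obtain ⟨W, hW⟩ : ∃ W, W = (Subgroup.closure (fused S₁ C v)).comap (S₁.subtype.comp D.π) := ⟨_, rfl⟩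
  suffices h : (groupFusionSystem (P : Subgroup G)).hyperfocalSubgroup 2 ≤ W.map (P : Subgroup G).subtype by
    rw [group_hyperfocal] at h
    obtain ⟨y, hy, e⟩ := h ⟨x.2, hx⟩
    rw [hW] at hy
    rwa [Subtype.ext (a1 := y) (a2 := x) e] at hy
  refine (Subgroup.closure_le _).2 ?_
  rintro _ ⟨Q, a, z, hQ, ha, rfl⟩
  let K : Subgroup ((groupFusionSystem (P : Subgroup G)).autGroup Q) :=
    { carrier := {b | ∀ z : Q, Subgroup.inclusion hQ (z⁻¹ * (b : MulAut Q) z) ∈ W}
      mul_mem' := fun {b c} hb hc z => by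
        have := W.mul_mem (hc z) (hb ((c : MulAut Q) z))
        rw [← map_mul] at this
        simpa [mul_assoc] using this
      one_mem' := fun z => by simp
      inv_mem' := fun {b} hb z => by
        have := W.inv_mem (hb ((b : MulAut Q)⁻¹ z))
        rw [← map_inv, MulAut.apply_inv_self] at this
        simpa using this }
  have hle : pResidual 2 ((groupFusionSystem (P : Subgroup G)).autGroup Q) ≤ K := by
    refine (Subgroup.closure_le _).2 fun b hb z => ?_
    have hb1 := b.2
    simp only [group_autGroup P hQ] at hb1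
    obtain ⟨g, -, hg⟩ := (mem_autInducedBy_iff _).1 hb1
    rw [hW]
    exact odd_proj D A hQ _ (by
      rw [Subgroup.orderOf_coe]
      exact Nat.coprime_two_right.1 hb) hg z
  exact ⟨_, hle ha z, by simp⟩

end Cfsg.Agent.ProdFusion
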