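import Cfsg.Agent.Lib.ProdFusion.Core
import Mathlib.GroupTheory.SpecificGroups.Dihedral

/-!
The product fusion theorem for two dihedral factors.
-/

set_option autoImplicit false
set_option linter.unusedSectionVars false
set_option linter.style.haveILetI false

namespace Cfsg.Agent.ProdFusion

open Cfsg Cfsg.Agent.SylowSplit

universe u

variable {G : Type u} [Group G] [Finite G] {P : Sylow 2 G} {S₁ S₂ C : Subgroup G} {v : G}

/-- The rotations of a dihedral 2-group give an axis. -/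
theorem exists_axis {m : ℕ} (hS : IsPGroup 2 S₁) (hm : 2 ≤ m) (e : S₁ ≃* DihedralGroup m) :
    ∃ (C : Subgroup G) (v : G), Axis S₁ C v := by
  haveI : Fact (Nat.Prime 2) := ⟨Nat.prime_two⟩
  have hc : Nat.card S₁ = 2 * m := (Nat.card_congr e.toEquiv).trans DihedralGroup.nat_card
  obtain ⟨k, hk⟩ := IsPGroup.iff_card.1 hS
  have heven : 2 ∣ m := by
    rcases k with _ | _ | k
    · rw [hk] at hc; norm_num at hc; omega
    · rw [hk] at hc; norm_num at hc; omega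
    · exact ⟨2 ^ k, by
        have : 2 * m = 2 * (2 * 2 ^ k) := by rw [← hc, hk]; ring
        omega⟩
  let R : Subgroup S₁ := (Subgroup.zpowers (DihedralGroup.r 1 : DihedralGroup m)).map e.symm.toMonoidHom
  have hRr : ∀ a : ZMod m, e.symm (DihedralGroup.r a) ∈ R := fun a => by
    haveI : NeZero m := ⟨by omega⟩
    exact ⟨_, ⟨(a.val : ℤ), by simp⟩, rfl⟩
  have hR : ∀ x : S₁, x ∉ R → ∃ a, e x = DihedralGroup.sr a := fun x hx => by
    cases h : e x with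
    | r a => exact absurd (by rw [← e.symm_apply_apply x, h]; exact hRr a) hx
    | sr a => exact ⟨a, rfl⟩
  have hsr : ∀ a : ZMod m, e.symm (DihedralGroup.sr a) ∉ R := by
    rintro a ⟨y, ⟨i, rfl⟩, h⟩
    have := e.symm.injective h
    simp at this
  have hmem : ∀ x : S₁, (x : G) ∈ R.map S₁.subtype ↔ x ∈ R := fun x =>
    Subgroup.mem_map_iff_mem (K := R) Subtype.coe_injective
  refine ⟨R.map S₁.subtype, ((e.symm (DihedralGroup.r 1) ^ (m / 2) : S₁) : G), ?_, ?_, ?_, ?_,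
    fun s hs hsC => ?_, fun s hs hsC t ht htC => ?_, ?_⟩
  · exact (Subgroup.map_le_range _ _).trans (Subgroup.range_subtype S₁).le
  · haveI : IsCyclic R := isCyclic_of_surjective
      (e.symm.toMonoidHom.subgroupMap (Subgroup.zpowers (DihedralGroup.r 1 : DihedralGroup m)))
      (MonoidHom.subgroupMap_surjective _ _)
    exact isCyclic_of_surjective _ (MonoidHom.subgroupMap_surjective S₁.subtype R)
  · exact (hmem _).2 (pow_mem (hRr 1) _)
  · rw [Subgroup.orderOf_coe, orderOf_pow_of_dvd (by omega) (by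
      rw [e.symm.orderOf_eq, DihedralGroup.orderOf_r_one]; exact Nat.div_dvd_of_dvd heven),
      e.symm.orderOf_eq, DihedralGroup.orderOf_r_one, Nat.div_div_self heven (by omega)]
  · obtain ⟨a, ha⟩ := hR ⟨s, hs⟩ fun h => hsC ((hmem ⟨s, hs⟩).2 h)
    have : (⟨s, hs⟩ : S₁) * ⟨s, hs⟩ = 1 := e.injective (by rw [map_mul, map_one, ha, DihedralGroup.sr_mul_self])
    exact congrArg Subtype.val this
  · obtain ⟨a, ha⟩ := hR ⟨s, hs⟩ fun h => hsC ((hmem ⟨s, hs⟩).2 h)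
    obtain ⟨b, hb⟩ := hR ⟨t, ht⟩ fun h => htC ((hmem ⟨t, ht⟩).2 h)
    refine (hmem (⟨s, hs⟩ * ⟨t, ht⟩)).2 ?_
    rw [← e.symm_apply_apply (⟨s, hs⟩ * ⟨t, ht⟩), map_mul, ha, hb, DihedralGroup.sr_mul_sr]
    exact hRr _
  · exact ⟨e.symm (DihedralGroup.sr 0), SetLike.coe_mem _, fun h => hsr 0 ((hmem _).1 h)⟩

theorem Axis.le_closure (A : Axis S₁ C v) : S₁ ≤ Subgroup.closure {s | s ∈ S₁ ∧ orderOf s = 2} := by
  obtain ⟨s, hs, hsC⟩ := A.out
  have hout : ∀ t ∈ S₁, t ∉ C → t ∈ Subgroup.closure {s | s ∈ S₁ ∧ orderOf s = 2} := fun t ht htC =>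
    Subgroup.subset_closure ⟨ht, orderOf_two (A.out_sq t ht htC) fun e => htC (e ▸ one_mem C)⟩
  intro x hx
  by_cases hxC : x ∈ C
  · have := mul_mem (hout (x * s) (mul_mem hx hs) fun h => hsC ((C.mul_mem_cancel_left hxC).1 h))
      (hout s hs hsC)
    rwa [mul_assoc, A.out_sq s hs hsC, mul_one] at this
  · exact hout x hx hxC

/-- The normal closure of the second factor meets the first trivially. -/
theorem inf_normalClosure (D : Prod2 P S₁ S₂) (A : Axis S₁ C v)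
    (hgen : S₂ ≤ Subgroup.closure {s | s ∈ S₂ ∧ orderOf s = 2}) :
    S₁ ⊓ Subgroup.normalClosure (S₂ : Set G) = ⊥ := by
  haveI : Fact (Nat.Prime 2) := ⟨Nat.prime_two⟩
  obtain ⟨K, hKn, hPK, hK⟩ := exists_cut D A
  set W := Subgroup.closure (fused S₁ C v) with hW
  have h2K : S₂ ≤ K := fun x hx => (hK ⟨x, D.le₂ hx⟩).2 (by
    rw [(D.π_eq_one_iff ⟨x, D.le₂ hx⟩).2 hx]; exact one_mem W)
  haveI := hKn
  have hMK : Subgroup.normalClosure (S₂ : Set G) ≤ K := Subgroup.normalClosure_le_normal h2K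
  have h1W : ∀ x ∈ S₁, x ∈ K → x ∈ W := fun x hx hxK => by
    have := (hK ⟨x, D.le₁ hx⟩).1 hxK
    rwa [D.π_of_mem₁ (x := ⟨x, D.le₁ hx⟩) hx] at this
  rw [eq_bot_iff]
  intro x hx
  obtain ⟨hx1, hx2⟩ := Subgroup.mem_inf.1 hx
  rw [Subgroup.mem_bot]
  by_cases hne : fused S₁ C v = ∅
  · have := h1W x hx1 (hMK hx2)
    rw [hW, hne, Subgroup.closure_empty, Subgroup.mem_bot] at this
    exact this
  by_contra hx0
  obtain ⟨s, hsf⟩ := Set.nonempty_iff_ne_empty.2 hne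
  have hWK : ∀ y ∈ W, y ∈ K := fun y hy => by
    have hyS := Axis.closure_fused_le S₁ C v hy
    exact (hK ⟨y, D.le₁ hyS⟩).2 (by rwa [D.π_of_mem₁ (x := ⟨y, D.le₁ hyS⟩) hyS])
  have hsK : s ∈ K := hWK s (Subgroup.subset_closure hsf)
  have hvK : v ∈ K := hWK v (by
    have h := mul_mem (Subgroup.subset_closure (A.mul_fused hsf)) (Subgroup.subset_closure hsf)
    rwa [mul_assoc, A.out_sq s hsf.1 hsf.2.1, mul_one] at h)
  obtain ⟨Q, hQ⟩ := Cfsg.Agent.PBasic.exists_sylow_subgroupOf P K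
  -- fusion inside the subgroup
  have hdec : ∀ g : G, ∃ k ∈ K, ∃ p ∈ (P : Subgroup G), g = k * p := fun g => by
    have h : g ∈ (K ⊔ (P : Subgroup G) : Subgroup G) := by rw [sup_comm, hPK]; exact Subgroup.mem_top _
    rw [← SetLike.mem_coe, Subgroup.normal_mul] at h
    obtain ⟨k, hk, p, hp, rfl⟩ := h
    exact ⟨k, hk, p, hp, rfl⟩
  have hvP : ∀ p ∈ (P : Subgroup G), p * v * p⁻¹ = v := fun p hp => by
    have h2 := (A.central (D.π ⟨p, hp⟩).2).mul_right (D.comm (A.le A.vC) (D.π_spec ⟨p, hp⟩))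
    rw [mul_inv_cancel_left] at h2
    exact mul_inv_eq_iff_eq_mul.2 h2.eq.symm
  have E : OneClass Q (S₁.subgroupOf K) (S₂.subgroupOf K) (C.subgroupOf K) (⟨v, hvK⟩ : K) :=
    ⟨D.restrict Q hQ h2K, A.restrict hvK ⟨s, hsf.1, hsf.2.1, hsK⟩, fun t ht htC => by
      obtain ⟨g, hg⟩ := isConj_iff.1 (A.closure_fused_out (h1W t ht t.2) htC).2.2.1
      obtain ⟨k, hk, p, hp, rfl⟩ := hdec g
      refine isConj_iff.2 ⟨⟨k, hk⟩, Subtype.ext ?_⟩
      show k * v * k⁻¹ = t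
      rw [← hg]
      conv_lhs => rw [← hvP p hp]
      group⟩
  obtain ⟨N, hNn, hN2, hNv⟩ := E.exists_normal
  have hS2N : ∀ y ∈ S₂, y ∈ N.map K.subtype := fun y hy => by
    refine (Subgroup.closure_le _).2 (fun r hr => ?_) (hgen hy)
    exact ⟨⟨r, h2K hr.1⟩, hN2 ⟨r, h2K hr.1⟩ hr.1 (by rw [← Subgroup.orderOf_coe]; exact hr.2), rfl⟩
  have hMN : Subgroup.normalClosure (S₂ : Set G) ≤ N.map K.subtype := by
    rw [Subgroup.normalClosure, Subgroup.closure_le]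
    intro z hz
    obtain ⟨y, hy, hyz⟩ := Group.mem_conjugatesOfSet_iff.1 hz
    obtain ⟨g, rfl⟩ := isConj_iff.1 hyz
    obtain ⟨k, hk, p, hp, rfl⟩ := hdec g
    have hy' := D.cl₂.2 y hy p (mul_mem (mul_mem hp (D.le₂ hy)) (inv_mem hp))
    obtain ⟨n, hn, hne'⟩ := hS2N _ hy'
    refine ⟨⟨k, hk⟩ * n * ⟨k, hk⟩⁻¹, hNn.conj_mem n hn _, ?_⟩
    rw [map_mul, map_mul, map_inv, hne']
    show k * (p * y * p⁻¹) * k⁻¹ = k * p * y * (k * p)⁻¹
    group
  -- an involution of the intersection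
  obtain ⟨n, hn, rfl⟩ := hMN hx2
  obtain ⟨i, hi⟩ := two_elt_of_mem P.2 (D.le₁ hx1)
  have hi0 : i ≠ 0 := fun h => hx0 (orderOf_eq_one_iff.1 (by rw [hi, h, pow_zero]))
  obtain ⟨i, rfl⟩ := Nat.exists_eq_add_one_of_ne_zero hi0
  have hz2 : orderOf ((n ^ 2 ^ i : K) : G) = 2 := by
    show orderOf ((n : G) ^ 2 ^ i) = 2
    rw [orderOf_pow_of_dvd (pow_ne_zero _ two_ne_zero) (by
      show 2 ^ i ∣ orderOf (K.subtype n); rw [hi]; exact pow_dvd_pow 2 (by omega))]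
    show orderOf (K.subtype n) / 2 ^ i = 2
    rw [hi, pow_succ, Nat.mul_div_cancel_left _ (by positivity)]
  have hzN : n ^ 2 ^ i ∈ N := pow_mem hn _
  have hzS : ((n ^ 2 ^ i : K) : G) ∈ S₁ := by rw [Subgroup.coe_pow]; exact pow_mem hx1 _
  by_cases hzC : ((n ^ 2 ^ i : K) : G) ∈ C
  · exact hNv ((Subtype.ext (A.eq_v hzC hz2) : n ^ 2 ^ i = ⟨v, hvK⟩) ▸ hzN)
  · obtain ⟨k, hk⟩ := isConj_iff.1 (E.fus (n ^ 2 ^ i) hzS hzC).symm
    exact hNv (hk ▸ hNn.conj_mem _ hzN k)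

/-- An involution of the first factor centralises a normal subgroup meeting it trivially. -/
theorem commute_of_inf (D : Prod2 P S₁ S₂) (hO : Cfsg.pPrimeCore 2 G = ⊥) {M : Subgroup G} [hMn : M.Normal]
    (hM : S₁ ⊓ M = ⊥) {s : G} (hs : s ∈ S₁) (hs2 : orderOf s = 2) {m : G} (hm : m ∈ M) : Commute s m := by
  haveI : Fact (Nat.Prime 2) := ⟨Nat.prime_two⟩
  obtain ⟨G₁, hG₁⟩ : ∃ G₁, G₁ = M ⊔ Subgroup.zpowers s := ⟨_, rfl⟩
  have hsG : s ∈ G₁ := hG₁ ▸ Subgroup.mem_sup_right (Subgroup.mem_zpowers s)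
  have hdiff : ∀ g ∈ G₁, g * s * g⁻¹ * s⁻¹ ∈ M := fun g hg => by
    rw [hG₁, ← SetLike.mem_coe, Subgroup.normal_mul] at hg
    obtain ⟨a, ha, b, hb, rfl⟩ := hg
    obtain ⟨i, rfl⟩ := Subgroup.mem_zpowers_iff.1 hb
    rw [show a * s ^ i * s * (a * s ^ i)⁻¹ * s⁻¹ = a * (s * a⁻¹ * s⁻¹) by group]
    exact mul_mem ha (hMn.conj_mem _ (inv_mem ha) s)
  have hZ : InZStar 2 (⟨s, hsG⟩ : G₁) := by
    refine BrauerSuzuki.zStar G₁ ⟨s, hsG⟩ (by rw [← Subgroup.orderOf_coe]; exact hs2) fun g hg => ?_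
    refine Subtype.ext ?_
    show (g : G) * s * (g : G)⁻¹ = s
    have hc : Commute s ((g : G) * s * (g : G)⁻¹) := by simpa using hg.map G₁.subtype
    have ho : orderOf ((g : G) * s * (g : G)⁻¹) = 2 := (BrauerSuzuki.orderOf_conj_eq _ s).trans hs2
    obtain ⟨q, h1, h2⟩ := exists_conj_mem_pair P ⟨1, hs2.trans (pow_one 2).symm⟩
      ⟨1, ho.trans (pow_one 2).symm⟩ hc
    have h1' := D.mem₁ h1 ((InR.of_mem hs).conj q)
    have h2' := D.mem₁ h2 (((InR.of_mem hs).conj _).conj q)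
    have h3 : q * ((g : G) * s * (g : G)⁻¹) * q⁻¹ * (q * s * q⁻¹)⁻¹ ∈ S₁ ⊓ M := by
      refine Subgroup.mem_inf.2 ⟨mul_mem h2' (inv_mem h1'), ?_⟩
      rw [show q * ((g : G) * s * (g : G)⁻¹) * q⁻¹ * (q * s * q⁻¹)⁻¹ =
        q * ((g : G) * s * (g : G)⁻¹ * s⁻¹) * q⁻¹ by group]
      exact hMn.conj_mem _ (hdiff (g : G) g.2) q
    rw [hM, Subgroup.mem_bot, mul_inv_eq_one] at h3
    exact (MulAut.conj q).injective h3
  have hmG : m ∈ G₁ := hG₁ ▸ Subgroup.mem_sup_left hm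
  have h := hZ ⟨m, hmG⟩
  -- the odd core of the extension lies in `M`
  have hMG : M ≤ G₁ := hG₁ ▸ le_sup_left
  haveI : (pPrimeCore 2 G₁).Normal := Cfsg.Agent.FittingCores.pPrimeCore_normal 2
  set O := ((pPrimeCore 2 G₁).map G₁.subtype).subgroupOf M with hO'
  have hOM : ∀ o : G₁, o ∈ pPrimeCore 2 G₁ → (o : G) ∈ M := by
    intro o ho
    have hodd : ¬ 2 ∣ orderOf o := fun h2 => Nat.prime_two.coprime_iff_not_dvd.1
      (Cfsg.Agent.FittingCores.pPrimeCore_coprime (G := G₁) 2).symm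
      (h2.trans (Subgroup.orderOf_dvd_natCard _ ho))
    have ho1 : (o : G) ∈ M ⊔ Subgroup.zpowers s := le_of_eq hG₁ o.2
    rw [← SetLike.mem_coe, Subgroup.normal_mul] at ho1
    obtain ⟨a, ha, b, hb, hab⟩ := ho1
    rw [← QuotientGroup.eq_one_iff, ← orderOf_eq_one_iff]
    have hab' : a * b = (o : G) := hab
    have h1 : orderOf ((o : G) : G ⧸ M) ∣ 2 := by
      rw [← hab', QuotientGroup.mk_mul, (QuotientGroup.eq_one_iff a).2 ha, one_mul]
      exact (orderOf_map_dvd (QuotientGroup.mk' M) b).trans (hs2 ▸ orderOf_dvd_of_mem_zpowers hb)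
    have h2 : orderOf ((o : G) : G ⧸ M) ∣ orderOf o := by
      rw [← Subgroup.orderOf_coe]; exact orderOf_map_dvd (QuotientGroup.mk' M) _
    rcases (Nat.dvd_prime Nat.prime_two).1 h1 with e | e
    · exact e
    · exact absurd (e ▸ h2) hodd
  have hOn : O.Normal := ⟨fun x hx y => by
    obtain ⟨o, ho, hoe⟩ := hx
    refine ⟨⟨y, hMG y.2⟩ * o * ⟨y, hMG y.2⟩⁻¹, (inferInstance : (pPrimeCore 2 G₁).Normal).conj_mem o ho _, ?_⟩
    rw [map_mul, map_mul, map_inv, hoe]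
    rfl⟩
  have hOc : (Nat.card O).Coprime 2 := by
    refine Nat.Coprime.coprime_dvd_left ?_ (Cfsg.Agent.FittingCores.pPrimeCore_coprime (G := G₁) 2)
    rw [hO', Nat.card_congr (Subgroup.subgroupOfEquivOfLe (show (pPrimeCore 2 G₁).map G₁.subtype ≤ M by
      rintro _ ⟨o, ho, rfl⟩; exact hOM o ho)).toEquiv, Subgroup.card_map_of_injective G₁.subtype_injective]
  have hOb : O ≤ ⊥ := by
    have h1 := Cfsg.Agent.PBasic.le_pPrimeCore hOn hOc
    have hchar := Cfsg.Agent.PBasic.pPrimeCore_characteristic 2 M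
    have h2 : (pPrimeCore 2 M).map M.subtype ≤ pPrimeCore 2 G :=
      Cfsg.Agent.PBasic.le_pPrimeCore inferInstance (by
        rw [Subgroup.card_map_of_injective M.subtype_injective]
        exact Cfsg.Agent.FittingCores.pPrimeCore_coprime (G := M) 2)
    rw [hO, le_bot_iff, Subgroup.map_eq_bot_iff_of_injective _ M.subtype_injective] at h2
    exact h1.trans h2.le
  have h4 : (⟨_, hOM _ h⟩ : M) ∈ O := ⟨_, h, rfl⟩
  have h5 := congrArg Subtype.val (Subgroup.mem_bot.1 (hOb h4))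
  simp only [Subgroup.coe_mul, Subgroup.coe_inv, Subgroup.coe_one, mul_inv_eq_one] at h5
  exact (mul_inv_eq_iff_eq_mul.1 h5).symm

/-- The theorem. -/
theorem product_fusion (D : Prod2 P S₁ S₂) {C₁ C₂ : Subgroup G} {v₁ v₂ : G} (A₁ : Axis S₁ C₁ v₁)
    (A₂ : Axis S₂ C₂ v₂) (hO : Cfsg.pPrimeCore 2 G = ⊥)
    (hO' : ∀ N : Subgroup G, N.Normal → Odd N.index → N = ⊤) :
    ∃ G₁ G₂ : Subgroup G, G₁.Normal ∧ G₂.Normal ∧ IsInternalDirectProduct G₁ G₂ ⊤ ∧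
      S₁ ≤ G₁ ∧ S₂ ≤ G₂ ∧ Odd (S₁.relIndex G₁) ∧ Odd (S₂.relIndex G₂) := by
  haveI : Fact (Nat.Prime 2) := ⟨Nat.prime_two⟩
  set M₁ := Subgroup.normalClosure (S₁ : Set G) with hM₁
  set M₂ := Subgroup.normalClosure (S₂ : Set G) with hM₂
  have i₁ : S₁ ⊓ M₂ = ⊥ := inf_normalClosure D A₁ A₂.le_closure
  have i₂ : S₂ ⊓ M₁ = ⊥ := inf_normalClosure D.symm A₂ A₁.le_closure
  have hc : M₁ ≤ Subgroup.centralizer (M₂ : Set G) := by
    refine Subgroup.normalClosure_le_normal fun x hx => ?_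
    refine (Subgroup.closure_le _).2 (fun s hs => Subgroup.mem_centralizer_iff.2 fun m hm =>
      (commute_of_inf D hO i₁ hs.1 hs.2 hm).eq.symm) (A₁.le_closure hx)
  have hcomm : ∀ a ∈ M₁, ∀ b ∈ M₂, a * b = b * a := fun a ha b hb =>
    (Subgroup.mem_centralizer_iff.1 (hc ha) b hb).symm
  have key : ∀ {T₁ T₂ : Subgroup G}, Prod2 P T₁ T₂ → T₂ ⊓ Subgroup.normalClosure (T₁ : Set G) = ⊥ →
      (P : Subgroup G) ⊓ Subgroup.normalClosure (T₁ : Set G) = T₁ := by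
    intro T₁ T₂ D' h
    refine le_antisymm (fun x hx => ?_) (le_inf D'.le₁ Subgroup.le_normalClosure)
    obtain ⟨hxP, hxM⟩ := Subgroup.mem_inf.1 hx
    have h1 : (D'.π ⟨x, hxP⟩ : G)⁻¹ * x ∈ T₂ ⊓ Subgroup.normalClosure (T₁ : Set G) :=
      Subgroup.mem_inf.2 ⟨D'.π_spec _, (Subgroup.normalClosure (T₁ : Set G)).mul_mem
        ((Subgroup.normalClosure (T₁ : Set G)).inv_mem (Subgroup.le_normalClosure (D'.π ⟨x, hxP⟩).2)) hxM⟩
    rw [h, Subgroup.mem_bot, inv_mul_eq_one] at h1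
    exact h1 ▸ (D'.π _).2
  have k₁ := key D i₂
  have k₂ := key D.symm i₁
  have hrel : ∀ {T : Subgroup G} {M : Subgroup G}, M.Normal → (P : Subgroup G) ⊓ M = T →
      Odd (T.relIndex M) := by
    intro T M hMn h
    obtain ⟨Q, hQ⟩ := Cfsg.Agent.PBasic.exists_sylow_subgroupOf P M
    have h2 := Q.not_dvd_index
    rw [hQ] at h2
    rw [← h, Subgroup.inf_relIndex_right]
    exact Nat.odd_iff.2 (Nat.two_dvd_ne_zero.1 h2)
  have hinf : M₁ ⊓ M₂ = ⊥ := by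
    have hn : (M₁ ⊓ M₂).Normal := inferInstance
    have hP : (P : Subgroup G) ⊓ (M₁ ⊓ M₂) = ⊥ := by
      rw [eq_bot_iff]
      intro x hx
      obtain ⟨hxP, hx1, hx2⟩ := hx
      have a : x ∈ S₁ := k₁ ▸ Subgroup.mem_inf.2 ⟨hxP, hx1⟩
      have b : x ∈ S₂ := k₂ ▸ Subgroup.mem_inf.2 ⟨hxP, hx2⟩
      rw [← D.prod.2.2.2.1]
      exact ⟨a, b⟩
    have hodd := hrel hn hP
    rw [Subgroup.relIndex_bot_left] at hodd
    have h1 := Cfsg.Agent.PBasic.le_pPrimeCore hn (Nat.coprime_two_right.2 hodd)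
    rwa [hO, le_bot_iff] at h1
  have hsup : M₁ ⊔ M₂ = ⊤ := by
    refine hO' _ inferInstance ?_
    refine Odd.of_dvd_nat (Nat.odd_iff.2 (Nat.two_dvd_ne_zero.1 P.not_dvd_index))
      (Subgroup.index_dvd_of_le ?_)
    rw [← D.prod.2.2.2.2]
    exact sup_le_sup Subgroup.le_normalClosure Subgroup.le_normalClosure
  exact ⟨M₁, M₂, inferInstance, inferInstance, ⟨le_top, le_top, hcomm, hinf, hsup⟩,
    Subgroup.le_normalClosure, Subgroup.le_normalClosure, hrel inferInstance k₁, hrel inferInstance k₂⟩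

end Cfsg.Agent.ProdFusion
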