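import Cfsg.Agent.Lib.ProdFusion.Main

/-!
A Sylow 2-subgroup with two dihedral factors: fusion of central elements, moving centralisers, and the
criterion for a factor to be strongly closed.
-/

set_option autoImplicit false
set_option linter.unusedSectionVars false
set_option linter.style.haveILetI false

namespace Cfsg.Agent.ProdFusion

open Cfsg Cfsg.Agent.SylowSplit

universe u

variable {G : Type u} [Group G] [Finite G]

namespace Axis

variable {S C : Subgroup G} {v : G}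

theorem vS (A : Axis S C v) : v ∈ S := A.le A.vC

theorem v_ne (A : Axis S C v) : v ≠ 1 := fun e => by
  have h := A.v2
  rw [e, orderOf_one] at h
  omega

theorem v_inv (A : Axis S C v) : v⁻¹ = v := inv_eq_of_mul_eq_one_right (mul_self_of_two A.v2)

theorem out_ne (_A : Axis S C v) {s : G} (hsC : s ∉ C) : s ≠ 1 := fun e => hsC (e ▸ one_mem C)

theorem comm_C (A : Axis S C v) {a b : G} (ha : a ∈ C) (hb : b ∈ C) : Commute a b := by
  haveI := A.cyc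
  obtain ⟨c, hc⟩ := IsCyclic.exists_generator (α := C)
  obtain ⟨i, hi⟩ := Subgroup.mem_zpowers_iff.1 (hc ⟨a, ha⟩)
  obtain ⟨j, hj⟩ := Subgroup.mem_zpowers_iff.1 (hc ⟨b, hb⟩)
  have h2 := (Commute.refl c).zpow_zpow i j
  rw [hi, hj] at h2
  exact congrArg (fun z : C => (z : G)) h2.eq

theorem invol (A : Axis S C v) {a : G} (ha : a ∈ C) (h : a * a = 1) : a = 1 ∨ a = v := by
  by_cases h1 : a = 1
  · exact Or.inl h1
  · exact Or.inr (A.eq_v ha (orderOf_two h h1))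

theorem invol' (A : Axis S C v) {a : G} (ha : a ∈ S) (h : a * a = 1) : a = 1 ∨ a = v ∨ a ∉ C := by
  by_cases h1 : a ∈ C
  · exact (A.invol h1 h).imp_right Or.inl
  · exact Or.inr (Or.inr h1)

theorem sq_mem (A : Axis S C v) {a : G} (ha : a ∈ S) : a * a ∈ C := by
  by_cases h : a ∈ C
  · exact mul_mem h h
  · rw [A.out_sq a ha h]; exact one_mem C

theorem mem_C_of_commute (A : Axis S C v) {a q : G} (ha : a ∈ S) (hq : q ∈ C) (h : Commute a q)
    (hq2 : q * q ≠ 1) : a ∈ C := by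
  by_contra hC
  have h1 := A.conj_inv ha hC hq
  rw [h.eq, mul_inv_cancel_right] at h1
  exact hq2 (mul_eq_one_iff_eq_inv.2 h1)

theorem out_commute (A : Axis S C v) {s t : G} (hs : s ∈ S) (hsC : s ∉ C) (ht : t ∈ S) (htC : t ∉ C)
    (h : Commute s t) : t = s ∨ t = s * v := by
  have h1 := A.out_mul s hs hsC t ht htC
  have h2 : s * t * (s * t) = 1 := by
    rw [h.symm.mul_mul_mul_comm, A.out_sq s hs hsC, A.out_sq t ht htC, one_mul]
  have e : t = s * (s * t) := by rw [← mul_assoc, A.out_sq s hs hsC, one_mul]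
  rcases A.invol h1 h2 with h' | h' <;> rw [h'] at e
  · exact Or.inl (by rwa [mul_one] at e)
  · exact Or.inr e

/-- In a big axis some element squares to the central involution. -/
theorem exists_root (A : Axis S C v) (hS : IsPGroup 2 S) {q : G} (hq : q ∈ C) (hq2 : q * q ≠ 1) :
    ∃ r ∈ C, r * r = v := by
  haveI : Fact (Nat.Prime 2) := ⟨Nat.prime_two⟩
  obtain ⟨j, hj⟩ := two_elt_of_mem hS (A.le hq)
  have hj2 : 2 ≤ j := by
    by_contra h
    refine hq2 ?_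
    rw [← pow_two]
    exact orderOf_dvd_iff_pow_eq_one.1 (hj ▸ (pow_dvd_pow 2 (show j ≤ 1 by omega)).trans (pow_one 2).dvd)
  obtain ⟨i, rfl⟩ : ∃ i, j = i + 2 := ⟨j - 2, by omega⟩
  refine ⟨q ^ 2 ^ i, pow_mem hq _, ?_⟩
  rw [← pow_add, show 2 ^ i + 2 ^ i = 2 ^ (i + 1) by ring]
  refine A.eq_v (pow_mem hq _) ?_
  rw [orderOf_pow_of_dvd (pow_ne_zero _ two_ne_zero) (hj ▸ pow_dvd_pow 2 (by omega)), hj,
    show i + 2 = (i + 1) + 1 from rfl, pow_succ 2 (i + 1), Nat.mul_div_cancel_left _ (by positivity)]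

/-- A root of the central involution moves a reflection to its product with it. -/
theorem root_conj (A : Axis S C v) {s r : G} (hs : s ∈ S) (hsC : s ∉ C) (hr : r ∈ C) (hr2 : r * r = v) :
    r * s * r⁻¹ = s * v := by
  have h := A.conj_inv hs hsC hr
  have e : r * s = s * r⁻¹ := by
    rw [← h, ← mul_assoc, ← mul_assoc, A.out_sq s hs hsC, one_mul,
      inv_eq_of_mul_eq_one_right (A.out_sq s hs hsC)]
  rw [e, mul_assoc, ← mul_inv_rev, hr2, A.v_inv]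

theorem root_sq_ne (A : Axis S C v) {r : G} (hr2 : r * r = v) : r * r ≠ 1 := hr2 ▸ A.v_ne

end Axis

/-- A Sylow 2-subgroup with two dihedral factors. -/
structure Pair (P : Sylow 2 G) (S₁ S₂ C₁ C₂ : Subgroup G) (v₁ v₂ : G) : Prop where
  prod : IsInternalDirectProduct S₁ S₂ (P : Subgroup G)
  ax₁ : Axis S₁ C₁ v₁
  ax₂ : Axis S₂ C₂ v₂

variable {P : Sylow 2 G}

/-- An element of the normaliser of `P` cannot interchange two elements central in `P`. -/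
theorem no_swap {x y n : G} (hn : n ∈ Subgroup.normalizer ((P : Subgroup G) : Set G))
    (hx : ∀ z ∈ (P : Subgroup G), Commute x z) (h1 : n * x * n⁻¹ = y) (h2 : n * y * n⁻¹ = x) : x = y := by
  haveI : Fact (Nat.Prime 2) := ⟨Nat.prime_two⟩
  obtain ⟨k, m, hm, hord⟩ := Nat.exists_eq_two_pow_mul_odd (orderOf_pos n).ne'
  have hp : n ^ m ∈ (P : Subgroup G) := by
    have hnm : IsPGroup 2 (Subgroup.zpowers (n ^ m)) := SylowSplit.isPGroup_zpowers
      ⟨k, by rw [orderOf_pow_of_dvd hm.pos.ne' (hord ▸ dvd_mul_left m _), hord, Nat.mul_div_cancel _ hm.pos]⟩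
    have hT := IsPGroup.to_sup_of_normal_right' hnm P.2 (Subgroup.zpowers_le.2 (pow_mem hn m))
    have h := P.3 hT le_sup_right
    exact h.le (Subgroup.mem_sup_left (Subgroup.mem_zpowers _))
  have hfix : n ^ m * x * (n ^ m)⁻¹ = x := mul_inv_eq_iff_eq_mul.2 (hx _ hp).eq.symm
  have hpar : ∀ j : ℕ, n ^ (2 * j) * x * (n ^ (2 * j))⁻¹ = x := by
    intro j
    induction j with
    | zero => simp
    | succ j ih =>
      rw [show n ^ (2 * (j + 1)) * x * (n ^ (2 * (j + 1)))⁻¹ =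
        n * (n * (n ^ (2 * j) * x * (n ^ (2 * j))⁻¹) * n⁻¹) * n⁻¹ by
          rw [show 2 * (j + 1) = 2 * j + 1 + 1 by ring, pow_succ', pow_succ']; group, ih, h1, h2]
  obtain ⟨j, hj⟩ := hm
  have h3 : n ^ m * x * (n ^ m)⁻¹ = y := by
    rw [hj, show n ^ (2 * j + 1) * x * (n ^ (2 * j + 1))⁻¹ =
      n * (n ^ (2 * j) * x * (n ^ (2 * j))⁻¹) * n⁻¹ by rw [pow_succ']; group, hpar, h1]
  exact hfix.symm.trans h3

theorem central_conj {x y : G} (hx : ∀ z ∈ (P : Subgroup G), Commute x z)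
    (hy : ∀ z ∈ (P : Subgroup G), Commute y z) (h : IsConj x y) :
    ∃ n ∈ Subgroup.normalizer ((P : Subgroup G) : Set G), n * x * n⁻¹ = y := by
  haveI : Fact (Nat.Prime 2) := ⟨Nat.prime_two⟩
  obtain ⟨g, hg⟩ := isConj_iff.1 h
  obtain ⟨n, hn, e⟩ := P.conj_eq_normalizer_conj_of_mem_centralizer x g⁻¹
    (Subgroup.mem_centralizer_iff.2 fun z hz => (hx z hz).eq.symm)
    (by rw [inv_inv, hg]; exact Subgroup.mem_centralizer_iff.2 fun z hz => (hy z hz).eq.symm)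
  rw [inv_inv, hg] at e
  exact ⟨n⁻¹, inv_mem hn, by rw [inv_inv]; exact e.symm⟩

/-- An element fused to a central one can be moved to it with its centraliser in `P`. -/
theorem move {x y : G} (hy : ∀ z ∈ (P : Subgroup G), Commute y z) (h : IsConj x y) :
    ∃ k : G, k * x * k⁻¹ = y ∧ ∀ z ∈ (P : Subgroup G), Commute z x → k * z * k⁻¹ ∈ (P : Subgroup G) := by
  haveI : Fact (Nat.Prime 2) := ⟨Nat.prime_two⟩
  obtain ⟨g, hg⟩ := isConj_iff.1 h
  set H := Subgroup.centralizer ({y} : Set G) with hH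
  have hPH : (P : Subgroup G) ≤ H := fun z hz =>
    Subgroup.mem_centralizer_singleton_iff.2 (hy z hz).eq.symm
  let Q : Sylow 2 H := P.subtype hPH
  set T := ((P : Subgroup G) ⊓ Subgroup.centralizer ({x} : Set G)).map (MulAut.conj g).toMonoidHom with hT
  have hTH : T ≤ H := by
    rintro _ ⟨z, hz, rfl⟩
    refine Subgroup.mem_centralizer_singleton_iff.2 ?_
    show g * z * g⁻¹ * y = y * (g * z * g⁻¹)
    rw [← hg]
    have := (show Commute z x from Subgroup.mem_centralizer_singleton_iff.1 hz.2).map (MulAut.conj g).toMonoidHom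
    simpa using this.eq
  have hTp : IsPGroup 2 (T.subgroupOf H) :=
    ((P.2.to_le inf_le_left).map _).comap_of_injective _ H.subtype_injective
  obtain ⟨c, hc⟩ := exists_conj_le Q hTp
  refine ⟨(c : G) * g, ?_, fun z hz hzx => ?_⟩
  · rw [show (c : G) * g * x * ((c : G) * g)⁻¹ = (c : G) * (g * x * g⁻¹) * (c : G)⁻¹ by group, hg]
    exact mul_inv_eq_iff_eq_mul.2 (Subgroup.mem_centralizer_singleton_iff.1 c.2)
  · have hzT : g * z * g⁻¹ ∈ T := ⟨z, ⟨hz, Subgroup.mem_centralizer_singleton_iff.2 hzx.eq⟩, rfl⟩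
    have := hc ⟨_, hTH hzT⟩ hzT
    rwa [show (c : G) * g * z * ((c : G) * g)⁻¹ = (c : G) * (g * z * g⁻¹) * (c : G)⁻¹ by group]

/-- The version for cyclic subgroups normal in `P`. -/
theorem moveN {x y : G} (hy : ∀ z ∈ (P : Subgroup G), z * y * z⁻¹ ∈ Subgroup.zpowers y) (h : IsConj x y) :
    ∃ (k : G) (i : ℤ), k * x * k⁻¹ = y ^ i ∧
      ∀ z ∈ (P : Subgroup G), z * x * z⁻¹ ∈ Subgroup.zpowers x → k * z * k⁻¹ ∈ (P : Subgroup G) := by
  haveI : Fact (Nat.Prime 2) := ⟨Nat.prime_two⟩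
  obtain ⟨g, hg⟩ := isConj_iff.1 h
  set H := Subgroup.normalizer (Subgroup.zpowers y : Set G) with hH
  have hnorm : ∀ {a w : G}, a * w * a⁻¹ ∈ Subgroup.zpowers w →
      a ∈ Subgroup.normalizer (Subgroup.zpowers w : Set G) := fun {a w} hz => by
    have hle : (Subgroup.zpowers w).map (MulAut.conj a).toMonoidHom ≤ Subgroup.zpowers w := by
      rw [MonoidHom.map_zpowers]; exact Subgroup.zpowers_le.2 hz
    have heq := Subgroup.eq_of_le_of_card_ge hle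
      (le_of_eq (Subgroup.card_map_of_injective (MulAut.conj a).injective).symm)
    refine Subgroup.mem_normalizer_iff.2 fun z => ⟨fun hzw => hle ⟨z, hzw, rfl⟩, fun hzw => ?_⟩
    have hzw' : a * z * a⁻¹ ∈ Subgroup.zpowers w := hzw
    rw [← heq] at hzw'
    obtain ⟨u, hu, e⟩ := hzw'
    have : u = z := (MulAut.conj a).injective e
    exact this ▸ hu
  have hPH : (P : Subgroup G) ≤ H := fun z hz => hnorm (hy z hz)
  let Q : Sylow 2 H := P.subtype hPH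
  set T := ((P : Subgroup G) ⊓ Subgroup.normalizer (Subgroup.zpowers x : Set G)).map
    (MulAut.conj g).toMonoidHom with hT
  have hTH : T ≤ H := by
    rintro _ ⟨z, hz, rfl⟩
    refine hnorm ?_
    obtain ⟨i, hi⟩ := Subgroup.mem_zpowers_iff.1
      ((Subgroup.mem_normalizer_iff.1 hz.2 x).1 (Subgroup.mem_zpowers x))
    refine Subgroup.mem_zpowers_iff.2 ⟨i, ?_⟩
    show y ^ i = g * z * g⁻¹ * y * (g * z * g⁻¹)⁻¹
    rw [← hg, conj_zpow, hi]
    group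
  have hTp : IsPGroup 2 (T.subgroupOf H) :=
    ((P.2.to_le inf_le_left).map _).comap_of_injective _ H.subtype_injective
  obtain ⟨c, hc⟩ := exists_conj_le Q hTp
  obtain ⟨i, hi⟩ := Subgroup.mem_zpowers_iff.1
    ((Subgroup.mem_normalizer_iff.1 c.2 y).1 (Subgroup.mem_zpowers y))
  refine ⟨(c : G) * g, i, ?_, fun z hz hzx => ?_⟩
  · rw [show (c : G) * g * x * ((c : G) * g)⁻¹ = (c : G) * (g * x * g⁻¹) * (c : G)⁻¹ by group, hg, hi]
  · have hzT : g * z * g⁻¹ ∈ T := ⟨z, ⟨hz, hnorm hzx⟩, rfl⟩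
    have := hc ⟨_, hTH hzT⟩ hzT
    rwa [show (c : G) * g * z * ((c : G) * g)⁻¹ = (c : G) * (g * z * g⁻¹) * (c : G)⁻¹ by group]

/-- A representative of a class whose centraliser in `P` is as large as possible. -/
theorem exists_full {t : G} (ht : t ∈ (P : Subgroup G)) :
    ∃ w ∈ (P : Subgroup G), IsConj t w ∧ ∀ u ∈ (P : Subgroup G), IsConj u w →
      ∃ k : G, k * u * k⁻¹ = w ∧ ∀ z ∈ (P : Subgroup G), Commute z u → k * z * k⁻¹ ∈ (P : Subgroup G) := by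
  haveI : Fact (Nat.Prime 2) := ⟨Nat.prime_two⟩
  set C := Subgroup.centralizer ({t} : Set G) with hC
  have htC : t ∈ C := Subgroup.mem_centralizer_singleton_iff.2 rfl
  obtain ⟨T, hT⟩ := (SylowSplit.isPGroup_zpowers (x := (⟨t, htC⟩ : C))
    (by simpa only [← Subgroup.orderOf_coe] using two_elt_of_mem P.2 ht)).exists_le_sylow
  obtain ⟨q, hq⟩ := exists_conj_le P (T.2.map C.subtype)
  have hw := hq t ⟨_, hT (Subgroup.mem_zpowers _), rfl⟩
  refine ⟨q * t * q⁻¹, hw, isConj_iff.2 ⟨q, rfl⟩, fun u hu huw => ?_⟩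
  obtain ⟨g, hg⟩ := isConj_iff.1 (huw.trans (isConj_iff.2 ⟨q⁻¹, by group⟩ : IsConj (q * t * q⁻¹) t))
  set X := ((P : Subgroup G) ⊓ Subgroup.centralizer ({u} : Set G)).map (MulAut.conj g).toMonoidHom with hX
  have hXC : X ≤ C := by
    rintro _ ⟨z, hz, rfl⟩
    refine Subgroup.mem_centralizer_singleton_iff.2 ?_
    show g * z * g⁻¹ * t = t * (g * z * g⁻¹)
    rw [← hg]
    have := (show Commute z u from Subgroup.mem_centralizer_singleton_iff.1 hz.2).map (MulAut.conj g).toMonoidHom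
    simpa using this.eq
  have hXp : IsPGroup 2 (X.subgroupOf C) :=
    ((P.2.to_le inf_le_left).map _).comap_of_injective _ C.subtype_injective
  obtain ⟨c, hc⟩ := exists_conj_le T hXp
  refine ⟨q * (c : G) * g, ?_, fun z hz hzu => ?_⟩
  · rw [show q * (c : G) * g * u * (q * (c : G) * g)⁻¹ = q * ((c : G) * (g * u * g⁻¹) * (c : G)⁻¹) * q⁻¹ by
      group, hg, mul_inv_eq_iff_eq_mul.2 (Subgroup.mem_centralizer_singleton_iff.1 c.2)]
  · have hzX : g * z * g⁻¹ ∈ X := ⟨z, ⟨hz, Subgroup.mem_centralizer_singleton_iff.2 hzu.eq⟩, rfl⟩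
    rw [show q * (c : G) * g * z * (q * (c : G) * g)⁻¹ =
      q * ((c : G) * (g * z * g⁻¹) * (c : G)⁻¹) * q⁻¹ by group]
    exact hq _ ⟨_, hc ⟨_, hXC hzX⟩ hzX, rfl⟩

namespace Pair

variable {S₁ S₂ C₁ C₂ : Subgroup G} {v₁ v₂ : G}

theorem symm (D : Pair P S₁ S₂ C₁ C₂ v₁ v₂) : Pair P S₂ S₁ C₂ C₁ v₂ v₁ :=
  ⟨⟨D.prod.2.1, D.prod.1, fun a ha b hb => (D.prod.2.2.1 b hb a ha).symm,
    by rw [inf_comm]; exact D.prod.2.2.2.1, by rw [sup_comm]; exact D.prod.2.2.2.2⟩, D.ax₂, D.ax₁⟩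

theorem le₁ (D : Pair P S₁ S₂ C₁ C₂ v₁ v₂) : S₁ ≤ (P : Subgroup G) := D.prod.1

theorem le₂ (D : Pair P S₁ S₂ C₁ C₂ v₁ v₂) : S₂ ≤ (P : Subgroup G) := D.prod.2.1

theorem comm (D : Pair P S₁ S₂ C₁ C₂ v₁ v₂) {a b : G} (ha : a ∈ S₁) (hb : b ∈ S₂) : Commute a b :=
  D.prod.2.2.1 a ha b hb

theorem mem_P (D : Pair P S₁ S₂ C₁ C₂ v₁ v₂) {a b : G} (ha : a ∈ S₁) (hb : b ∈ S₂) :
    a * b ∈ (P : Subgroup G) := mul_mem (D.le₁ ha) (D.le₂ hb)

theorem split (D : Pair P S₁ S₂ C₁ C₂ v₁ v₂) {x : G} (hx : x ∈ (P : Subgroup G)) :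
    ∃ a ∈ S₁, ∃ b ∈ S₂, a * b = x := by
  have h : S₁ ≤ Subgroup.normalizer (S₂ : Set G) := fun a ha =>
    Subgroup.centralizer_le_normalizer _ (Subgroup.mem_centralizer_iff.2 fun b hb => (D.comm ha hb).eq.symm)
  rw [← D.prod.2.2.2.2, ← SetLike.mem_coe, Subgroup.coe_mul_of_left_le_normalizer_right S₁ S₂ h] at hx
  exact hx

theorem split_eq (D : Pair P S₁ S₂ C₁ C₂ v₁ v₂) {a a' b b' : G} (ha : a ∈ S₁) (ha' : a' ∈ S₁)
    (hb : b ∈ S₂) (hb' : b' ∈ S₂) (h : a * b = a' * b') : a = a' ∧ b = b' := by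
  have h1 : a'⁻¹ * a ∈ S₁ ⊓ S₂ := by
    refine Subgroup.mem_inf.2 ⟨mul_mem (inv_mem ha') ha, ?_⟩
    rw [show a'⁻¹ * a = b' * b⁻¹ by rw [eq_mul_inv_iff_mul_eq, mul_assoc, h, inv_mul_cancel_left]]
    exact mul_mem hb' (inv_mem hb)
  rw [D.prod.2.2.2.1, Subgroup.mem_bot, inv_mul_eq_one] at h1
  exact ⟨h1.symm, mul_left_cancel (h1 ▸ h)⟩

theorem split_eq_one (D : Pair P S₁ S₂ C₁ C₂ v₁ v₂) {a b : G} (ha : a ∈ S₁) (hb : b ∈ S₂)
    (h : a * b = 1) : a = 1 ∧ b = 1 :=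
  D.split_eq ha (one_mem _) hb (one_mem _) (h.trans (one_mul 1).symm)

theorem mem₁_iff (D : Pair P S₁ S₂ C₁ C₂ v₁ v₂) {a b : G} (ha : a ∈ S₁) (hb : b ∈ S₂) :
    a * b ∈ S₁ ↔ b = 1 :=
  ⟨fun h => ((D.split_eq ha h hb (one_mem _) (mul_one (a * b)).symm)).2, fun h => by rw [h, mul_one]; exact ha⟩

theorem mem₂_iff (D : Pair P S₁ S₂ C₁ C₂ v₁ v₂) {a b : G} (ha : a ∈ S₁) (hb : b ∈ S₂) :
    a * b ∈ S₂ ↔ a = 1 :=
  ⟨fun h => (D.split_eq ha (one_mem _) hb h (one_mul (a * b)).symm).1, fun h => by rw [h, one_mul]; exact hb⟩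

theorem mul_mul (D : Pair P S₁ S₂ C₁ C₂ v₁ v₂) {a a' b b' : G} (ha' : a' ∈ S₁) (hb : b ∈ S₂) :
    a * b * (a' * b') = a * a' * (b * b') := (D.comm ha' hb).symm.mul_mul_mul_comm a b'

theorem mul_pow (D : Pair P S₁ S₂ C₁ C₂ v₁ v₂) {a b : G} (ha : a ∈ S₁) (hb : b ∈ S₂) (n : ℕ) :
    (a * b) ^ n = a ^ n * b ^ n := (D.comm ha hb).mul_pow n

theorem commute_iff (D : Pair P S₁ S₂ C₁ C₂ v₁ v₂) {a a' b b' : G} (ha : a ∈ S₁) (ha' : a' ∈ S₁)
    (hb : b ∈ S₂) (hb' : b' ∈ S₂) : Commute (a * b) (a' * b') ↔ Commute a a' ∧ Commute b b' := by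
  show a * b * (a' * b') = a' * b' * (a * b) ↔ _
  rw [D.mul_mul ha' hb, D.mul_mul ha hb']
  refine ⟨fun h => ?_, fun h => by rw [h.1.eq, h.2.eq]⟩
  exact D.split_eq (mul_mem ha ha') (mul_mem ha' ha) (mul_mem hb hb') (mul_mem hb' hb) h

theorem v₁_central (D : Pair P S₁ S₂ C₁ C₂ v₁ v₂) : ∀ z ∈ (P : Subgroup G), Commute v₁ z := by
  intro z hz
  obtain ⟨a, ha, b, hb, rfl⟩ := D.split hz
  exact (D.ax₁.central ha).mul_right (D.comm D.ax₁.vS hb)

theorem v₂_central (D : Pair P S₁ S₂ C₁ C₂ v₁ v₂) : ∀ z ∈ (P : Subgroup G), Commute v₂ z :=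
  D.symm.v₁_central

theorem v₁₂_central (D : Pair P S₁ S₂ C₁ C₂ v₁ v₂) : ∀ z ∈ (P : Subgroup G), Commute (v₁ * v₂) z :=
  fun z hz => (D.v₁_central z hz).mul_left (D.v₂_central z hz)

theorem invol_split (D : Pair P S₁ S₂ C₁ C₂ v₁ v₂) {x : G} (hx : x ∈ (P : Subgroup G)) (h : x * x = 1) :
    ∃ a ∈ S₁, ∃ b ∈ S₂, a * b = x ∧ a * a = 1 ∧ b * b = 1 := by
  obtain ⟨a, ha, b, hb, rfl⟩ := D.split hx
  rw [D.mul_mul ha hb] at h
  exact ⟨a, ha, b, hb, rfl, D.split_eq_one (mul_mem ha ha) (mul_mem hb hb) h⟩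

/-- A square which is an involution is one of the central involutions. -/
theorem sq_cases (D : Pair P S₁ S₂ C₁ C₂ v₁ v₂) {y : G} (hy : y ∈ (P : Subgroup G))
    (h : orderOf (y * y) = 2) : y * y = v₁ ∨ y * y = v₂ ∨ y * y = v₁ * v₂ := by
  obtain ⟨a, ha, b, hb, rfl⟩ := D.split hy
  have h2 := mul_self_of_two h
  rw [D.mul_mul ha hb] at h h2 ⊢
  rw [D.mul_mul (mul_mem ha ha) (mul_mem hb hb)] at h2
  obtain ⟨e1, e2⟩ := D.split_eq_one (mul_mem (mul_mem ha ha) (mul_mem ha ha))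
    (mul_mem (mul_mem hb hb) (mul_mem hb hb)) h2
  rcases D.ax₁.invol (D.ax₁.sq_mem ha) e1 with h1 | h1 <;>
    rcases D.ax₂.invol (D.ax₂.sq_mem hb) e2 with h3 | h3 <;> rw [h1, h3] at h ⊢
  · simp at h
  · exact Or.inr (Or.inl (one_mul _))
  · exact Or.inl (mul_one _)
  · exact Or.inr (Or.inr rfl)

theorem zpowers_normal (D : Pair P S₁ S₂ C₁ C₂ v₁ v₂) {c : G} (hc : c ∈ C₂) :
    ∀ z ∈ (P : Subgroup G), z * c * z⁻¹ ∈ Subgroup.zpowers c := by
  intro z hz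
  obtain ⟨a, ha, b, hb, rfl⟩ := D.split hz
  have e : b * c * b⁻¹ ∈ Subgroup.zpowers c := by
    by_cases hbC : b ∈ C₂
    · rw [(D.ax₂.comm_C hbC hc).eq, mul_inv_cancel_right]; exact Subgroup.mem_zpowers c
    · rw [D.ax₂.conj_inv hb hbC hc]; exact inv_mem (Subgroup.mem_zpowers c)
  rw [show a * b * c * (a * b)⁻¹ = a * (b * c * b⁻¹) * a⁻¹ by group,
    (D.comm ha (mul_mem (mul_mem hb (D.ax₂.le hc)) (inv_mem hb))).eq, mul_inv_cancel_right]
  exact e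

/-- The factor is strongly closed if this holds for involutions. -/
theorem closed_of_invol (D : Pair P S₁ S₂ C₁ C₂ v₁ v₂)
    (h : ∀ x ∈ (P : Subgroup G), orderOf x = 2 → InR S₂ x → x ∈ S₂) :
    IsStronglyClosed S₂ (P : Subgroup G) := by
  haveI : Fact (Nat.Prime 2) := ⟨Nat.prime_two⟩
  have key : ∀ a ∈ S₁, ∀ b ∈ S₂, a * a = 1 → ∀ c ∈ C₂, 2 < orderOf c → IsConj (a * b) c → a = 1 := by
    intro a ha b hb ha2 c hc hco hconj
    have ho : 2 < orderOf (a * b) := by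
      obtain ⟨g, hg⟩ := isConj_iff.1 hconj
      rwa [← hg, BrauerSuzuki.orderOf_conj_eq] at hco
    have hbb : b * b ≠ 1 := fun e => by
      have h2 : (a * b) ^ 2 = 1 := by rw [pow_two, D.mul_mul ha hb, ha2, e, one_mul]
      have := Nat.le_of_dvd two_pos (orderOf_dvd_of_pow_eq_one h2)
      omega
    have hbC : b ∈ C₂ := by
      by_contra hh; exact hbb (D.ax₂.out_sq b hb hh)
    obtain ⟨t, ht, htC⟩ := D.ax₂.out
    obtain ⟨k, i, hk, hkP⟩ := moveN (D.zpowers_normal hc) hconj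
    have hci : c ^ i * c ^ i ≠ 1 := fun e => by
      have h2 : (c ^ i) ^ 2 = 1 := by rw [pow_two, e]
      rw [← hk, conj_pow, conj_eq_one_iff, ← orderOf_dvd_iff_pow_eq_one] at h2
      have := Nat.le_of_dvd two_pos h2
      omega
    have hinv : t * (a * b) * t⁻¹ = (a * b)⁻¹ := by
      rw [show t * (a * b) * t⁻¹ = t * a * (b * t⁻¹) by group, (D.comm ha ht).symm.eq,
        show a * t * (b * t⁻¹) = a * (t * b * t⁻¹) by group, D.ax₂.conj_inv ht htC hbC, mul_inv_rev,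
        inv_eq_of_mul_eq_one_right ha2]
      exact (D.comm ha (inv_mem hb)).eq
    have htP := hkP t (D.le₂ ht) (hinv ▸ inv_mem (Subgroup.mem_zpowers _))
    have ht2 : orderOf t = 2 := orderOf_two (D.ax₂.out_sq t ht htC) (D.ax₂.out_ne htC)
    have ht' := h _ htP ((BrauerSuzuki.orderOf_conj_eq k t).trans ht2) ((InR.of_mem ht).conj k)
    have hinv' : k * t * k⁻¹ * c ^ i * (k * t * k⁻¹)⁻¹ = (c ^ i)⁻¹ := by
      rw [← hk, show k * t * k⁻¹ * (k * (a * b) * k⁻¹) * (k * t * k⁻¹)⁻¹ = k * (t * (a * b) * t⁻¹) * k⁻¹ by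
        group, hinv, conj_inv]
    have ht'C : k * t * k⁻¹ ∉ C₂ := fun hh => hci (by
      rw [(D.ax₂.comm_C hh (zpow_mem hc i)).eq, mul_inv_cancel_right] at hinv'
      exact mul_eq_one_iff_eq_inv.2 hinv')
    have hprod : k * (a * b * t) * k⁻¹ ∈ S₂ := by
      rw [show k * (a * b * t) * k⁻¹ = k * (a * b) * k⁻¹ * (k * t * k⁻¹) by group, hk]
      exact mul_mem (D.ax₂.le (zpow_mem hc i)) ht'
    have hbt : b * t ∈ S₂ := mul_mem hb ht
    have hbtC : b * t ∉ C₂ := fun hh => htC ((C₂.mul_mem_cancel_left hbC).1 hh)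
    have h2' : orderOf (a * (b * t)) = 2 := by
      refine orderOf_two ?_ fun e => D.ax₂.out_ne hbtC (D.split_eq_one ha hbt e).2
      rw [D.mul_mul ha hbt, ha2, D.ax₂.out_sq _ hbt hbtC, one_mul]
    have hin : a * (b * t) ∈ S₂ :=
      h _ (D.mem_P ha hbt) h2' ⟨k, by rwa [← mul_assoc a b t]⟩
    exact (D.mem₂_iff ha hbt).1 hin
  refine ⟨D.le₂, fun x hx g hg => ?_⟩
  obtain ⟨a, ha, b, hb, e⟩ := D.split hg
  rw [← e]
  refine (D.mem₂_iff ha hb).2 ?_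
  by_cases ha1 : a = 1
  · exact ha1
  exfalso
  obtain ⟨j, hj⟩ := two_elt_of_mem P.2 (D.le₁ ha)
  obtain ⟨j, rfl⟩ := Nat.exists_eq_add_one_of_ne_zero
    (fun h0 : j = 0 => ha1 (orderOf_eq_one_iff.1 (by rw [hj, h0, pow_zero])))
  have ham : orderOf (a ^ 2 ^ j) = 2 := by
    rw [orderOf_pow_of_dvd (pow_ne_zero _ two_ne_zero) (hj ▸ pow_dvd_pow 2 (by omega)), hj, pow_succ,
      Nat.mul_div_cancel_left _ (by positivity)]
  have ham1 : a ^ 2 ^ j ≠ 1 := fun e1 => by rw [e1, orderOf_one] at ham; omega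
  obtain ⟨m, hm⟩ : ∃ m, m = 2 ^ j := ⟨_, rfl⟩
  have hpow : g * x ^ m * g⁻¹ = a ^ m * b ^ m := by rw [← conj_pow, ← e, D.mul_pow ha hb]
  have hxm : x ^ m ∈ S₂ := pow_mem hx m
  obtain ⟨i, hi⟩ := two_elt_of_mem P.2 (D.le₂ hxm)
  match i, hi with
  | 0, hi =>
    rw [orderOf_eq_one_iff.1 (hi.trans (pow_zero 2)), mul_one, mul_inv_cancel] at hpow
    exact ham1 (hm ▸ (D.split_eq_one (pow_mem ha m) (pow_mem hb m) hpow.symm).1)
  | 1, hi =>
    have hin := h _ (hpow ▸ D.mem_P (pow_mem ha m) (pow_mem hb m))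
      ((BrauerSuzuki.orderOf_conj_eq g _).trans (hi.trans (pow_one 2))) ((InR.of_mem hxm).conj g)
    rw [hpow] at hin
    exact ham1 (hm ▸ (D.mem₂_iff (pow_mem ha m) (pow_mem hb m)).1 hin)
  | i + 2, hi =>
    have hgt : 2 < orderOf (x ^ m) := by
      rw [hi, pow_add]
      have := Nat.one_le_two_pow (n := i)
      omega
    have hxC : x ^ m ∈ C₂ := by
      by_contra hh
      have h2 := orderOf_dvd_of_pow_eq_one (x := x ^ m) (n := 2) (by rw [pow_two]; exact D.ax₂.out_sq _ hxm hh)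
      have := Nat.le_of_dvd two_pos h2
      omega
    refine ham1 (hm ▸ key _ (pow_mem ha m) _ (pow_mem hb m) (hm ▸ mul_self_of_two ham) _ hxC hgt ?_)
    exact (isConj_iff.2 ⟨g, hpow⟩).symm

/-- A root is moved to a root of the same central involution, when those are not fused. -/
theorem fix_of_root (D : Pair P S₁ S₂ C₁ C₂ v₁ v₂) (hn₁ : ¬ IsConj v₂ v₁) (hn₂ : ¬ IsConj v₂ (v₁ * v₂))
    {r k : G} (hr2 : r * r = v₂) (hk : k * r * k⁻¹ ∈ (P : Subgroup G)) : k * v₂ * k⁻¹ = v₂ := by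
  have e : k * r * k⁻¹ * (k * r * k⁻¹) = k * v₂ * k⁻¹ := by rw [conj_mul, hr2]
  rcases D.sq_cases hk (by rw [e, BrauerSuzuki.orderOf_conj_eq]; exact D.ax₂.v2) with h | h | h <;> rw [e] at h
  · exact absurd (isConj_iff.2 ⟨k, h⟩) hn₁
  · exact h
  · exact absurd (isConj_iff.2 ⟨k, h⟩) hn₂

end Pair

end Cfsg.Agent.ProdFusion
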