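import Cfsg.Agent.Lib.ProdFusion.Transfer

/-!
One dihedral factor of order four and one of order at least eight: the normaliser moves the centre.
-/

set_option autoImplicit false
set_option linter.unusedSectionVars false
set_option linter.style.haveILetI false

namespace Cfsg.Agent.ProdFusion

open Cfsg Cfsg.Agent.SylowSplit

universe u

variable {G : Type u} [Group G] [Finite G] {P : Sylow 2 G} {S₁ S₂ C₁ C₂ : Subgroup G} {v₁ v₂ : G}

/-- The first factor has exponent two, the second has order at least eight. -/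
structure Small (P : Sylow 2 G) (S₁ S₂ C₁ C₂ : Subgroup G) (v₁ v₂ : G) : Prop where
  pair : Pair P S₁ S₂ C₁ C₂ v₁ v₂
  sq₁ : ∀ a ∈ S₁, a * a = 1
  root₂ : ∃ r ∈ C₂, r * r = v₂

/-- A nontrivial element of the four-group is determined by two others. -/
theorem Axis.four {S C : Subgroup G} {v : G} (A : Axis S C v) (hsq : ∀ a ∈ S, a * a = 1) {a b c : G}
    (ha : a ∈ S) (hb : b ∈ S) (hc : c ∈ S) (ha1 : a ≠ 1) (hb1 : b ≠ 1) (hab : a ≠ b) :
    c = 1 ∨ c = a ∨ c = b ∨ c = a * b := by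
  obtain ⟨s, hs, hsC⟩ := A.out
  have hcomm : ∀ x ∈ S, ∀ y ∈ S, x * y = y * x := fun x hx y hy => by
    calc x * y = y * y * (x * y) * (x * y * (x * y)) * (x * x) := by
          rw [hsq y hy, hsq x hx, hsq _ (mul_mem hx hy)]; group
      _ = y * (y * (x * y * (x * y)) * (x * y) * x) * x := by rw [hsq _ (mul_mem hx hy)]; group
      _ = y * x := by
          rw [hsq _ (mul_mem hx hy), mul_one, show y * (x * y) * x = y * x * (y * x) by group,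
            hsq _ (mul_mem hy hx), mul_one]
  have hCeq : ∀ x ∈ C, x = 1 ∨ x = v := fun x hx => A.invol hx (hsq x (A.le hx))
  have hmem : ∀ x ∈ S, x = 1 ∨ x = v ∨ x = s ∨ x = v * s := fun x hx => by
    by_cases hxC : x ∈ C
    · exact (hCeq x hxC).imp_right Or.inl
    · have h1 := A.out_mul x hx hxC s hs hsC
      have e : x = x * s * s := by rw [mul_assoc, hsq s hs, mul_one]
      rcases hCeq _ h1 with h | h <;> rw [h] at e
      · exact Or.inr (Or.inr (Or.inl (by rwa [one_mul] at e)))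
      · exact Or.inr (Or.inr (Or.inr e))
  have hvs : v * s = s * v := hcomm v A.vS s hs
  have hv := mul_self_of_two A.v2
  have hs2 := hsq s hs
  have k1 : v * (v * s) = s := by rw [← mul_assoc, hv, one_mul]
  have k2 : s * (v * s) = v := by rw [← mul_assoc, ← hvs, mul_assoc, hs2, mul_one]
  have k3 : v * s * v = s := by rw [hvs, mul_assoc, hv, mul_one]
  have k4 : v * s * s = v := by rw [mul_assoc, hs2, mul_one]
  rcases hmem a ha with rfl | rfl | rfl | rfl <;> rcases hmem b hb with rfl | rfl | rfl | rfl <;>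
    rcases hmem c hc with rfl | rfl | rfl | rfl <;>
    first
      | exact absurd rfl ha1
      | exact absurd rfl hb1
      | exact absurd rfl hab
      | exact Or.inl rfl
      | exact Or.inr (Or.inl rfl)
      | exact Or.inr (Or.inr (Or.inl rfl))
      | exact Or.inr (Or.inr (Or.inr (by first | rfl | simp [hvs.symm, k1, k2, k3, k4, hv, hs2])))

namespace Small

theorem comm₁ (E : Small P S₁ S₂ C₁ C₂ v₁ v₂) {a : G} (ha : a ∈ S₁) :
    ∀ z ∈ (P : Subgroup G), Commute a z := by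
  intro z hz
  obtain ⟨a', ha', b, hb, rfl⟩ := E.pair.split hz
  refine Commute.mul_right ?_ (E.pair.comm ha hb)
  have h1 := E.sq₁ _ (mul_mem ha ha')
  show a * a' = a' * a
  rw [eq_inv_of_mul_eq_one_left h1, mul_inv_rev, inv_eq_of_mul_eq_one_right (E.sq₁ a ha),
    inv_eq_of_mul_eq_one_right (E.sq₁ a' ha')]

theorem central (E : Small P S₁ S₂ C₁ C₂ v₁ v₂) {a e : G} (ha : a ∈ S₁) (he : e = 1 ∨ e = v₂) :
    ∀ z ∈ (P : Subgroup G), Commute (a * e) z := fun z hz => (E.comm₁ ha z hz).mul_left (by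
  rcases he with rfl | rfl
  · exact Commute.one_left z
  · exact E.pair.v₂_central z hz)

theorem sq_eq (E : Small P S₁ S₂ C₁ C₂ v₁ v₂) {y : G} (hy : y ∈ (P : Subgroup G))
    (h : orderOf (y * y) = 2) : y * y = v₂ := by
  obtain ⟨a, ha, b, hb, rfl⟩ := E.pair.split hy
  have h2 := mul_self_of_two h
  rw [E.pair.mul_mul ha hb, E.sq₁ a ha, one_mul] at h h2 ⊢
  rcases E.pair.ax₂.invol (E.pair.ax₂.sq_mem hb) h2 with e | e
  · rw [e, orderOf_one] at h; omega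
  · exact e

/-- The central involution of the second factor is fixed. -/
theorem fix_v₂ (E : Small P S₁ S₂ C₁ C₂ v₁ v₂) {k : G}
    (hk : ∀ r ∈ C₂, r * r = v₂ → k * r * k⁻¹ ∈ (P : Subgroup G)) : k * v₂ * k⁻¹ = v₂ := by
  obtain ⟨r, hr, hr2⟩ := E.root₂
  have e : k * r * k⁻¹ * (k * r * k⁻¹) = k * v₂ * k⁻¹ := by rw [conj_mul, hr2]
  rw [← e]
  exact E.sq_eq (hk r hr hr2) (by rw [e, BrauerSuzuki.orderOf_conj_eq]; exact E.pair.ax₂.v2)

theorem normalizer_fix (E : Small P S₁ S₂ C₁ C₂ v₁ v₂) {n : G}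
    (hn : n ∈ Subgroup.normalizer ((P : Subgroup G) : Set G)) : n * v₂ * n⁻¹ = v₂ :=
  E.fix_v₂ fun r hr _ => (Subgroup.mem_normalizer_iff.1 hn r).1 (E.pair.le₂ (E.pair.ax₂.le hr))

theorem v₂_ne (E : Small P S₁ S₂ C₁ C₂ v₁ v₂) {x : G} (hx : ∀ z ∈ (P : Subgroup G), Commute x z)
    (h : IsConj v₂ x) : x = v₂ := by
  obtain ⟨n, hn, e⟩ := central_conj E.pair.v₂_central hx h
  rw [← e, E.normalizer_fix hn]

/-- A root flips a reflection by the central involution. -/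
theorem flip (E : Small P S₁ S₂ C₁ C₂ v₁ v₂) {a t : G} (ha : a ∈ S₁) (ht : t ∈ S₂) (htC : t ∉ C₂) :
    IsConj (a * t) (a * t * v₂) := by
  obtain ⟨r, hr, hr2⟩ := E.root₂
  refine isConj_iff.2 ⟨r, ?_⟩
  rw [← conj_mul, E.pair.ax₂.root_conj ht htC hr hr2, ← (E.pair.comm ha (E.pair.ax₂.le hr)).eq,
    mul_inv_cancel_right, mul_assoc]

theorem eq_central (E : Small P S₁ S₂ C₁ C₂ v₁ v₂) {x : G} (hx : x ∈ (P : Subgroup G)) (h : x * x = 1) :
    (∃ a ∈ S₁, ∃ e, (e = 1 ∨ e = v₂) ∧ a * e = x) ∨ ∃ a ∈ S₁, ∃ t ∈ S₂, t ∉ C₂ ∧ a * t = x := by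
  obtain ⟨a, ha, b, hb, e, -, hb2⟩ := E.pair.invol_split hx h
  rcases E.pair.ax₂.invol' hb hb2 with h | h | h
  · exact Or.inl ⟨a, ha, b, Or.inl h, e⟩
  · exact Or.inl ⟨a, ha, b, Or.inr h, e⟩
  · exact Or.inr ⟨a, ha, b, hb, h, e⟩

/-- Every noncentral involution is fused to a central one. -/
theorem lift_central (E : Small P S₁ S₂ C₁ C₂ v₁ v₂) (hM : ∀ N : Subgroup G, N.Normal → N.index ≠ 2)
    {a t : G} (ha : a ∈ S₁) (ht : t ∈ S₂) (htC : t ∉ C₂) :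
    ∃ ζ ∈ (P : Subgroup G), (∀ z ∈ (P : Subgroup G), Commute ζ z) ∧ orderOf ζ = 2 ∧ IsConj (a * t) ζ := by
  have D := E.pair
  have hx2 : orderOf (a * t) = 2 := orderOf_two (by rw [D.mul_mul ha ht, E.sq₁ a ha, one_mul, D.ax₂.out_sq t ht htC])
    fun e => D.ax₂.out_ne htC (D.split_eq_one ha ht e).2
  obtain ⟨y, hyQ, hy2, hty⟩ := transfer_out hM (Q := S₁ ⊔ C₂) (sup_le D.le₁ (D.ax₂.le.trans D.le₂))
    (D.mem_P ha ht) hx2 (fun h => htC ((D.mem_sup le_rfl D.ax₂.le ha ht).1 h).2) fun x hx => by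
      obtain ⟨a', ha', b, hb, rfl⟩ := D.split hx
      by_cases hbC : b ∈ C₂
      · exact Or.inl ((D.mem_sup le_rfl D.ax₂.le ha' hb).2 ⟨ha', hbC⟩)
      · refine Or.inr ?_
        rw [D.mul_mul ha hb]
        exact (D.mem_sup le_rfl D.ax₂.le (mul_mem ha' ha) (mul_mem hb ht)).2
          ⟨mul_mem ha' ha, D.ax₂.out_mul b hb hbC t ht htC⟩
  have hyP : y ∈ (P : Subgroup G) := sup_le D.le₁ (D.ax₂.le.trans D.le₂) hyQ
  refine ⟨y, hyP, ?_, hy2, hty⟩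
  rcases E.eq_central hyP (mul_self_of_two hy2) with ⟨a', ha', e, he, rfl⟩ | ⟨a', ha', b, hb, hbC, rfl⟩
  · exact E.central ha' he
  · exact absurd ((D.mem_sup le_rfl D.ax₂.le ha' hb).1 hyQ).2 hbC

/-- If the normaliser fixes all central involutions, the class of one of them picks one lift in each class
of reflections. -/
theorem lift_unique (E : Small P S₁ S₂ C₁ C₂ v₁ v₂)
    (hN : ∀ x y : G, x ∈ (P : Subgroup G) → (∀ z ∈ (P : Subgroup G), Commute x z) →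
      (∀ z ∈ (P : Subgroup G), Commute y z) → IsConj x y → x = y)
    {a a' t ζ : G} (ha : a ∈ S₁) (ha' : a' ∈ S₁) (ht : t ∈ S₂) (htC : t ∉ C₂) (hζP : ζ ∈ (P : Subgroup G))
    (hζ : ∀ z ∈ (P : Subgroup G), Commute ζ z) (h : IsConj (a * t) ζ) (h' : IsConj (a' * t) ζ) : a = a' := by
  have D := E.pair
  by_contra hne
  obtain ⟨k, hk, hkP⟩ := move hζ h
  obtain ⟨d, hd⟩ : ∃ d, d = a' * a := ⟨_, rfl⟩
  have hdS : d ∈ S₁ := hd ▸ mul_mem ha' ha
  have hd1 : d ≠ 1 := fun e => hne (by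
    rw [hd] at e
    rw [eq_inv_of_mul_eq_one_left e, inv_eq_of_mul_eq_one_right (E.sq₁ a ha)])
  have hX' : a' * t = d * (a * t) := by rw [hd, mul_assoc a', ← mul_assoc a a, E.sq₁ a ha, one_mul]
  have hvX : Commute v₂ (a * t) := D.v₂_central _ (D.mem_P ha ht)
  have hw := hkP v₂ (D.le₂ D.ax₂.vS) hvX
  have hkd := hkP d (D.le₁ hdS) (E.comm₁ hdS _ (D.mem_P ha ht))
  have hcom : Commute (k * v₂ * k⁻¹) (k * d * k⁻¹) := (D.v₂_central d (D.le₁ hdS)).map (MulAut.conj k).toMonoidHom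
  have hw2 : k * v₂ * k⁻¹ * (k * v₂ * k⁻¹) = 1 := by
    rw [conj_mul, mul_self_of_two D.ax₂.v2, mul_one, mul_inv_cancel]
  have hkd2 : k * d * k⁻¹ * (k * d * k⁻¹) = 1 := by rw [conj_mul, E.sq₁ d hdS, mul_one, mul_inv_cancel]
  rcases E.eq_central hw hw2 with ⟨α, hα, e, he, eq⟩ | ⟨α, hα, β, hβ, hβC, eq⟩
  · have e1 : k * v₂ * k⁻¹ = v₂ := E.v₂_ne (eq ▸ E.central hα he) (isConj_iff.2 ⟨k, rfl⟩)
    refine D.ax₂.v_ne ?_
    have h1 : IsConj ζ (ζ * v₂) := h.symm.trans ((E.flip ha ht htC).trans (isConj_iff.2 ⟨k, by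
      rw [← conj_mul, hk, e1]⟩))
    have := hN ζ (ζ * v₂) hζP hζ (fun z hz => (hζ z hz).mul_left (D.v₂_central z hz)) h1
    simpa using this
  · rcases E.eq_central hkd hkd2 with ⟨δ, hδ, e, he, eq'⟩ | ⟨δ, hδ, β', hβ', hβ'C, eq'⟩
    · have e1 : d = k * d * k⁻¹ := hN d _ (D.le₁ hdS) (E.comm₁ hdS) (eq' ▸ E.central hδ he) (isConj_iff.2 ⟨k, rfl⟩)
      refine hd1 ?_
      have h1 : IsConj ζ (d * ζ) := h'.symm.trans (isConj_iff.2 ⟨k, by rw [hX', ← conj_mul, hk, ← e1]⟩)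
      have := hN ζ (d * ζ) hζP hζ (fun z hz => (E.comm₁ hdS z hz).mul_left (hζ z hz)) h1
      simpa using this
    · have hbb : Commute β β' := by
        rw [← eq, ← eq'] at hcom
        exact ((D.commute_iff hα hδ hβ hβ').1 hcom).2
      have hmm : β * β' = 1 ∨ β * β' = v₂ := by
        refine D.ax₂.invol (D.ax₂.out_mul β hβ hβC β' hβ' hβ'C) ?_
        rw [hbb.symm.mul_mul_mul_comm, D.ax₂.out_sq β hβ hβC, D.ax₂.out_sq β' hβ' hβ'C, one_mul]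
      have hprod : k * (v₂ * d) * k⁻¹ = (α * δ) * (β * β') := by rw [← conj_mul, ← eq, ← eq', D.mul_mul hδ hβ]
      have hvd : ∀ z ∈ (P : Subgroup G), Commute (v₂ * d) z :=
        fun z hz => (D.v₂_central z hz).mul_left (E.comm₁ hdS z hz)
      have e1 : v₂ * d = k * (v₂ * d) * k⁻¹ :=
        hN _ _ (mul_mem (D.le₂ D.ax₂.vS) (D.le₁ hdS)) hvd
          (hprod ▸ E.central (mul_mem hα hδ) hmm) (isConj_iff.2 ⟨k, rfl⟩)
      have h1 : IsConj ζ (ζ * (v₂ * d)) := h'.symm.trans ((E.flip ha' ht htC).trans (isConj_iff.2 ⟨k, by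
        rw [e1, ← hk, conj_mul, hX']
        congr 1
        rw [show d * (a * t) * v₂ = a * t * (v₂ * d) by
          rw [← (E.comm₁ hdS v₂ (D.le₂ D.ax₂.vS)).eq, (E.comm₁ hdS _ (D.mem_P ha ht)).eq, mul_assoc (a * t)]]⟩))
      have := hN ζ _ hζP hζ (fun z hz => (hζ z hz).mul_left (hvd z hz)) h1
      have e2 : v₂ * d = 1 := by simpa using this
      rw [(D.v₂_central d (D.le₁ hdS)).eq] at e2
      exact hd1 (D.split_eq_one hdS D.ax₂.vS e2).1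

/-- The normaliser moves some central involution. -/
theorem exists_moved (E : Small P S₁ S₂ C₁ C₂ v₁ v₂) (hM : ∀ N : Subgroup G, N.Normal → N.index ≠ 2) :
    ∃ x y : G, x ∈ (P : Subgroup G) ∧ (∀ z ∈ (P : Subgroup G), Commute x z) ∧
      (∀ z ∈ (P : Subgroup G), Commute y z) ∧ IsConj x y ∧ x ≠ y := by
  classical
  have D := E.pair
  by_contra hno
  have hN : ∀ x y : G, x ∈ (P : Subgroup G) → (∀ z ∈ (P : Subgroup G), Commute x z) →
      (∀ z ∈ (P : Subgroup G), Commute y z) → IsConj x y → x = y := fun x y h1 h2 h3 h4 =>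
    Classical.byContradiction fun h => hno ⟨x, y, h1, h2, h3, h4, h⟩
  obtain ⟨p, hp, hpC⟩ := D.ax₁.out
  obtain ⟨s, hs, hsC⟩ := D.ax₂.out
  obtain ⟨c₁, hc₁, hgen₁⟩ := D.ax₁.exists_gen
  obtain ⟨c, hc, hgen⟩ := D.ax₂.exists_gen
  have hc₁v : c₁ = v₁ := (D.ax₁.invol hc₁ (E.sq₁ c₁ (D.ax₁.le hc₁))).resolve_left fun e => by
    obtain ⟨i, hi⟩ := hgen₁ v₁ D.ax₁.vC
    rw [e, one_zpow] at hi
    exact D.ax₁.v_ne hi
  obtain ⟨f₁, hf1, hf2, -⟩ := D.ax₁.exists_char hp hpC hc₁ hgen₁ (1 : ℤˣ) (-1) (one_mul 1) (by decide)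
  have hfv : f₁ ⟨v₁, D.ax₁.vS⟩ = -1 := by
    rw [show (⟨v₁, D.ax₁.vS⟩ : S₁) = ⟨p, hp⟩ * ⟨p * c₁, mul_mem hp (D.ax₁.le hc₁)⟩ from Subtype.ext (by
      show v₁ = p * (p * c₁)
      rw [← mul_assoc, E.sq₁ p hp, one_mul, hc₁v]), map_mul, hf1, hf2, one_mul]
  -- choose the values on the two classes
  have pick : ∀ t ∈ S₂, t ∉ C₂ → ∃ ε : ℤˣ, ∀ a (ha : a ∈ S₁), IsConj (a * t) v₁ → f₁ ⟨a, ha⟩ * ε = -1 := by
    intro t ht htC
    by_cases h : ∃ a, a ∈ S₁ ∧ IsConj (a * t) v₁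
    · obtain ⟨a, ha, h⟩ := h
      refine ⟨-(f₁ ⟨a, ha⟩), fun a' ha' h' => ?_⟩
      obtain rfl := E.lift_unique hN ha' ha ht htC (D.le₁ D.ax₁.vS) D.v₁_central h' h
      rw [mul_neg, Int.units_mul_self]
    · exact ⟨1, fun a ha h' => absurd ⟨a, ha, h'⟩ h⟩
  have hsc : s * c ∉ C₂ := fun h => hsC ((C₂.mul_mem_cancel_right hc).1 h)
  obtain ⟨ε₁, hε₁⟩ := pick s hs hsC
  obtain ⟨ε₂, hε₂⟩ := pick _ (mul_mem hs (D.ax₂.le hc)) hsc
  obtain ⟨f₂, hg1, hg2, -⟩ := D.ax₂.exists_char hs hsC hc hgen ε₁ ε₂ (Int.units_mul_self _) (Int.units_mul_self _)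
  obtain ⟨Q, hQ⟩ : ∃ Q : Subgroup G, ∀ x, x ∈ Q ↔
      ∃ a : S₁, ∃ b : S₂, (a : G) * b = x ∧ f₁ a * f₂ b = 1 := by
    refine ⟨{ carrier := {x | ∃ a : S₁, ∃ b : S₂, (a : G) * b = x ∧ f₁ a * f₂ b = 1}
              one_mem' := ⟨1, 1, by simp, by simp⟩
              mul_mem' := ?_
              inv_mem' := ?_ }, fun x => Iff.rfl⟩
    · rintro _ _ ⟨a, b, rfl, h⟩ ⟨a', b', rfl, h'⟩
      exact ⟨a * a', b * b', by rw [Subgroup.coe_mul, Subgroup.coe_mul]; exact (D.mul_mul a'.2 b.2).symm,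
        by rw [map_mul, map_mul, mul_mul_mul_comm, h, h', one_mul]⟩
    · rintro _ ⟨a, b, rfl, h⟩
      exact ⟨a⁻¹, b⁻¹, by
        rw [Subgroup.coe_inv, Subgroup.coe_inv, mul_inv_rev]; exact (D.comm (inv_mem a.2) (inv_mem b.2)).eq,
        by rw [map_inv, map_inv, ← mul_inv, h, inv_one]⟩
  have hval : ∀ (a : G) (ha : a ∈ S₁) (b : G) (hb : b ∈ S₂), a * b ∈ Q ↔ f₁ ⟨a, ha⟩ * f₂ ⟨b, hb⟩ = 1 := by
    intro a ha b hb
    rw [hQ]
    refine ⟨fun ⟨a', b', e, h⟩ => ?_, fun h => ⟨⟨a, ha⟩, ⟨b, hb⟩, rfl, h⟩⟩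
    obtain ⟨e1, e2⟩ := D.split_eq a'.2 ha b'.2 hb e
    rw [show (⟨a, ha⟩ : S₁) = a' from Subtype.ext e1.symm, show (⟨b, hb⟩ : S₂) = b' from Subtype.ext e2.symm]
    exact h
  have hvQ : v₁ ∉ Q := fun h => by
    rw [← mul_one v₁, hval v₁ D.ax₁.vS 1 (one_mem _), hfv, show (⟨1, one_mem _⟩ : S₂) = 1 from rfl, map_one,
      mul_one] at h
    exact absurd h (by decide)
  have hQP : Q ≤ (P : Subgroup G) := fun x hx => by
    obtain ⟨a, b, rfl, -⟩ := (hQ x).1 hx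
    exact D.mem_P a.2 b.2
  obtain ⟨y, hyQ, hy2, hvy⟩ := transfer_out hM hQP (D.le₁ D.ax₁.vS) D.ax₁.v2 hvQ fun x hx => by
    obtain ⟨a, ha, b, hb, rfl⟩ := D.split hx
    rw [mul_assoc, (D.comm D.ax₁.vS hb).eq.symm, ← mul_assoc, hval a ha b hb,
      hval _ (mul_mem ha D.ax₁.vS) b hb,
      show (⟨a * v₁, mul_mem ha D.ax₁.vS⟩ : S₁) = ⟨a, ha⟩ * ⟨v₁, D.ax₁.vS⟩ from rfl, map_mul, hfv]
    rcases Int.units_eq_one_or (f₁ ⟨a, ha⟩ * f₂ ⟨b, hb⟩) with h | h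
    · exact Or.inl h
    · exact Or.inr (by rw [mul_right_comm, h]; decide)
  rcases E.eq_central (hQP hyQ) (mul_self_of_two hy2) with ⟨a, ha, e, he, eq⟩ | ⟨a, ha, t, ht, htC, eq⟩
  · exact hvQ (by rwa [← hN v₁ y (D.le₁ D.ax₁.vS) D.v₁_central (eq ▸ E.central ha he) hvy] at hyQ)
  · rw [← eq, hval a ha t ht] at hyQ
    obtain ⟨q, hq, h | h⟩ := D.ax₂.two_classes hs hsC hc hgen ht htC
    · have e : f₂ ⟨t, ht⟩ = ε₁ := by
        rw [show (⟨t, ht⟩ : S₂) = ⟨q, hq⟩ * ⟨s, hs⟩ * ⟨q, hq⟩⁻¹ from Subtype.ext h.symm, map_mul, map_mul, map_inv,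
          mul_comm (f₂ ⟨q, hq⟩), mul_inv_cancel_right, hg1]
      have hc' : IsConj (a * s) v₁ := by
        refine IsConj.trans (isConj_iff.2 ⟨q, ?_⟩) (eq ▸ hvy.symm)
        rw [← conj_mul, (E.comm₁ ha q (D.le₂ hq)).symm.eq, mul_inv_cancel_right, h]
      rw [e, hε₁ a ha hc'] at hyQ
      exact absurd hyQ (by decide)
    · have e : f₂ ⟨t, ht⟩ = ε₂ := by
        rw [show (⟨t, ht⟩ : S₂) = ⟨q, hq⟩ * ⟨s * c, mul_mem hs (D.ax₂.le hc)⟩ * ⟨q, hq⟩⁻¹ from Subtype.ext h.symm,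
          map_mul, map_mul, map_inv, mul_comm (f₂ ⟨q, hq⟩), mul_inv_cancel_right, hg2]
      have hc' : IsConj (a * (s * c)) v₁ := by
        refine IsConj.trans (isConj_iff.2 ⟨q, ?_⟩) (eq ▸ hvy.symm)
        rw [← conj_mul, (E.comm₁ ha q (D.le₂ hq)).symm.eq, mul_inv_cancel_right, h]
      rw [e, hε₂ a ha hc'] at hyQ
      exact absurd hyQ (by decide)

end Small

end Cfsg.Agent.ProdFusion
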