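import Cfsg.Agent.Lib.ProdFusion.Count
import Cfsg.Agent.Lib.Char.Induction

/-!
The small virtual character vanishing on the second factor.
-/

set_option autoImplicit false
set_option linter.unusedSectionVars false
set_option linter.style.haveILetI false

namespace Cfsg.Agent.ProdFusion

open Cfsg Cfsg.Agent.SylowSplit Cfsg.Agent.Char
open scoped ComplexConjugate

universe u

variable {G : Type u} [Group G] [Finite G] {P : Sylow 2 G} {S₁ S₂ C : Subgroup G} {v : G}

/-- A faithful linear character of the cyclic part, with its orthogonality sums. -/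
theorem Axis.exists_lam (A : Axis S₁ C v) [Fintype C] : ∃ l : C →* ℂˣ, (l ⟨v, A.vC⟩ : ℂ) = -1 ∧
    (∑ u : C, (l u : ℂ) = 0) ∧ (∀ u : C, conj (l u : ℂ) = ((l u⁻¹ : ℂˣ) : ℂ)) ∧
      (∑ u : C, (l u : ℂ) ^ 2 = 0 ∨ ∑ u : C, (l u : ℂ) ^ 2 = Fintype.card C) := by
  haveI := A.cyc
  letI : CommGroup C := IsCyclic.commGroup
  have hv : (⟨v, A.vC⟩ : C) ≠ 1 := fun e => by
    have := congrArg Subtype.val e
    simp only [Subgroup.coe_one] at this
    have h2 := A.v2
    rw [this, orderOf_one] at h2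
    omega
  obtain ⟨l, hl⟩ := CommGroup.exists_apply_ne_one_of_hasEnoughRootsOfUnity C ℂ hv
  have hlv : (l ⟨v, A.vC⟩ : ℂ) = -1 := by
    have h : (l ⟨v, A.vC⟩ : ℂ) ^ 2 = 1 := by
      rw [pow_two, ← Units.val_mul, ← map_mul,
        show (⟨v, A.vC⟩ : C) * ⟨v, A.vC⟩ = 1 from Subtype.ext (mul_self_of_two A.v2), map_one, Units.val_one]
    exact (sq_eq_one_iff.1 h).resolve_left fun e => hl (Units.ext e)
  refine ⟨l, hlv, ?_, fun u => ?_, ?_⟩
  · exact sum_hom_units_eq_zero ((Units.coeHom ℂ).comp l) fun e => hl (Units.ext (DFunLike.congr_fun e _))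
  · rw [map_inv, Units.val_inv_eq_inv_val]
    refine (Complex.inv_eq_conj ?_).symm
    refine Complex.norm_eq_one_of_pow_eq_one (n := orderOf u) ?_ (orderOf_pos u).ne'
    rw [← Units.val_pow_eq_pow_val, ← map_pow, pow_orderOf_eq_one, map_one, Units.val_one]
  · by_cases h : (Units.coeHom ℂ).comp (l * l) = 1
    · refine Or.inr ?_
      have e : ∀ u : C, (l u : ℂ) ^ 2 = 1 := fun u => by
        rw [pow_two]; simpa using DFunLike.congr_fun h u
      simp [e]
    · refine Or.inl ?_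
      rw [← sum_hom_units_eq_zero _ h]
      exact Finset.sum_congr rfl fun u _ => by simp [pow_two]

open scoped Classical in
/-- The values on the dihedral factor. -/
noncomputable def fct (S₁ C : Subgroup G) (l : C →* ℂˣ) (u : S₁) : ℂ :=
  if h : (u : G) ∈ C then 2 - (l ⟨u, h⟩ : ℂ) - ((l ⟨u, h⟩)⁻¹ : ℂˣ) else 4

theorem fct_gen (A : Axis S₁ C v) (l : C →* ℂˣ) : IsGeneralizedCharacter S₁ (fct S₁ C l) := by
  classical
  haveI : Fintype S₁ := Fintype.ofFinite _
  haveI : Fintype C := Fintype.ofFinite _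
  -- the sign character
  let ε : S₁ →* ℂˣ := MonoidHom.mk' (fun u => if (u : G) ∈ C then 1 else -1) fun a b => by
    rw [Subgroup.coe_mul]
    by_cases ha : (a : G) ∈ C <;> by_cases hb : (b : G) ∈ C
    · simp [ha, hb, mul_mem ha hb]
    · simp [ha, hb, show (a : G) * b ∉ C from fun h => hb ((C.mul_mem_cancel_left ha).1 h)]
    · simp [ha, hb, show (a : G) * b ∉ C from fun h => ha ((C.mul_mem_cancel_right hb).1 h)]
    · simp [ha, hb, A.out_mul _ a.2 ha _ b.2 hb]
  let l' : C.subgroupOf S₁ →* ℂˣ :=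
    l.comp ((S₁.subtype.comp (C.subgroupOf S₁).subtype).codRestrict C fun x => x.2)
  obtain ⟨s, hs, hsC⟩ := A.out
  have h3 : IsGeneralizedCharacter S₁ (fun _ => (3 : ℂ)) := by
    have := IsGeneralizedCharacter.int_smul (IsGeneralizedCharacter.of_isCharacter
      (isCharacter_one (G := S₁))) 3
    convert this using 1
    funext u; simp
  have hgen := IsGeneralizedCharacter.sub (IsGeneralizedCharacter.sub h3
    (IsGeneralizedCharacter.of_isCharacter (IsIrrCharacter.isCharacter (isIrrCharacter_linear ε))))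
    (IsGeneralizedCharacter.of_isCharacter (isCharacter_indFun (C.subgroupOf S₁)
      (IsIrrCharacter.isCharacter (isIrrCharacter_linear l'))))
  convert hgen using 1
  funext u
  simp only [Pi.sub_apply]
  have hconjC : ∀ x : S₁, (((x⁻¹ * u * x : S₁)) : G) ∈ C ↔ (u : G) ∈ C := by
    intro x
    have key : ∀ (y : S₁) (w : G), w ∈ C → (y : G) * w * (y : G)⁻¹ ∈ C := fun y w hw => by
      by_cases hy : (y : G) ∈ C
      · exact mul_mem (mul_mem hy hw) (inv_mem hy)
      · rw [A.conj_inv y.2 hy hw]; exact inv_mem hw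
    constructor
    · intro h
      have := key x _ h
      simpa [mul_assoc] using this
    · intro h
      have := key x⁻¹ _ h
      simpa [mul_assoc] using this
  rw [indFun_apply]
  by_cases hu : (u : G) ∈ C
  · have hval : ∀ x : S₁, extendByZero (C.subgroupOf S₁) (fun g => (l' g : ℂ)) (x⁻¹ * u * x) =
        if (x : G) ∈ C then (l ⟨u, hu⟩ : ℂ) else ((l ⟨u, hu⟩)⁻¹ : ℂˣ) := by
      intro x
      rw [extendByZero_mem (C.subgroupOf S₁) _ ((hconjC x).2 hu)]
      show (l ⟨_, _⟩ : ℂ) = _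
      by_cases hx : (x : G) ∈ C
      · rw [if_pos hx]
        haveI := A.cyc
        letI : CommGroup C := IsCyclic.commGroup
        have hc := mul_comm (⟨_, hx⟩ : C) ⟨_, hu⟩
        congr 2
        refine Subtype.ext ?_
        show (x : G)⁻¹ * u * x = u
        have hxu : (x : G) * u = u * x := congrArg (fun z : C => (z : G)) hc
        rw [mul_assoc, ← hxu, inv_mul_cancel_left]
      · rw [if_neg hx, ← map_inv]
        congr 2
        refine Subtype.ext ?_
        show (x : G)⁻¹ * u * x = (u : G)⁻¹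
        have := A.conj_inv (inv_mem x.2) (fun h => hx (by simpa using inv_mem h)) hu
        rwa [inv_inv] at this
    have hcard : (Finset.univ.filter fun x : S₁ => (x : G) ∈ C).card = Nat.card (C.subgroupOf S₁) := by
      rw [← Nat.card_eq_finsetCard]
      exact Nat.card_congr (Equiv.subtypeEquivRight fun x => by simp [Subgroup.mem_subgroupOf])
    have hcard' : (Finset.univ.filter fun x : S₁ => ¬ (x : G) ∈ C).card =
        (Finset.univ.filter fun x : S₁ => (x : G) ∈ C).card := by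
      have hnm : ∀ {a b : S₁}, (a : G) ∉ C → (b : G) ∉ C → ((a * b : S₁) : G) ∈ C :=
        fun {a b} ha hb => A.out_mul _ a.2 ha _ b.2 hb
      refine Finset.card_bij (fun x _ => x * ⟨s, hs⟩) (fun x hx => ?_) (fun a _ b _ h => mul_right_cancel h)
        fun y hy => ?_
      · simp only [Finset.mem_filter, Finset.mem_univ, true_and] at hx ⊢
        exact hnm hx hsC
      · simp only [Finset.mem_filter, Finset.mem_univ, true_and] at hy
        refine ⟨y * ⟨s, hs⟩⁻¹, ?_, inv_mul_cancel_right _ _⟩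
        simp only [Finset.mem_filter, Finset.mem_univ, true_and, Subgroup.coe_mul, Subgroup.coe_inv]
        exact fun h => hsC (by simpa using inv_mem ((C.mul_mem_cancel_left hy).1 h))
    have hne : (Nat.card (C.subgroupOf S₁) : ℂ) ≠ 0 := Nat.cast_ne_zero.2 Nat.card_pos.ne'
    rw [fct, dif_pos hu, Finset.sum_congr rfl fun x _ => hval x, Finset.sum_ite, Finset.sum_const,
      Finset.sum_const, hcard', hcard, nsmul_eq_mul, nsmul_eq_mul, ← mul_add, inv_mul_cancel_left₀ hne]
    simp only [ε, MonoidHom.mk'_apply, hu, if_true, Units.val_one]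
    ring
  · rw [fct, dif_neg hu, Finset.sum_eq_zero fun x _ =>
      extendByZero_not_mem (C.subgroupOf S₁) _ fun h => hu ((hconjC x).1 h), mul_zero]
    simp only [ε, MonoidHom.mk'_apply, hu, if_false]
    norm_num

theorem OneClass.exists_theta [Fintype G] (E : OneClass P S₁ S₂ C v) :
    ∃ θ : G → ℂ, IsGeneralizedCharacter G θ ∧ (∀ g, θ g = θ (tp g)) ∧ θ v = 4 ∧
      (∀ y, InR S₂ y → θ y = 0) ∧
      (∀ x x' : (P : Subgroup G), E.prod.π x = E.prod.π x' → θ (x : G) = θ (x' : G)) ∧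
      classInner θ (fun _ => 1) = 1 ∧ ∃ n : ℕ, n ≤ 4 ∧ classInner θ θ = n := by
  classical
  haveI : Fact (Nat.Prime 2) := ⟨Nat.prime_two⟩
  haveI : Fintype S₁ := Fintype.ofFinite _
  haveI : Fintype C := Fintype.ofFinite _
  obtain ⟨l, hlv, hl0, hlc, hl2⟩ := E.axis.exists_lam
  obtain ⟨F, hF⟩ : ∃ F, F = fct S₁ C l := ⟨_, rfl⟩
  have hF1 : F 1 = 0 := by
    rw [hF, fct, dif_pos (by simp)]
    simp only [Subgroup.coe_one, show (⟨(1 : G), C.one_mem⟩ : C) = 1 from rfl, map_one, inv_one, Units.val_one]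
    norm_num
  have hFC : ∀ u : S₁, ∀ h : (u : G) ∈ C, F u = 2 - (l ⟨u, h⟩ : ℂ) - ((l ⟨u, h⟩)⁻¹ : ℂˣ) := fun u h => by
    rw [hF, fct, dif_pos h]
  have hFinv : ∀ u : S₁, (u : G) ∈ C → F u⁻¹ = F u := fun u h => by
    rw [hFC u h, hFC u⁻¹ (by rw [Subgroup.coe_inv]; exact inv_mem h),
      show (⟨((u⁻¹ : S₁) : G), _⟩ : C) = ⟨u, h⟩⁻¹ from rfl, map_inv, inv_inv]
    ring
  have hFv : ∀ u : S₁, (u : G) = v → F u = 4 := fun u h => by
    rw [hFC u (h ▸ E.axis.vC), Units.val_inv_eq_inv_val,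
      show (⟨(u : G), h ▸ E.axis.vC⟩ : C) = ⟨v, E.axis.vC⟩ from Subtype.ext h, hlv]
    norm_num
  have hFout : ∀ u : S₁, (u : G) ∉ C → F u = 4 := fun u h => by rw [hF, fct, dif_neg h]
  -- stability
  have hrep : ∀ x x' : (P : Subgroup G), IsConj (x : G) (x' : G) → (E.prod.π x' : G) ∈ C →
      F (E.prod.π x) = F (E.prod.π x') := by
    intro x x' h hx'
    by_cases hx : (E.prod.π x : G) ∈ C
    · rcases E.π_unique h hx hx' with e | e
      · rw [e]
      · rw [e, hFinv _ hx]
    · obtain ⟨x'', h1, h2, h3, -⟩ := E.exists_rep x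
      have hv := h3 hx
      rw [hFout _ hx, ← hFv _ hv]
      rcases E.π_unique (h1.symm.trans h) h2 hx' with e | e
      · rw [e]
      · rw [e, hFinv _ h2]
  have hst : ∀ x y : (P : Subgroup G), IsConj (x : G) (y : G) → F (E.prod.π x) = F (E.prod.π y) := by
    intro x y h
    obtain ⟨y', h1, h2, -, -⟩ := E.exists_rep y
    rw [hrep y y' h1 h2, hrep x y' (h.trans h1) h2]
  obtain ⟨θ, hgen, hsec, hθP⟩ := exists_sectional P (fun x => F (E.prod.π x)) hst
    (IsGeneralizedCharacter.comp (hF ▸ fct_gen E.axis l) E.prod.π)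
  have hcls := IsGeneralizedCharacter.isClassFunction hgen
  have hvP : v ∈ (P : Subgroup G) := E.prod.le₁ (E.axis.le E.axis.vC)
  have hval : ∀ (g k : G) (hk : k * tp g * k⁻¹ ∈ (P : Subgroup G)),
      θ g = F (E.prod.π ⟨_, hk⟩) := fun g k hk => by
    rw [← hθP, hsec g, ← hcls (tp g) k]
  -- the sums
  have hS1 : (Nat.card S₁ : ℂ) = 2 * (Fintype.card C : ℂ) := by
    obtain ⟨s, hs, hsC⟩ := E.axis.out
    have h1 : (Finset.univ.filter fun x : S₁ => ¬ (x : G) ∈ C).card =
        (Finset.univ.filter fun x : S₁ => (x : G) ∈ C).card := by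
      refine Finset.card_bij (fun x _ => x * ⟨s, hs⟩) (fun x hx => ?_) (fun a _ b _ h => mul_right_cancel h)
        fun y hy => ?_
      · simp only [Finset.mem_filter, Finset.mem_univ, true_and] at hx ⊢
        exact E.axis.out_mul _ x.2 hx _ hs hsC
      · simp only [Finset.mem_filter, Finset.mem_univ, true_and] at hy
        refine ⟨y * ⟨s, hs⟩⁻¹, ?_, inv_mul_cancel_right _ _⟩
        simp only [Finset.mem_filter, Finset.mem_univ, true_and, Subgroup.coe_mul, Subgroup.coe_inv]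
        exact fun h => hsC (by simpa using inv_mem ((C.mul_mem_cancel_left hy).1 h))
    have h2 : (Finset.univ.filter fun x : S₁ => (x : G) ∈ C).card = Fintype.card C := by
      rw [← Fintype.card_subtype]
      exact Fintype.card_congr ⟨fun x => ⟨_, x.2⟩, fun u => ⟨⟨u, E.axis.le u.2⟩, u.2⟩, fun x => rfl, fun u => rfl⟩
    have h3 := Finset.card_filter_add_card_filter_not (s := (Finset.univ : Finset S₁)) (fun x : S₁ => (x : G) ∈ C)
    rw [h1, h2, Finset.card_univ] at h3
    rw [Nat.card_eq_fintype_card, ← h3]; push_cast; ring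
  have hmap : ∀ f : S₁ → ℂ, ∑ u ∈ Finset.univ.filter (fun u : S₁ => (u : G) ∈ C), f u =
      ∑ u : C, f ⟨u, E.axis.le u.2⟩ := fun f =>
    Finset.sum_bij' (fun x hx => ⟨x, (Finset.mem_filter.1 hx).2⟩) (fun u _ => ⟨u, E.axis.le u.2⟩)
      (by simp) (by simp) (by simp) (by simp) (by simp)
  have hFu : ∀ u : C, F ⟨u, E.axis.le u.2⟩ = 2 - (l u : ℂ) - conj (l u : ℂ) := fun u => by
    rw [hFC _ u.2, hlc, map_inv]
  have hl0' : ∑ u : C, conj (l u : ℂ) = 0 := by rw [← map_sum, hl0, map_zero]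
  have hn0 : (Fintype.card C : ℂ) ≠ 0 := Nat.cast_ne_zero.2 Fintype.card_ne_zero
  have hG0 : (Nat.card G : ℂ) ≠ 0 := Nat.cast_ne_zero.2 Nat.card_pos.ne'
  have hone : classInner θ (fun _ => 1) = 1 := by
    have h := E.sum_component F hF1 hFinv θ fun g k hk _ => hval g k hk
    rw [hmap, Finset.sum_congr rfl fun u _ => hFu u, hS1] at h
    simp only [Finset.sum_sub_distrib, hl0, hl0', Finset.sum_const, Finset.card_univ, nsmul_eq_mul,
      sub_zero] at h
    simp only [Cfsg.classInner, map_one, mul_one]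
    rw [inv_mul_eq_one₀ hG0]
    exact (mul_left_cancel₀ (mul_ne_zero two_ne_zero hn0) (by rw [h]; ring)).symm
  have hl2' : ∑ u : C, conj (l u : ℂ) ^ 2 = ∑ u : C, (l u : ℂ) ^ 2 := by
    rcases hl2 with e | e <;> rw [e] <;>
      simpa only [map_sum, map_pow, map_zero, map_natCast] using congrArg conj e
  have hnorm : ∃ n : ℕ, n ≤ 4 ∧ classInner θ θ = n := by
    have h := E.sum_component (fun u => F u * conj (F u)) (by simp [hF1]) (fun u hu => by rw [hFinv u hu])
      (fun g => θ g * conj (θ g)) fun g k hk _ => by rw [hval g k hk]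
    rw [hmap, hS1] at h
    have e : ∀ u : C, F ⟨u, E.axis.le u.2⟩ * conj (F ⟨u, E.axis.le u.2⟩) =
        6 - 4 * (l u : ℂ) - 4 * conj (l u : ℂ) + (l u : ℂ) ^ 2 + conj (l u : ℂ) ^ 2 := fun u => by
      have hu : (l u : ℂ) * conj (l u : ℂ) = 1 := by
        rw [hlc, map_inv, ← Units.val_mul, mul_inv_cancel, Units.val_one]
      rw [hFu, map_sub, map_sub, map_ofNat, Complex.conj_conj]
      linear_combination 2 * hu
    rw [Finset.sum_congr rfl fun u _ => e u] at h
    simp only [Finset.sum_sub_distrib, Finset.sum_add_distrib, ← Finset.mul_sum, hl0, hl0', hl2',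
      Finset.sum_const, Finset.card_univ, nsmul_eq_mul, mul_zero, sub_zero] at h
    rcases hl2 with e2 | e2 <;> rw [e2] at h
    · refine ⟨3, by norm_num, ?_⟩
      simp only [Cfsg.classInner]
      rw [inv_mul_eq_iff_eq_mul₀ hG0]
      refine mul_left_cancel₀ (mul_ne_zero two_ne_zero hn0) ?_
      rw [h]; push_cast; ring
    · refine ⟨4, le_rfl, ?_⟩
      simp only [Cfsg.classInner]
      rw [inv_mul_eq_iff_eq_mul₀ hG0]
      refine mul_left_cancel₀ (mul_ne_zero two_ne_zero hn0) ?_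
      rw [h]; push_cast; ring
  refine ⟨θ, hgen, hsec, ?_, fun y hy => ?_, fun x x' e => ?_, hone, hnorm⟩
  · rw [show v = ((⟨v, hvP⟩ : (P : Subgroup G)) : G) from rfl, hθP,
      hFv _ (E.prod.π_of_mem₁ (x := ⟨v, hvP⟩) (E.axis.le E.axis.vC))]
  · obtain ⟨k, hk⟩ := exists_conj_mem P (E.prod.inR_two_elt hy)
    rw [← hcls y k, hθP ⟨_, hk⟩, (E.prod.π_eq_one_iff _).2 (E.prod.mem₂ hk (hy.conj k)), hF1]
  · rw [hθP, hθP, e]

end Cfsg.Agent.ProdFusion
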