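import Cfsg.Agent.Lib.ProdFusion.Pair

/-!
Linear characters of a dihedral factor and the decompositions twisted by them.
-/

set_option autoImplicit false
set_option linter.unusedSectionVars false
set_option linter.style.haveILetI false

namespace Cfsg.Agent.ProdFusion

open Cfsg Cfsg.Agent.SylowSplit
open scoped IsMulCommutative

universe u w

variable {G : Type u} [Group G] [Finite G] {P : Sylow 2 G}

namespace Axis

variable {S C : Subgroup G} {v : G}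

theorem exists_gen (A : Axis S C v) :
    ∃ c ∈ C, ∀ u ∈ C, ∃ i : ℤ, u = c ^ i := by
  haveI := A.cyc
  obtain ⟨⟨c, hc⟩, hgen⟩ := IsCyclic.exists_generator (α := C)
  refine ⟨c, hc, fun u hu => ?_⟩
  obtain ⟨i, hi⟩ := Subgroup.mem_zpowers_iff.1 (hgen ⟨u, hu⟩)
  exact ⟨i, by simpa using (congrArg Subtype.val hi).symm⟩

theorem not_odd_zpow (A : Axis S C v) {c : G} (hgen : ∀ u ∈ C, ∃ i : ℤ, u = c ^ i) (n : ℤ) :
    c ^ (2 * n + 1) ≠ 1 := by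
  intro h
  have h1 : (orderOf c : ℤ) ∣ 2 * n + 1 := orderOf_dvd_iff_zpow_eq_one.2 h
  obtain ⟨i, hi⟩ := hgen v A.vC
  have h2 : 2 ∣ orderOf c := A.v2 ▸ orderOf_dvd_of_mem_zpowers (Subgroup.mem_zpowers_iff.2 ⟨i, hi.symm⟩)
  have h3 : (2 : ℤ) ∣ 2 * n + 1 := (Int.natCast_dvd_natCast.2 h2).trans h1
  omega

/-- A linear character with prescribed values at the two classes of reflections. -/
theorem exists_char (A : Axis S C v) {s c : G} (hs : s ∈ S) (hsC : s ∉ C) (hc : c ∈ C)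
    (hgen : ∀ u ∈ C, ∃ i : ℤ, u = c ^ i) {K : Type w} [CommGroup K] (e₁ e₂ : K) (h₁ : e₁ * e₁ = 1)
    (h₂ : e₂ * e₂ = 1) :
    ∃ f : S →* K, f ⟨s, hs⟩ = e₁ ∧ f ⟨s * c, mul_mem hs (A.le hc)⟩ = e₂ ∧ ∀ x : S, f x * f x = 1 := by
  classical
  have hinv : ∀ n : ℤ, c ^ n * s = s * c ^ (-n) := fun n => by
    have h := A.conj_inv hs hsC (zpow_mem hc (-n))
    rw [← zpow_neg, neg_neg, mul_inv_eq_iff_eq_mul] at h
    exact h.symm
  obtain ⟨E, hE⟩ : ∃ E : Subgroup S, ∀ x : S, x ∈ E ↔ ∃ n : ℤ, (x : G) = c ^ (2 * n) ∨ (x : G) = s * c ^ (2 * n) := by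
    refine ⟨{ carrier := {x | ∃ n : ℤ, (x : G) = c ^ (2 * n) ∨ (x : G) = s * c ^ (2 * n)}
              one_mem' := ⟨0, Or.inl (by simp)⟩
              mul_mem' := ?_
              inv_mem' := ?_ }, fun x => Iff.rfl⟩
    · rintro a b ⟨n, hn | hn⟩ ⟨m, hm | hm⟩
      · exact ⟨n + m, Or.inl (by rw [Subgroup.coe_mul, hn, hm, ← zpow_add, mul_add])⟩
      · exact ⟨-n + m, Or.inr (by
          rw [Subgroup.coe_mul, hn, hm, ← mul_assoc, hinv, mul_assoc, ← zpow_add, mul_add, mul_neg])⟩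
      · exact ⟨n + m, Or.inr (by rw [Subgroup.coe_mul, hn, hm, mul_assoc, ← zpow_add, mul_add])⟩
      · exact ⟨-n + m, Or.inl (by
          rw [Subgroup.coe_mul, hn, hm, mul_assoc, ← mul_assoc (c ^ (2 * n)), hinv, mul_assoc, ← mul_assoc s s,
            A.out_sq s hs hsC, one_mul, ← zpow_add, mul_add, mul_neg])⟩
    · rintro a ⟨n, hn | hn⟩
      · exact ⟨-n, Or.inl (by rw [Subgroup.coe_inv, hn, ← zpow_neg, mul_neg])⟩
      · exact ⟨n, Or.inr (by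
          rw [Subgroup.coe_inv, hn, mul_inv_rev, ← zpow_neg, inv_eq_of_mul_eq_one_right (A.out_sq s hs hsC),
            hinv, neg_neg])⟩
  have hcE : (⟨c, A.le hc⟩ : S) ∉ E := by
    rw [hE]
    rintro ⟨n, h | h⟩
    · refine A.not_odd_zpow hgen (-n) ?_
      rw [zpow_add, zpow_one, mul_neg, zpow_neg]
      exact inv_mul_eq_one.2 h.symm
    · have h' : c = s * c ^ (2 * n) := h
      exact hsC (by rw [eq_mul_inv_of_mul_eq h'.symm]; exact mul_mem hc (inv_mem (zpow_mem hc _)))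
  have hidx : E.index = 2 := by
    rw [Subgroup.index_eq_two_iff]
    refine ⟨⟨c, A.le hc⟩, fun x => ?_⟩
    have hcov : x * ⟨c, A.le hc⟩ ∈ E ∨ x ∈ E := by
      by_cases hx : (x : G) ∈ C
      · obtain ⟨i, hi⟩ := hgen x hx
        rcases Int.even_or_odd' i with ⟨j, rfl | rfl⟩
        · exact Or.inr ((hE x).2 ⟨j, Or.inl hi⟩)
        · exact Or.inl ((hE _).2 ⟨j + 1, Or.inl (by
            rw [Subgroup.coe_mul, hi, ← zpow_add_one]; congr 1; ring)⟩)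
      · obtain ⟨i, hi⟩ := hgen (s * (x : G)) (A.out_mul s hs hsC x x.2 hx)
        have hx' : (x : G) = s * c ^ i := by rw [← hi, ← mul_assoc, A.out_sq s hs hsC, one_mul]
        rcases Int.even_or_odd' i with ⟨j, rfl | rfl⟩
        · exact Or.inr ((hE x).2 ⟨j, Or.inr hx'⟩)
        · exact Or.inl ((hE _).2 ⟨j + 1, Or.inr (by
            rw [Subgroup.coe_mul, hx', mul_assoc, ← zpow_add_one]; congr 2; ring)⟩)
    rcases hcov with h | h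
    · exact Or.inl ⟨h, fun h' => hcE ((E.mul_mem_cancel_left h').1 h)⟩
    · exact Or.inr ⟨h, fun h' => hcE ((E.mul_mem_cancel_left h).1 h')⟩
  have hidC : (C.subgroupOf S).index = 2 := by
    rw [Subgroup.index_eq_two_iff]
    refine ⟨⟨s, hs⟩, fun x => ?_⟩
    by_cases hx : (x : G) ∈ C
    · exact Or.inr ⟨hx, fun h => hsC ((C.mul_mem_cancel_left hx).1 h)⟩
    · exact Or.inl ⟨A.out_mul x x.2 hx s hs hsC, hx⟩
  have hhom : ∀ (H : Subgroup S), H.index = 2 → ∀ d : K, d * d = 1 → ∀ x y : S,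
      (if x * y ∈ H then (1 : K) else d) = (if x ∈ H then 1 else d) * (if y ∈ H then 1 else d) := by
    intro H hH d hd x y
    have := Subgroup.mul_mem_iff_of_index_two hH (a := x) (b := y)
    by_cases hx : x ∈ H <;> by_cases hy : y ∈ H <;> simp [this, hx, hy, hd]
  refine ⟨MonoidHom.mk' (fun x => (if x ∈ C.subgroupOf S then 1 else e₁) * (if x ∈ E then 1 else e₁ * e₂))
    fun x y => ?_, ?_, ?_, fun x => ?_⟩
  · rw [hhom _ hidC e₁ h₁, hhom _ hidx (e₁ * e₂) (by rw [mul_mul_mul_comm, h₁, h₂, one_mul])]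
    exact mul_mul_mul_comm _ _ _ _
  · simp only [MonoidHom.mk'_apply, Subgroup.mem_subgroupOf, hsC, if_false,
      show (⟨s, hs⟩ : S) ∈ E from (hE _).2 ⟨0, Or.inr (by simp)⟩, if_true, mul_one]
  · have h1 : s * c ∉ C := fun h => hsC ((C.mul_mem_cancel_right hc).1 h)
    have h2 : (⟨s * c, mul_mem hs (A.le hc)⟩ : S) ∉ E := fun h => hcE
      ((E.mul_mem_cancel_left ((hE ⟨s, hs⟩).2 ⟨0, Or.inr (by simp)⟩)).1
        (show (⟨s, hs⟩ : S) * ⟨c, A.le hc⟩ ∈ E from h))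
    simp only [MonoidHom.mk'_apply, Subgroup.mem_subgroupOf, h1, if_false, h2]
    rw [← mul_assoc, h₁, one_mul]
  · simp only [MonoidHom.mk'_apply]
    rw [mul_mul_mul_comm]
    split_ifs <;> simp only [one_mul, mul_one, h₁, mul_mul_mul_comm e₁ e₂, h₂]

/-- There are two classes of reflections. -/
theorem two_classes (A : Axis S C v) {s c : G} (hs : s ∈ S) (hsC : s ∉ C) (hc : c ∈ C)
    (hgen : ∀ u ∈ C, ∃ i : ℤ, u = c ^ i) {x : G} (hx : x ∈ S) (hxC : x ∉ C) :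
    ∃ p ∈ S, p * s * p⁻¹ = x ∨ p * (s * c) * p⁻¹ = x := by
  obtain ⟨i, hi⟩ := hgen (s * x) (A.out_mul s hs hsC x hx hxC)
  have hx' : x = s * c ^ i := by rw [← hi, ← mul_assoc, A.out_sq s hs hsC, one_mul]
  have hinv : ∀ n : ℤ, c ^ n * s = s * c ^ (-n) := fun n => by
    have h := A.conj_inv hs hsC (zpow_mem hc (-n))
    rw [← zpow_neg, neg_neg, mul_inv_eq_iff_eq_mul] at h
    exact h.symm
  rcases Int.even_or_odd' i with ⟨j, rfl | rfl⟩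
  · refine ⟨c ^ (-j), A.le (zpow_mem hc _), Or.inl ?_⟩
    rw [hinv, neg_neg, hx', ← zpow_neg, neg_neg, mul_assoc, ← zpow_add, two_mul]
  · refine ⟨c ^ (-j), A.le (zpow_mem hc _), Or.inr ?_⟩
    rw [← mul_assoc, hinv, neg_neg, hx', ← zpow_neg, neg_neg, mul_assoc, mul_assoc, ← zpow_one_add, ← zpow_add]
    congr 2
    ring

end Axis

variable {S₁ S₂ C₁ C₂ : Subgroup G} {v₁ v₂ : G}

/-- Changing the second factor by central involutions of the first. -/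
theorem Pair.twist (D : Pair P S₁ S₂ C₁ C₂ v₁ v₂) {s c r : G} (hs : s ∈ S₂) (hsC : s ∉ C₂) (hc : c ∈ C₂)
    (hgen : ∀ u ∈ C₂, ∃ i : ℤ, u = c ^ i) (hr : r ∈ C₂) (hr2 : r * r = v₂) {e₁ e₂ : G} (he₁ : e₁ ∈ S₁)
    (he₂ : e₂ ∈ S₁) (hz₁ : ∀ z ∈ (P : Subgroup G), Commute e₁ z) (hz₂ : ∀ z ∈ (P : Subgroup G), Commute e₂ z)
    (hq₁ : e₁ * e₁ = 1) (hq₂ : e₂ * e₂ = 1) :
    ∃ S' C' : Subgroup G, Pair P S₁ S' C₁ C' v₁ v₂ ∧ Nonempty (S₂ ≃* S') ∧ (∃ r' ∈ C', r' * r' = v₂) ∧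
      ∀ x ∈ S', x ∉ C' → ∃ p ∈ (P : Subgroup G), p * (s * e₁) * p⁻¹ = x ∨ p * (s * c * e₂) * p⁻¹ = x := by
  have hmemZ : ∀ {e : G} (he : e ∈ S₁), (∀ z ∈ (P : Subgroup G), Commute e z) →
      (⟨e, he⟩ : S₁) ∈ Subgroup.center S₁ := fun {e} he hz =>
    Subgroup.mem_center_iff.2 fun g => Subtype.ext (hz g (D.le₁ g.2)).eq.symm
  obtain ⟨f, hf1, hf2, hfsq⟩ := D.ax₂.exists_char hs hsC hc hgen (K := Subgroup.center S₁)
    ⟨_, hmemZ he₁ hz₁⟩ ⟨_, hmemZ he₂ hz₂⟩ (Subtype.ext (Subtype.ext hq₁)) (Subtype.ext (Subtype.ext hq₂))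
  obtain ⟨ι, hι⟩ : ∃ ι : Subgroup.center S₁ →* G, ι = S₁.subtype.comp (Subgroup.center S₁).subtype := ⟨_, rfl⟩
  have hιS : ∀ z, ι z ∈ S₁ := fun z => by rw [hι]; exact (z : S₁).2
  have hιc : ∀ z, ∀ g ∈ (P : Subgroup G), Commute (ι z) g := fun z g hg => by
    obtain ⟨a, ha, b, hb, rfl⟩ := D.split hg
    refine Commute.mul_right ?_ (D.comm (hιS z) hb)
    rw [hι]
    exact (congrArg Subtype.val (Subgroup.mem_center_iff.1 z.2 ⟨a, ha⟩)).symm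
  obtain ⟨ψ, hψ⟩ : ∃ ψ : S₂ →* G, ∀ x, ψ x = (x : G) * ι (f x) := ⟨MonoidHom.mk' (fun x => (x : G) * ι (f x))
    fun x y => by
      rw [map_mul, map_mul, Subgroup.coe_mul]
      exact (hιc (f x) y (D.le₂ y.2)).symm.mul_mul_mul_comm (x : G) (ι (f y)), fun x => rfl⟩
  have hinj : Function.Injective ψ := fun x y h => by
    rw [hψ, hψ, ← (D.comm (hιS _) x.2).eq, ← (D.comm (hιS _) y.2).eq] at h
    exact Subtype.ext (D.split_eq (hιS _) (hιS _) x.2 y.2 h).2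
  have hv : ψ ⟨v₂, D.ax₂.vS⟩ = v₂ := by
    rw [hψ, show (⟨v₂, D.ax₂.vS⟩ : S₂) = ⟨r, D.ax₂.le hr⟩ * ⟨r, D.ax₂.le hr⟩ from Subtype.ext hr2.symm,
      map_mul, hfsq, map_one, mul_one, Subgroup.coe_mul, hr2]
  refine ⟨ψ.range, (C₂.subgroupOf S₂).map ψ, ⟨⟨D.le₁, ?_, ?_, ?_, le_antisymm (sup_le D.le₁ ?_) ?_⟩, D.ax₁, ?_⟩,
    ⟨MonoidHom.ofInjective hinj⟩, ⟨ψ ⟨r, D.ax₂.le hr⟩, Subgroup.mem_map_of_mem ψ (show (⟨r, D.ax₂.le hr⟩ : S₂) ∈
      C₂.subgroupOf S₂ from hr), by rw [← map_mul]; exact (congrArg ψ (Subtype.ext hr2)).trans hv⟩, ?_⟩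
  · rintro _ ⟨x, rfl⟩; rw [hψ]; exact mul_mem (D.le₂ x.2) (D.le₁ (hιS _))
  · rintro a ha _ ⟨x, rfl⟩
    rw [hψ]
    exact ((D.comm ha x.2).mul_right (hιc (f x) a (D.le₁ ha)).symm).eq
  · rw [eq_bot_iff]
    rintro y ⟨hy, x, rfl⟩
    rw [hψ] at hy ⊢
    rw [← (D.comm (hιS _) x.2).eq] at hy
    have hx : x = 1 := Subtype.ext ((D.mem₁_iff (hιS _) x.2).1 hy)
    rw [hx, map_one, map_one, Subgroup.coe_one, one_mul]
    exact one_mem _
  · rintro _ ⟨x, rfl⟩; rw [hψ]; exact mul_mem (D.le₂ x.2) (D.le₁ (hιS _))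
  · intro g hg
    obtain ⟨a, ha, b, hb, rfl⟩ := D.split hg
    have e : a * b = a * (ι (f ⟨b, hb⟩))⁻¹ * ψ ⟨b, hb⟩ := by
      rw [hψ, mul_assoc, ← mul_assoc _ b, (D.comm (inv_mem (hιS _)) hb).eq, mul_assoc b, inv_mul_cancel, mul_one]
    rw [e]
    exact mul_mem (Subgroup.mem_sup_left (mul_mem ha (inv_mem (hιS _)))) (Subgroup.mem_sup_right ⟨_, rfl⟩)
  · have hmemC : ∀ x : S₂, ψ x ∈ (C₂.subgroupOf S₂).map ψ ↔ (x : G) ∈ C₂ := fun x =>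
      Subgroup.mem_map_iff_mem (K := C₂.subgroupOf S₂) hinj
    refine ⟨Subgroup.map_le_range _ _, ?_, ⟨_, D.ax₂.vC, hv⟩, D.ax₂.v2, ?_, ?_, ?_⟩
    · haveI := D.ax₂.cyc
      haveI : IsCyclic (C₂.subgroupOf S₂) := isCyclic_of_injective
        (Subgroup.subgroupOfEquivOfLe D.ax₂.le).toMonoidHom (Subgroup.subgroupOfEquivOfLe D.ax₂.le).injective
      exact isCyclic_of_surjective _ (MonoidHom.subgroupMap_surjective ψ (C₂.subgroupOf S₂))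
    · rintro _ ⟨x, rfl⟩ hx
      rw [← map_mul, show x * x = 1 from Subtype.ext (D.ax₂.out_sq x x.2 fun h => hx ((hmemC x).2 h)), map_one]
    · rintro _ ⟨x, rfl⟩ hx _ ⟨y, rfl⟩ hy
      rw [← map_mul]
      exact (hmemC _).2 (D.ax₂.out_mul x x.2 (fun h => hx ((hmemC x).2 h)) y y.2 fun h => hy ((hmemC y).2 h))
    · obtain ⟨t, ht, htC⟩ := D.ax₂.out
      exact ⟨ψ ⟨t, ht⟩, ⟨_, rfl⟩, fun h => htC ((hmemC _).1 h)⟩
  · rintro _ ⟨x, rfl⟩ hx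
    have hxC : (x : G) ∉ C₂ := fun h => hx (Subgroup.mem_map_of_mem ψ (show x ∈ C₂.subgroupOf S₂ from h))
    have hval : ∀ (y : S₂) (p : S₂) (e : G), ι (f y) = e → ψ (p * y * p⁻¹) = (p : G) * ((y : G) * e) * (p : G)⁻¹ := by
      intro y p e he
      have hf : f (p * y * p⁻¹) = f y := by rw [map_mul, map_mul, map_inv, mul_comm (f p), mul_inv_cancel_right]
      rw [hψ, hf, he, Subgroup.coe_mul, Subgroup.coe_mul, Subgroup.coe_inv, mul_assoc _ _ e]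
      have hc' : Commute e (p : G)⁻¹ := he ▸ hιc _ _ (inv_mem (D.le₂ p.2))
      rw [← hc'.eq]
      group
    obtain ⟨p, hp, h | h⟩ := D.ax₂.two_classes hs hsC hc hgen x.2 hxC
    · refine ⟨p, D.le₂ hp, Or.inl ?_⟩
      rw [show x = ⟨p, hp⟩ * ⟨s, hs⟩ * ⟨p, hp⟩⁻¹ from Subtype.ext h.symm, hval _ _ e₁ (by rw [hf1, hι]; rfl)]
    · refine ⟨p, D.le₂ hp, Or.inr ?_⟩
      rw [show x = ⟨p, hp⟩ * ⟨s * c, mul_mem hs (D.ax₂.le hc)⟩ * ⟨p, hp⟩⁻¹ from Subtype.ext h.symm,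
        hval _ _ e₂ (by rw [hf2, hι]; rfl)]

end Cfsg.Agent.ProdFusion
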